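import Cfsg.Agent.Lib.JComp.Basic
import Cfsg.Agent.Lib.Subnormal.Basic
import Cfsg.Agent.Lib.Layer.Radical
import Cfsg.Agent.Lib.PReduced.Largest

/-!
# Subnormal subgroups generated by their elements of odd order
-/

set_option autoImplicit false

namespace CfsgLib.JComp

/-- Odd order elements of a group lie in a subnormal subgroup of 2-power index. -/
theorem odd_mem_of_subnormal {M : Type*} [Group M] [Finite M] {K : Subgroup M} (hs : K.IsSubnormal) :
    ∀ {n : ℕ}, K.index ∣ 2 ^ n → ∀ g : M, Odd (orderOf g) → g ∈ K := by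
  induction hs with
  | top => intro n _ g _; trivial
  | step H L hle hL hN ih =>
    intro n hd g hg
    rw [← Subgroup.relIndex_mul_index hle] at hd
    have hgL : g ∈ L := ih ((dvd_mul_left _ _).trans hd) g hg
    haveI := hN
    have h1 : orderOf (QuotientGroup.mk' (H.subgroupOf L) ⟨g, hgL⟩) ∣ orderOf g := by
      have := orderOf_map_dvd (QuotientGroup.mk' (H.subgroupOf L)) ⟨g, hgL⟩
      rwa [Subgroup.orderOf_mk] at this
    have h2 : orderOf (QuotientGroup.mk' (H.subgroupOf L) ⟨g, hgL⟩) ∣ 2 ^ n := by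
      refine (orderOf_dvd_natCard _).trans ?_
      exact ((dvd_mul_right _ _).trans hd : H.relIndex L ∣ 2 ^ n)
    have := Nat.eq_one_of_dvd_coprimes (hg.coprime_two_right.pow_right n) h1 h2
    rw [orderOf_eq_one_iff] at this
    exact (QuotientGroup.eq_one_iff (N := H.subgroupOf L) _).1 this

variable {G : Type*} [Group G] [Finite G]

/-- A normal 2-subgroup normalizes subnormal subgroups generated by odd order elements. -/
theorem le_normalizer_of_subnormal {K Q M : Subgroup G} (hKM : K ≤ M) (hQM : Q ≤ M)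
    (hs : (K.subgroupOf M).IsSubnormal) (hgen : Subgroup.closure {g : G | g ∈ K ∧ Odd (orderOf g)} = K)
    (hQ : IsPGroup 2 Q) (hQn : M ≤ Subgroup.normalizer (Q : Set G)) :
    Q ≤ Subgroup.normalizer (K : Set G) := by
  classical
  set L := K ⊔ Q with hL
  have hsL : (K.subgroupOf L).IsSubnormal := by
    have := hs.comap (Subgroup.inclusion (sup_le hKM hQM : L ≤ M))
    exact this
  have hKn : K ≤ Subgroup.normalizer (Q : Set G) := hKM.trans hQn
  obtain ⟨n, hn⟩ := IsPGroup.iff_card.1 hQ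
  have hidx : (K.subgroupOf L).index ∣ 2 ^ n := by
    rw [← hn]
    have h1 := Subgroup.card_mul_index (K.subgroupOf L)
    rw [Nat.card_congr (Subgroup.subgroupOfEquivOfLe (le_sup_left : K ≤ L)).toEquiv] at h1
    haveI : (Q.subgroupOf L).Normal :=
      (Subgroup.normal_subgroupOf_iff_le_normalizer le_sup_right).2 (sup_le hKn Subgroup.le_normalizer)
    let f : K →* ↥L ⧸ Q.subgroupOf L := (QuotientGroup.mk' _).comp (Subgroup.inclusion le_sup_left)
    have hf : Function.Surjective f := by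
      intro q
      obtain ⟨l, rfl⟩ := QuotientGroup.mk'_surjective _ q
      have hl : (l : G) ∈ ((K ⊔ Q : Subgroup G) : Set G) := l.2
      rw [Subgroup.coe_mul_of_left_le_normalizer_right _ _ hKn] at hl
      obtain ⟨k, hk, x, hx, hkx⟩ := hl
      refine ⟨⟨k, hk⟩, QuotientGroup.eq.2 ?_⟩
      show k⁻¹ * (l : G) ∈ Q
      rw [← hkx]; simpa using hx
    obtain ⟨c, hc⟩ := Subgroup.card_dvd_of_surjective f hf
    have h2 := Subgroup.card_mul_index (Q.subgroupOf L)
    rw [Nat.card_congr (Subgroup.subgroupOfEquivOfLe (le_sup_right : Q ≤ L)).toEquiv,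
      Subgroup.index_eq_card, ← h1, hc, mul_assoc] at h2
    -- `|Q| * |L/Q| = |K| * index`, and `|L/Q|` divides `|K|`
    have h3 : Nat.card Q = c * (K.subgroupOf L).index := by
      have hpos : 0 < Nat.card (↥L ⧸ Q.subgroupOf L) := Nat.card_pos
      exact Nat.eq_of_mul_eq_mul_left hpos (by rw [mul_comm, h2])
    exact h3 ▸ dvd_mul_left _ _
  intro q hq
  have key : ∀ q ∈ Q, ∀ x ∈ K, q * x * q⁻¹ ∈ K := by
    intro q hq
    suffices K ≤ K.comap (MulAut.conj q).toMonoidHom from fun x hx => this hx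
    conv_lhs => rw [← hgen]
    rw [Subgroup.closure_le]
    rintro g ⟨hg, hodd⟩
    show q * g * q⁻¹ ∈ K
    have hmem : q * g * q⁻¹ ∈ L :=
      mul_mem (mul_mem (Subgroup.mem_sup_right hq) (Subgroup.mem_sup_left hg)) (inv_mem (Subgroup.mem_sup_right hq))
    exact odd_mem_of_subnormal hsL hidx ⟨_, hmem⟩ (by
      rw [Subgroup.orderOf_mk]
      have : SemiconjBy q g (q * g * q⁻¹) := by simp [SemiconjBy]
      rw [← this.orderOf_eq]; exact hodd)
  refine Subgroup.mem_normalizer_iff.2 fun x => ⟨key q hq x, fun hx => ?_⟩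
  simpa [mul_assoc] using key q⁻¹ (inv_mem hq) _ hx

/-- The 2-core of a subnormal subgroup lies in the 2-core. -/
theorem pCoreOf_le_of_subnormal {K M : Subgroup G} (hKM : K ≤ M) (hs : (K.subgroupOf M).IsSubnormal) :
    Cfsg.pCoreOf 2 K ≤ Cfsg.pCoreOf 2 M := by
  have hle : Cfsg.pCoreOf 2 K ≤ M := (CfsgLib.Signalizer.pCoreOf_le 2 K).trans hKM
  have h1 : ((Cfsg.pCoreOf 2 K).subgroupOf M).IsSubnormal := by
    refine Subgroup.IsSubnormal.step _ (K.subgroupOf M)
      (Subgroup.comap_mono (CfsgLib.Signalizer.pCoreOf_le 2 K)) hs ?_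
    refine (Subgroup.normal_subgroupOf_iff_le_normalizer
      (Subgroup.comap_mono (CfsgLib.Signalizer.pCoreOf_le 2 K))).2 ?_
    intro x hx
    have hxN : (x : G) ∈ Subgroup.normalizer (Cfsg.pCoreOf 2 K : Set G) :=
      CfsgLib.Signalizer.normalizer_le_normalizer_pCoreOf 2 Subgroup.le_normalizer hx
    refine Subgroup.mem_normalizer_iff.2 fun y => ?_
    exact Subgroup.mem_normalizer_iff.1 hxN y
  have h2 := Layer.le_pCore_of_isSubnormal h1
    ((CfsgLib.PReduced.isPGroup_pCoreOf 2 K).comap_of_injective M.subtype M.subtype_injective)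
  intro x hx
  exact ⟨⟨x, hle hx⟩, h2 hx, rfl⟩

end CfsgLib.JComp
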