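import Cfsg.Agent.Lib.JComp.Central
import Cfsg.Agent.Lib.Layer.CharP
import Cfsg.Agent.S2858

/-!
# Two normalized components give an amalgam of symmetric groups of degree four
-/

set_option autoImplicit false
set_option linter.style.haveILetI false

namespace CfsgLib.JComp

open scoped commutatorElement

universe u

variable {G : Type u} [Group G] [Finite G]

/-- A component normalized by `T`, with `T` centralizing `Ω₁(Z(J(T)))`. -/
structure Fixed (M T K : Subgroup G) : Prop where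
  P : MaxStrad M T
  O : Out M T K
  norm : T ≤ Subgroup.normalizer (K : Set G)
  central : T ≤ Subgroup.centralizer (Cfsg.omegaCenterOf (CfsgLib.Transfer.thompsonJ 2 T) : Set G)

variable {M T K : Subgroup G}

theorem Fixed.omega_eq (F : Fixed M T K) :
    Cfsg.omegaCenterOf T = Cfsg.omegaCenterOf (CfsgLib.Transfer.thompsonJ 2 T) := by
  refine le_antisymm (omegaCenterOf_le_J T) fun v hv => ?_
  exact mem_omegaCenterOf (CfsgLib.Transfer.thompsonJ_le 2 T (omegaCenterOf_le _ hv))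
    (fun t ht => (Subgroup.mem_centralizer_iff.1 (F.central ht) v hv).symm) (omegaCenterOf_sq hv)

theorem Fixed.sup_le_normalizer (F : Fixed M T K) : K ⊔ T ≤ Subgroup.normalizer (Cfsg.wOf K : Set G) :=
  (sup_le Subgroup.le_normalizer F.norm).trans (normalizer_le_normalizer_wOf K)

theorem Fixed.sup_le_maxLocal (F : Fixed M T K) : K ⊔ T ≤ maxLocal M T K := by
  obtain ⟨h1, -, h3, h4⟩ := F.P.normalizer_local F.O
  exact F.sup_le_normalizer.trans (F.P.local_le_maxLocal F.O h1 h3 h4)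

theorem Fixed.overgroup (F : Fixed M T K) : maxLocal M T K ∈ Cfsg.jOvergroups T :=
  (F.P.local_over (F.P.maxLocal_isTwoLocal F.O) (F.P.maxLocal_not_le F.O)
    (le_sup_right.trans F.sup_le_maxLocal)).1

/-- The facts about `⟨K, T⟩`. -/
structure KTFacts (T K : Subgroup G) : Prop where
  cent : Subgroup.centralizer (Cfsg.pCoreOf 2 (K ⊔ T) : Set G) ≤ Cfsg.pCoreOf 2 (K ⊔ T)
  sylow : Cfsg.IsSylowTwoIn T (K ⊔ T)
  index : (Cfsg.pCoreOf 2 (K ⊔ T)).relIndex (K ⊔ T) = 6
  card : Nat.card ↥(K ⊔ T) = 3 * Nat.card T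
  card' : Nat.card ↥(K ⊔ T) = 6 * Nat.card (Cfsg.pCore 2 ↥(K ⊔ T))
  quot : Nonempty (↥(K ⊔ T) ⧸ Cfsg.pCore 2 ↥(K ⊔ T) ≃* Equiv.Perm (Fin 3))
  nonab : ¬ ⁅K ⊔ T, K ⊔ T⁆ ≤ Cfsg.pCoreOf 2 (K ⊔ T)
  active : ¬ K ⊔ T ≤ Subgroup.centralizer (Cfsg.omegaCenterOf T : Set G)
  wle : Cfsg.wOf K ≤ Cfsg.pCoreOf 2 (K ⊔ T)

theorem Fixed.facts (F : Fixed M T K) : KTFacts T K := by
  classical
  haveI : Fact (Nat.Prime 2) := ⟨Nat.prime_two⟩
  have S := F.P.setting F.O.comp
  have hT := F.P.isPGroup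
  set H := K ⊔ T with hH
  have hHW := F.sup_le_normalizer
  have hnW : ∀ h ∈ H, ∀ w ∈ Cfsg.wOf K, h * w * h⁻¹ ∈ Cfsg.wOf K := fun h hh w hw =>
    (Subgroup.mem_normalizer_iff.1 (hHW hh) w).1 hw
  have hnW' : ∀ h ∈ H, ∀ w ∈ Cfsg.wOf K, h⁻¹ * w * h ∈ Cfsg.wOf K := fun h hh w hw =>
    (Subgroup.mem_normalizer_iff''.1 (hHW hh) w).1 hw
  let act : ↥H → Equiv.Perm (Pts K) := fun h =>
    { toFun := fun x => ⟨h * x.1 * (h : G)⁻¹, hnW h h.2 _ x.2.1, fun e => x.2.2 (conj_eq_one_iff.1 e)⟩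
      invFun := fun x => ⟨(h : G)⁻¹ * x.1 * h, hnW' h h.2 _ x.2.1, fun e => x.2.2 (by
        have h2 := congrArg (fun z => (h : G) * z * (h : G)⁻¹) e
        simpa [mul_assoc] using h2)⟩
      left_inv := fun x => Subtype.ext (by show (h : G)⁻¹ * ((h : G) * x.1 * (h : G)⁻¹) * h = x.1; group)
      right_inv := fun x => Subtype.ext (by show (h : G) * ((h : G)⁻¹ * x.1 * h) * (h : G)⁻¹ = x.1; group) }
  let φ : ↥H →* Equiv.Perm (Pts K) :=
    { toFun := act
      map_one' := Equiv.ext fun x => Subtype.ext (by show (1 : G) * x.1 * (1 : G)⁻¹ = x.1; simp)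
      map_mul' := fun a b => Equiv.ext fun x => Subtype.ext (by
        show (a : G) * b * x.1 * ((a : G) * b)⁻¹ = (a : G) * ((b : G) * x.1 * (b : G)⁻¹) * (a : G)⁻¹
        group) }
  have hJH : K ⊔ CfsgLib.Transfer.thompsonJ 2 T ≤ H := sup_le_sup_left (CfsgLib.Transfer.thompsonJ_le 2 T) K
  have hsurj : Function.Surjective φ := by
    intro σ
    obtain ⟨h, rfl⟩ := S.phi_surjective σ
    exact ⟨⟨h, hJH h.2⟩, Equiv.ext fun x => Subtype.ext rfl⟩
  -- orders
  have hover := F.overgroup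
  have hcore : Cfsg.pCoreOf 2 (maxLocal M T K) ≤ T :=
    (Over.R_le_T ⟨F.P.amb, hT, F.P.ne_bot, hover⟩)
  have hQT : Cfsg.pCoreOf 2 K ≤ T := by
    obtain ⟨Y, D⟩ := Over.exists_local ⟨F.P.amb, hT, F.P.ne_bot, hover⟩
    obtain ⟨g, -, hsn⟩ := Comp.of_component ⟨F.P.amb, hT, F.P.ne_bot, hover⟩ D S (le_sup_left.trans F.sup_le_maxLocal)
    exact (pCoreOf_le_of_subnormal (le_sup_left.trans F.sup_le_maxLocal) hsn).trans hcore
  have hQK : Cfsg.pCoreOf 2 K ≤ K := CfsgLib.Signalizer.pCoreOf_le 2 K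
  have hKT : Nat.card (K ⊓ T : Subgroup G) * 3 = Nat.card K := by
    have h1 : ∀ {A B : Subgroup G}, A ≤ B → Nat.card A * A.relIndex B = Nat.card B := fun {A B} h => by
      simpa using Subgroup.relIndex_mul_relIndex ⊥ A B bot_le h
    have h2 := Subgroup.relIndex_mul_relIndex (Cfsg.pCoreOf 2 K) (K ⊓ T) K (le_inf hQK hQT) inf_le_left
    rw [S.hK.2.2.1] at h2
    rcases (Nat.dvd_prime Nat.prime_three).1 ⟨_, h2.symm⟩ with e | e
    · rw [e, one_mul] at h2
      rw [← h2]; exact h1 inf_le_left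
    · exfalso
      obtain ⟨g, hgK, hodd, hg⟩ := S.moves
      rw [e] at h2
      have hle : K ≤ T := fun x hx => (Subgroup.relIndex_eq_one.1 (by omega : (K ⊓ T).relIndex K = 1) hx).2
      obtain ⟨k, hk⟩ := hT ⟨g, hle hgK⟩
      have h1g : orderOf g = 1 := Nat.eq_one_of_dvd_coprimes (hodd.coprime_two_right.pow_right k) dvd_rfl
        (orderOf_dvd_of_pow_eq_one (congrArg Subtype.val hk))
      obtain ⟨w, hw, -, hw1, -, -, -⟩ := S.exists_point
      obtain ⟨w', hw', -, hw'1, -, -, -⟩ := S.exists_point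
      exact hw1 (hg.fpf w hw (by rw [orderOf_eq_one_iff.1 h1g, one_mul, mul_one]))
  have hcard : Nat.card H = 3 * Nat.card T := by
    haveI : (K.subgroupOf H).Normal :=
      (Subgroup.normal_subgroupOf_iff_le_normalizer le_sup_left).2 (sup_le Subgroup.le_normalizer F.norm)
    let f : T →* ↥H ⧸ K.subgroupOf H :=
      (QuotientGroup.mk' _).comp (Subgroup.inclusion le_sup_right)
    have hf : Function.Surjective f := by
      intro q
      obtain ⟨h, rfl⟩ := QuotientGroup.mk'_surjective _ q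
      have hmem : (h : G) ∈ (((T ⊔ K) : Subgroup G) : Set G) := (sup_comm K T).le h.2
      rw [Subgroup.coe_mul_of_left_le_normalizer_right _ _ F.norm] at hmem
      obtain ⟨t, ht, k, hk, hjk⟩ := hmem
      refine ⟨⟨t, ht⟩, ?_⟩
      show QuotientGroup.mk' _ _ = QuotientGroup.mk' _ h
      refine QuotientGroup.eq.2 ?_
      show (t : G)⁻¹ * (h : G) ∈ K
      rw [← hjk]
      simpa using hk
    have hker : f.ker = (K ⊓ T).subgroupOf T := by
      ext t
      refine (QuotientGroup.eq_one_iff (N := K.subgroupOf H) (Subgroup.inclusion le_sup_right t)).trans ?_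
      exact ⟨fun h => Subgroup.mem_inf.2 ⟨h, t.2⟩, fun h => (Subgroup.mem_inf.1 h).1⟩
    have h1 := Subgroup.card_eq_card_quotient_mul_card_subgroup f.ker
    rw [Nat.card_congr (QuotientGroup.quotientKerEquivOfSurjective f hf).toEquiv, hker,
      Nat.card_congr (Subgroup.subgroupOfEquivOfLe (inf_le_right : K ⊓ T ≤ T)).toEquiv] at h1
    have h2 := Subgroup.card_eq_card_quotient_mul_card_subgroup (K.subgroupOf H)
    rw [Nat.card_congr (Subgroup.subgroupOfEquivOfLe (le_sup_left : K ≤ H)).toEquiv, ← hKT] at h2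
    rw [h2, h1]; ring
  have h6 : Nat.card (Equiv.Perm (Pts K)) = 6 := by rw [Nat.card_perm, S.card_pts]; rfl
  have hker : 6 * Nat.card φ.ker = 3 * Nat.card T := by
    have h1 := Subgroup.card_eq_card_quotient_mul_card_subgroup φ.ker
    rw [Nat.card_congr (QuotientGroup.quotientKerEquivOfSurjective φ hsurj).toEquiv, h6, hcard] at h1
    exact h1.symm
  have hkerp : IsPGroup 2 φ.ker := by
    obtain ⟨n, hn⟩ := IsPGroup.iff_card.1 hT
    have h2 : 2 * Nat.card φ.ker = 2 ^ n := by omega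
    obtain ⟨m, -, hm⟩ := (Nat.dvd_prime_pow Nat.prime_two).1 ⟨2, by rw [← h2, mul_comm]⟩
    exact IsPGroup.iff_card.2 ⟨m, hm⟩
  have hcorem : ∀ x : H, x ∈ Cfsg.pCore 2 ↥H → (x : G) ∈ Cfsg.pCoreOf 2 H := fun x hx => ⟨x, hx, rfl⟩
  have heq : Cfsg.pCore 2 ↥H = φ.ker := by
    refine le_antisymm ?_ (CfsgLib.Fitting.le_pCore inferInstance hkerp)
    intro x hx
    obtain ⟨g, hgK, -, hg⟩ := S.moves
    have hgR : g ∈ Subgroup.normalizer (Cfsg.pCoreOf 2 H : Set G) :=
      CfsgLib.Signalizer.normalizer_le_normalizer_pCoreOf 2 Subgroup.le_normalizer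
        (Subgroup.mem_sup_left hgK : g ∈ H)
    have hc := hg.centralizes_of_normalizes S.card_W (CfsgLib.PReduced.isPGroup_pCoreOf 2 H)
      (fun q hq w hw => hnW q (CfsgLib.Signalizer.pCoreOf_le 2 H hq) w hw)
      (fun q hq => (Subgroup.mem_normalizer_iff''.1 hgR q).1 hq) x (hcorem x hx)
    exact MonoidHom.mem_ker.2 (Equiv.ext fun y => Subtype.ext (mul_inv_eq_iff_eq_mul.2 (hc y.1 y.2.1)))
  obtain ⟨z, hzW, hzZ, hz1, hznot, -, -⟩ := S.exists_point
  have hodd : Odd (T.relIndex H) := by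
    have h : Nat.card T * T.relIndex H = Nat.card H := by
      simpa using Subgroup.relIndex_mul_relIndex ⊥ T H bot_le le_sup_right
    rw [hcard, mul_comm 3] at h
    rw [Nat.eq_of_mul_eq_mul_left Nat.card_pos h]
    decide
  have hRL : Cfsg.pCoreOf 2 (maxLocal M T K) ≤ Cfsg.pCoreOf 2 H := by
    have hle : Cfsg.pCoreOf 2 (maxLocal M T K) ≤ H := hcore.trans le_sup_right
    have hn : ((Cfsg.pCoreOf 2 (maxLocal M T K)).subgroupOf H).Normal :=
      (Subgroup.normal_subgroupOf_iff_le_normalizer hle).2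
        (F.sup_le_maxLocal.trans (CfsgLib.Signalizer.normalizer_le_normalizer_pCoreOf 2 Subgroup.le_normalizer))
    have h := CfsgLib.Fitting.le_pCore (G := ↥H) hn
      ((CfsgLib.PReduced.isPGroup_pCoreOf 2 (maxLocal M T K)).comap_of_injective H.subtype H.subtype_injective)
    exact fun x hx => ⟨⟨x, hle hx⟩, h hx, rfl⟩
  refine ⟨?_, ⟨le_sup_right, hT, hodd⟩, ?_, hcard, ?_, ⟨?_⟩, ?_, ?_, ?_⟩
  · exact (Subgroup.centralizer_le hRL).trans (hover.2.2.trans hRL)
  · have : (Cfsg.pCoreOf 2 H).relIndex H = (Cfsg.pCore 2 ↥H).index := by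
      rw [Cfsg.pCoreOf, Subgroup.relIndex, ← Subgroup.comap_subtype,
        Subgroup.comap_map_eq_self_of_injective (Subgroup.subtype_injective _)]
    rw [this, heq, Subgroup.index_ker, MonoidHom.range_eq_top.2 hsurj, Subgroup.card_top, h6]
  · rw [heq, hker, hcard]
  · haveI := Fintype.ofFinite (Pts K)
    exact ((QuotientGroup.quotientMulEquivOfEq heq).trans (QuotientGroup.quotientKerEquivOfSurjective φ hsurj)).trans
      (Equiv.permCongrHom (Finite.equivFinOfCardEq S.card_pts))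
  · intro hle
    have hcomm : ∀ σ τ : Equiv.Perm (Pts K), σ * τ = τ * σ := by
      intro σ τ
      obtain ⟨a, rfl⟩ := hsurj σ
      obtain ⟨b, rfl⟩ := hsurj τ
      rw [← commutatorElement_eq_one_iff_mul_comm, ← map_commutatorElement, ← MonoidHom.mem_ker, ← heq]
      obtain ⟨y, hy, e⟩ := hle (Subgroup.commutator_mem_commutator a.2 b.2)
      rwa [show ⁅a, b⁆ = y from Subtype.ext ((map_commutatorElement H.subtype a b).trans e.symm)]
    let e := Equiv.permCongrHom (Finite.equivFinOfCardEq S.card_pts)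
    have h := hcomm (e.symm (Equiv.swap 0 1)) (e.symm (Equiv.swap 1 2))
    rw [← map_mul, ← map_mul] at h
    exact absurd (e.symm.injective h) (by decide)
  · intro hle
    obtain ⟨g, hgK, -, hg⟩ := S.moves
    rw [F.omega_eq] at hle
    exact hz1 (hg.fpf z hzW (Subgroup.mem_centralizer_iff.1 (hle (Subgroup.mem_sup_left hgK)) z hzZ).symm)
  · intro w hw
    refine hcorem ⟨w, Subgroup.mem_sup_left (W_le_K hw)⟩ ?_
    rw [heq]
    exact MonoidHom.mem_ker.2 (Equiv.ext fun y => Subtype.ext (mul_inv_eq_iff_eq_mul.2 (S.comm_W hw y.2.1)))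

/-- Two fixed components, the second outside the 2-local subgroup of the first. -/
structure Pair (M T K M' K' : Subgroup G) : Prop where
  fst : Fixed M T K
  snd : Fixed M' T K'
  out : ¬ K' ≤ maxLocal M T K

variable {M' K' : Subgroup G}

theorem Pair.no_common (Q : Pair M T K M' K') {N : Subgroup G} (hN : IsPGroup 2 N)
    (h₁ : K ⊔ T ≤ Subgroup.normalizer (N : Set G)) (h₂ : K' ⊔ T ≤ Subgroup.normalizer (N : Set G)) : N = ⊥ := by
  by_contra hne
  have hle := Q.fst.P.local_le_maxLocal Q.fst.O ⟨N, hN, hne, rfl⟩ (le_sup_left.trans h₁)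
    ((CfsgLib.Transfer.thompsonJ_le 2 T).trans (le_sup_right.trans h₁))
  exact Q.out ((le_sup_left.trans h₂).trans hle)

theorem Pair.core_eq_bot (Q : Pair M T K M' K') : Cfsg.pCoreOf 2 ((K ⊔ T) ⊔ (K' ⊔ T)) = ⊥ := by
  have h : (K ⊔ T) ⊔ (K' ⊔ T) ≤ Subgroup.normalizer (Cfsg.pCoreOf 2 ((K ⊔ T) ⊔ (K' ⊔ T)) : Set G) :=
    CfsgLib.Signalizer.normalizer_le_normalizer_pCoreOf 2 Subgroup.le_normalizer
  exact Q.no_common (CfsgLib.PReduced.isPGroup_pCoreOf 2 _) (le_sup_left.trans h) (le_sup_right.trans h)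

theorem map_pCoreOf_subgroupOf {P H : Subgroup G} (h : P ≤ H) :
    (Cfsg.pCoreOf 2 (P.subgroupOf H)).map H.subtype = Cfsg.pCoreOf 2 P := by
  rw [Cfsg.pCoreOf, Cfsg.pCoreOf, ← CfsgLib.CharCore.map_pCore (p := 2) (Subgroup.subgroupOfEquivOfLe h),
    Subgroup.map_map, Subgroup.map_map]
  rfl

/-- The amalgam gives two symmetric groups of degree four, possibly times a group of order two. -/
theorem Pair.structure (Q : Pair M T K M' K') :
    (Nonempty (↥(K ⊔ T) ≃* Equiv.Perm (Fin 4)) ∧ Nonempty (↥(K' ⊔ T) ≃* Equiv.Perm (Fin 4))) ∨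
      (Nonempty (↥(K ⊔ T) ≃* Multiplicative (ZMod 2) × Equiv.Perm (Fin 4)) ∧
        Nonempty (↥(K' ⊔ T) ≃* Multiplicative (ZMod 2) × Equiv.Perm (Fin 4))) := by
  classical
  haveI : Fact (Nat.Prime 2) := ⟨Nat.prime_two⟩
  have F₁ := Q.fst.facts
  have F₂ := Q.snd.facts
  set P₁ := K ⊔ T with hP₁
  set P₂ := K' ⊔ T with hP₂
  set H := P₁ ⊔ P₂ with hH
  have h1H : P₁ ≤ H := le_sup_left
  have h2H : P₂ ≤ H := le_sup_right
  have hcardP : Nat.card P₁ = Nat.card P₂ := by rw [F₁.card, F₂.card]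
  have hTT : T ≤ P₁ ⊓ P₂ := le_inf le_sup_right le_sup_right
  have hinf : P₁ ⊓ P₂ = T := by
    have h1 : Nat.card T * T.relIndex (P₁ ⊓ P₂) = Nat.card (P₁ ⊓ P₂ : Subgroup G) := by
      simpa using Subgroup.relIndex_mul_relIndex ⊥ T (P₁ ⊓ P₂) bot_le hTT
    have h2 := Subgroup.relIndex_mul_relIndex T (P₁ ⊓ P₂) P₁ hTT inf_le_left
    have h3 : T.relIndex P₁ = 3 := by
      have h : Nat.card T * T.relIndex P₁ = Nat.card P₁ := by
        simpa using Subgroup.relIndex_mul_relIndex ⊥ T P₁ bot_le (le_sup_right : T ≤ P₁)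
      rw [F₁.card, mul_comm 3] at h
      exact Nat.eq_of_mul_eq_mul_left Nat.card_pos h
    rw [h3] at h2
    rcases (Nat.dvd_prime Nat.prime_three).1 ⟨_, h2.symm⟩ with e | e
    · exact le_antisymm (Subgroup.relIndex_eq_one.1 e) hTT
    · exfalso
      rw [e] at h2
      have hle : P₁ ≤ P₂ := fun x hx => (Subgroup.relIndex_eq_one.1 (by omega : (P₁ ⊓ P₂).relIndex P₁ = 1) hx).2
      exact Q.out ((le_sup_left : K' ≤ P₂).trans
        ((Subgroup.eq_of_le_of_card_ge hle hcardP.ge).symm.le.trans Q.fst.sup_le_maxLocal))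
  have hiso : ∀ {P : Subgroup G}, P ≤ H → Nonempty (↥(P.subgroupOf H) ≃* ↥P) :=
    fun h => ⟨Subgroup.subgroupOfEquivOfLe h⟩
  have main := Cfsg.Agent.S2858.result (G := ↥H) (P₁.subgroupOf H) (P₂.subgroupOf H)
    (by
      exact (Subgroup.map_injective H.subtype_injective) (by
        rw [Subgroup.map_sup, Subgroup.map_subgroupOf_eq_of_le h1H, Subgroup.map_subgroupOf_eq_of_le h2H,
          ← MonoidHom.range_eq_map, Subgroup.range_subtype]))
    (T.subgroupOf H)
    (by rw [← Subgroup.comap_subtype, ← Subgroup.comap_subtype, ← Subgroup.comap_subtype, ← Subgroup.comap_inf, hinf])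
    ?_ ?_ ?_ ?_ ?_
  · rcases main with ⟨⟨a⟩, ⟨b⟩⟩ | ⟨⟨a⟩, ⟨b⟩⟩
    · exact Or.inl ⟨⟨(Subgroup.subgroupOfEquivOfLe h1H).symm.trans a⟩, ⟨(Subgroup.subgroupOfEquivOfLe h2H).symm.trans b⟩⟩
    · exact Or.inr ⟨⟨(Subgroup.subgroupOfEquivOfLe h1H).symm.trans a⟩, ⟨(Subgroup.subgroupOfEquivOfLe h2H).symm.trans b⟩⟩
  · have key : ∀ P : Subgroup G, P ≤ H → Subgroup.centralizer (Cfsg.pCoreOf 2 P : Set G) ≤ Cfsg.pCoreOf 2 P →
        P.subgroupOf H ⊓ Subgroup.centralizer (Cfsg.pCoreOf 2 (P.subgroupOf H) : Set H) ≤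
          Cfsg.pCoreOf 2 (P.subgroupOf H) := by
      intro P hPH hc x hx
      have hx' : (x : G) ∈ Cfsg.pCoreOf 2 P := hc (Subgroup.mem_centralizer_iff.2 fun r hr => by
        rw [← map_pCoreOf_subgroupOf hPH] at hr
        obtain ⟨r', hr', rfl⟩ := hr
        exact congrArg Subtype.val (Subgroup.mem_centralizer_iff.1 hx.2 r' hr'))
      rw [← map_pCoreOf_subgroupOf hPH] at hx'
      obtain ⟨y, hy, e⟩ := hx'
      rwa [← H.subtype_injective e]
    rintro P (rfl | rfl)
    · exact key P₁ h1H F₁.cent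
    · exact key P₂ h2H F₂.cent
  · have key : ∀ P : Subgroup G, ∀ hPH : P ≤ H, Cfsg.IsSylowTwoIn T P →
        ∃ S : Sylow 2 ↥(P.subgroupOf H), (S : Subgroup ↥(P.subgroupOf H)) = (T.subgroupOf H).subgroupOf (P.subgroupOf H) := by
      intro P hPH hS
      have hp : IsPGroup 2 ((T.subgroupOf H).subgroupOf (P.subgroupOf H)) :=
        (hS.2.1.comap_of_injective H.subtype H.subtype_injective).comap_of_injective _ (Subgroup.subtype_injective _)
      refine ⟨hp.toSylow ?_, rfl⟩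
      intro h
      have e : ((T.subgroupOf H).subgroupOf (P.subgroupOf H)).index = T.relIndex P := by
        show (T.subgroupOf H).relIndex (P.subgroupOf H) = _
        exact Subgroup.relIndex_subgroupOf hPH
      rw [e] at h
      exact Nat.not_even_iff_odd.2 hS.2.2 (even_iff_two_dvd.2 h)
    rintro P (rfl | rfl)
    · exact key P₁ h1H F₁.sylow
    · exact key P₂ h2H F₂.sylow
  · intro N hN hNT
    set N' := N.map H.subtype with hN'
    have hN'T : N' ≤ T := by
      rintro _ ⟨n, hn, rfl⟩; exact hNT hn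
    have hnorm : H ≤ Subgroup.normalizer (N' : Set G) := by
      have h := Subgroup.le_normalizer_map H.subtype (H := N)
      rwa [Subgroup.normalizer_eq_top, ← MonoidHom.range_eq_map, Subgroup.range_subtype] at h
    have := Q.no_common (Q.fst.P.isPGroup.to_le hN'T) (h1H.trans hnorm) (h2H.trans hnorm)
    exact (Subgroup.map_eq_bot_iff_of_injective _ H.subtype_injective).1 this
  · have key : ∀ P : Subgroup G, P ≤ H → Nonempty (↥P ⧸ Cfsg.pCore 2 ↥P ≃* Equiv.Perm (Fin 3)) →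
        Nonempty (↥(P.subgroupOf H) ⧸ Cfsg.pCore 2 ↥(P.subgroupOf H) ≃* Equiv.Perm (Fin 3)) := by
      rintro P hPH ⟨e⟩
      haveI : (Cfsg.pCore 2 ↥P).Normal := CfsgLib.Fitting.pCore_normal 2
      haveI : (Cfsg.pCore 2 ↥(P.subgroupOf H)).Normal := CfsgLib.Fitting.pCore_normal 2
      exact ⟨(QuotientGroup.congr _ _ (Subgroup.subgroupOfEquivOfLe hPH) (CfsgLib.CharCore.map_pCore _)).trans e⟩
    rintro P (rfl | rfl)
    · exact key P₁ h1H F₁.quot
    · exact key P₂ h2H F₂.quot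
  · have key : ∀ P : Subgroup G, P ≤ H → T ≤ P → ¬ P ≤ Subgroup.centralizer (Cfsg.omegaCenterOf T : Set G) →
        ¬ P.subgroupOf H ≤ Subgroup.centralizer
          (Cfsg.omegaOne 2 (T.subgroupOf H ⊓ Subgroup.centralizer (T.subgroupOf H : Set H)) : Set H) := by
      intro P hPH hTP hact hle
      refine hact fun x hx => Subgroup.mem_centralizer_iff.2 fun v hv => ?_
      have hvT := omegaCenterOf_le T hv
      have hvH : v ∈ H := hPH (hTP hvT)
      have hmem : (⟨v, hvH⟩ : H) ∈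
          Cfsg.omegaOne 2 (T.subgroupOf H ⊓ Subgroup.centralizer (T.subgroupOf H : Set H)) :=
        Subgroup.subset_closure ⟨⟨hvT, Subgroup.mem_centralizer_iff.2 fun t ht =>
          Subtype.ext (omegaCenterOf_comm hv ht)⟩, Subtype.ext (by
            show v ^ 2 = 1
            rw [pow_two]; exact omegaCenterOf_sq hv)⟩
      exact congrArg Subtype.val (Subgroup.mem_centralizer_iff.1
        (hle (show (⟨x, hPH hx⟩ : H) ∈ P.subgroupOf H from hx)) _ hmem)
    rintro P (rfl | rfl)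
    · exact key P₁ h1H le_sup_right F₁.active
    · exact key P₂ h2H le_sup_right F₂.active

/-- `O₂(⟨K, T⟩) = W × (Z₀ ∩ C(K))`. -/
theorem Pair.core_shape (Q : Pair M T K M' K') :
    Cfsg.pCoreOf 2 (K ⊔ T) = Cfsg.wOf K ⊔ centPart T K ∧
      CfsgLib.Transfer.IsAbExp 2 (Cfsg.pCoreOf 2 (K ⊔ T)) ∧
      Nat.card (Cfsg.pCoreOf 2 (K ⊔ T)) ≤ 8 ∧
      (Nat.card T = 8 ∧ centPart T K = ⊥ ∨ Nat.card T = 16 ∧ Nat.card (centPart T K) = 2) := by
  classical
  haveI : Fact (Nat.Prime 2) := ⟨Nat.prime_two⟩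
  have F := Q.fst
  have FF := F.facts
  have S := F.P.setting F.O.comp
  set R := Cfsg.pCoreOf 2 (K ⊔ T) with hR
  have hcR : Nat.card R = Nat.card (Cfsg.pCore 2 ↥(K ⊔ T)) :=
    Subgroup.card_map_of_injective (Subgroup.subtype_injective _)
  have hYZ : centPart T K ≤ Cfsg.omegaCenterOf T := by rw [F.omega_eq]; exact inf_le_left
  have hYcent : ∀ y ∈ centPart T K, ∀ h ∈ K ⊔ T, h * y = y * h := by
    intro y hy
    have hle : K ⊔ T ≤ Subgroup.centralizer ({y} : Set G) := sup_le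
      (fun k hk => Subgroup.mem_centralizer_singleton_iff.2 (Subgroup.mem_centralizer_iff.1 hy.2 k hk))
      (fun t ht => Subgroup.mem_centralizer_singleton_iff.2 (omegaCenterOf_comm (hYZ hy) ht))
    exact fun h hh => Subgroup.mem_centralizer_singleton_iff.1 (hle hh)
  have hYR : centPart T K ≤ R := by
    intro y hy
    exact FF.cent (Subgroup.mem_centralizer_iff.2 fun r hr => hYcent y hy r (CfsgLib.Signalizer.pCoreOf_le 2 _ hr))
  obtain ⟨g, hgK, -, hg⟩ := S.moves
  have hWY : Cfsg.wOf K ⊓ centPart T K = ⊥ := (Subgroup.eq_bot_iff_forall _).2 fun v hv =>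
    hg.fpf v hv.1 (hYcent v hv.2 g (Subgroup.mem_sup_left hgK))
  have hWe : CfsgLib.Transfer.IsAbExp 2 (Cfsg.wOf K) :=
    ⟨⟨⟨fun a b => Subtype.ext (S.comm_W a.2 b.2)⟩⟩, fun a ha => by rw [pow_two]; exact S.hK.2.2.2.2.2 a ha⟩
  have hYe : CfsgLib.Transfer.IsAbExp 2 (centPart T K) :=
    ⟨⟨⟨fun a b => Subtype.ext (omegaCenterOf_comm b.2.1 (omegaCenterOf_le _ a.2.1))⟩⟩,
      fun a ha => by rw [pow_two]; exact omegaCenterOf_sq ha.1⟩
  have hsupe := isAbExp_sup hWe hYe fun a ha b hb => hYcent b hb a (Subgroup.mem_sup_left (W_le_K ha))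
  have hle : Cfsg.wOf K ⊔ centPart T K ≤ R := sup_le FF.wle hYR
  have hprod := card_mul_card_le_of_disjoint (le_sup_left : Cfsg.wOf K ≤ Cfsg.wOf K ⊔ centPart T K) le_sup_right hWY
  rw [S.card_W] at hprod
  have hle' := Subgroup.card_le_of_le hle
  have hT := FF.card
  have hT' := FF.card'
  rw [← hcR] at hT'
  have fin : ∀ n : ℕ, Nat.card ↥(K ⊔ T) = 6 * n → Nat.card R = n := fun n h => by omega
  have conclude : ∀ n : ℕ, Nat.card R = n → n ≤ 8 → 4 * Nat.card (centPart T K) = n →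
      R = Cfsg.wOf K ⊔ centPart T K ∧ CfsgLib.Transfer.IsAbExp 2 R ∧ Nat.card R ≤ 8 := by
    intro n h1 h2 h3
    have e : Cfsg.wOf K ⊔ centPart T K = R := Subgroup.eq_of_le_of_card_ge hle (by omega)
    exact ⟨e.symm, e ▸ hsupe, by omega⟩
  rcases Q.structure with ⟨⟨a⟩, -⟩ | ⟨⟨a⟩, -⟩
  · have h24 : Nat.card ↥(K ⊔ T) = 6 * 4 := by
      rw [Nat.card_congr a.toEquiv, Nat.card_perm, Nat.card_fin]; rfl
    have hR4 := fin 4 h24
    have hpos : 0 < Nat.card (centPart T K) := Nat.card_pos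
    have hY1 : Nat.card (centPart T K) = 1 := by omega
    obtain ⟨c1, c2, c3⟩ := conclude 4 hR4 (by norm_num) (by omega)
    exact ⟨c1, c2, c3, Or.inl ⟨by omega, Subgroup.eq_bot_of_card_eq _ hY1⟩⟩
  · have h48 : Nat.card ↥(K ⊔ T) = 6 * 8 := by
      rw [Nat.card_congr a.toEquiv, Nat.card_prod, Nat.card_perm, Nat.card_fin,
        Nat.card_congr (Multiplicative.toAdd (α := ZMod 2)), Nat.card_zmod]
      rfl
    have hR8 := fin 8 h48
    -- the centre gives a fixed point of `K`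
    set c : ↥(K ⊔ T) := a.symm (Multiplicative.ofAdd 1, 1) with hc
    have hc1 : c ≠ 1 := fun e => by
      have h := congrArg a e
      rw [hc, MulEquiv.apply_symm_apply] at h
      exact absurd (congrArg Prod.fst (h.trans (map_one a)))
        fun e' => one_ne_zero (α := ZMod 2) (congrArg Multiplicative.toAdd e')
    have hccomm : ∀ h : ↥(K ⊔ T), h * c = c * h := fun h => a.injective (by
      rw [map_mul, map_mul, hc, MulEquiv.apply_symm_apply]
      ext <;> simp [mul_comm])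
    have hc2 : (c : G) * c = 1 := by
      have h : c * c = 1 := a.injective (by
        rw [map_mul, hc, MulEquiv.apply_symm_apply, map_one a]
        exact Prod.ext (congrArg Multiplicative.ofAdd (CharTwo.add_self_eq_zero (1 : ZMod 2))) (one_mul _))
      exact congrArg Subtype.val h
    have hcR' : (c : G) ∈ R := FF.cent (Subgroup.mem_centralizer_iff.2 fun r hr =>
      congrArg Subtype.val (hccomm ⟨r, CfsgLib.Signalizer.pCoreOf_le 2 _ hr⟩))
    have hcT : (c : G) ∈ T := by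
      have hover := F.overgroup
      have hp : IsPGroup 2 ↥(T ⊔ R) :=
        IsPGroup.to_sup_of_normal_right' F.P.isPGroup (CfsgLib.PReduced.isPGroup_pCoreOf 2 _)
          (le_sup_right.trans (CfsgLib.Signalizer.normalizer_le_normalizer_pCoreOf 2 Subgroup.le_normalizer))
      have hle2 : T ⊔ R ≤ K ⊔ T := sup_le le_sup_right (CfsgLib.Signalizer.pCoreOf_le 2 _)
      let P : Sylow 2 ↥(K ⊔ T) := (F.P.isPGroup.comap_of_injective (K ⊔ T).subtype (Subgroup.subtype_injective _) :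
        IsPGroup 2 (T.subgroupOf (K ⊔ T))).toSylow (fun h => Nat.not_even_iff_odd.2 FF.sylow.2.2 (even_iff_two_dvd.2 h))
      have h := P.3 (hp.comap_of_injective (K ⊔ T).subtype (Subgroup.subtype_injective _) :
        IsPGroup 2 ((T ⊔ R).subgroupOf (K ⊔ T))) (Subgroup.comap_mono le_sup_left)
      exact (h ▸ (show c ∈ (T ⊔ R).subgroupOf (K ⊔ T) from Subgroup.mem_sup_right hcR') : c ∈ (P : Subgroup ↥(K ⊔ T)))
    have hcY : (c : G) ∈ centPart T K := by
      refine ⟨?_, Subgroup.mem_centralizer_iff.2 fun k hk => congrArg Subtype.val (hccomm ⟨k, Subgroup.mem_sup_left hk⟩)⟩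
      rw [← F.omega_eq]
      exact mem_omegaCenterOf hcT (fun t ht => congrArg Subtype.val (hccomm ⟨t, Subgroup.mem_sup_right ht⟩)) hc2
    haveI : Nontrivial (centPart T K) := (Subgroup.nontrivial_iff_ne_bot _).2 fun e =>
      hc1 (Subtype.ext (Subgroup.mem_bot.1 (e ▸ hcY)))
    have h2 : 2 ≤ Nat.card (centPart T K) := Finite.one_lt_card_iff_nontrivial.2 inferInstance
    obtain ⟨c1, c2, c3⟩ := conclude 8 hR8 le_rfl (by omega)
    exact ⟨c1, c2, c3, Or.inr ⟨by omega, by omega⟩⟩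

/-- The maximal 2-local subgroup of a fixed component in a pair. -/
theorem Pair.maxLocal_eq_sup (Q : Pair M T K M' K') : maxLocal M T K = K ⊔ T := by
  classical
  haveI : Fact (Nat.Prime 2) := ⟨Nat.prime_two⟩
  have F := Q.fst
  have FF := F.facts
  have S := F.P.setting F.O.comp
  obtain ⟨hRWY, hRe, hR8, -⟩ := Q.core_shape
  set L := maxLocal M T K with hL
  set R := Cfsg.pCoreOf 2 (K ⊔ T) with hR
  have hover := F.overgroup
  have O : Over T L := ⟨F.P.amb, F.P.isPGroup, F.P.ne_bot, hover⟩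
  set RL := Cfsg.pCoreOf 2 L with hRL
  have hRLle : RL ≤ R := by
    have hle : RL ≤ K ⊔ T := O.R_le_T.trans le_sup_right
    have hn : (RL.subgroupOf (K ⊔ T)).Normal :=
      (Subgroup.normal_subgroupOf_iff_le_normalizer hle).2 (F.sup_le_maxLocal.trans O.L_le_normalizer_R)
    have h := CfsgLib.Fitting.le_pCore (G := ↥(K ⊔ T)) hn
      ((CfsgLib.PReduced.isPGroup_pCoreOf 2 L).comap_of_injective (K ⊔ T).subtype (Subgroup.subtype_injective _))
    exact fun x hx => ⟨⟨x, hle hx⟩, h hx, rfl⟩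
  have hRc : ∀ a ∈ R, ∀ b ∈ R, a * b = b * a := fun a ha b hb =>
    congrArg Subtype.val (hRe.1.is_comm.comm ⟨a, ha⟩ ⟨b, hb⟩)
  have hReq : RL = R := le_antisymm hRLle fun r hr =>
    hover.2.2 (Subgroup.mem_centralizer_iff.2 fun x hx => hRc x (hRLle hx) r hr)
  -- only one component
  have hmod : modProd M T K = Cfsg.wOf K := by
    refine le_antisymm (iSup_le fun K₁ => ?_) (wOf_le_modProd F.O Subgroup.le_normalizer)
    by_contra hle
    have hne : K₁.1 ≠ K := fun e => hle (by rw [e])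
    have hK₁L : K₁.1 ≤ L := F.P.le_maxLocal F.O K₁.2.1.comp K₁.2.2
    obtain ⟨Y, D⟩ := O.exists_local
    obtain ⟨g₁, C₁, hsn₁⟩ := Comp.of_component O D (F.P.setting K₁.2.1.comp) hK₁L
    obtain ⟨g₀, C₀, -⟩ := Comp.of_component O D S (le_sup_left.trans F.sup_le_maxLocal)
    have hW₁R : Cfsg.wOf K₁.1 ≤ R := by
      refine (W_le_omega.trans omega_le_Q).trans ?_
      exact ((pCoreOf_le_of_subnormal hK₁L hsn₁).trans hReq.le)
    have hdis : Cfsg.wOf K ⊓ Cfsg.wOf K₁.1 = ⊥ := (Subgroup.eq_bot_iff_forall _).2 fun v hv => by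
      by_contra hv1
      exact hne (C₀.eq_of_share' O D C₁ hv.1 hv.2 hv1)
    have h16 : Nat.card (Cfsg.wOf K) * Nat.card (Cfsg.wOf K₁.1) ≤ Nat.card R :=
      card_mul_card_le_of_disjoint FF.wle hW₁R hdis
    have e₁ := (F.P.setting K₁.2.1.comp).card_W
    rw [S.card_W, e₁] at h16
    omega
  have hLW : L = Subgroup.normalizer (Cfsg.wOf K : Set G) := by rw [hL, maxLocal, hmod]
  have hLK : L ≤ Subgroup.normalizer (K : Set G) := by
    rw [F.P.normalizer_eq F.O, ← hLW]
  have hYeq : centPart T K = R ⊓ Subgroup.centralizer (K : Set G) := by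
    refine le_antisymm (le_inf (hRWY ▸ le_sup_right) inf_le_right) fun r hr => ?_
    have hr' : r ∈ ((Cfsg.wOf K ⊔ centPart T K : Subgroup G) : Set G) := hRWY.le hr.1
    have hYn : centPart T K ≤ Subgroup.normalizer (Cfsg.wOf K : Set G) := fun y hy =>
      mem_normalizer_of_le fun w hw => by
        rw [← Subgroup.mem_centralizer_iff.1 hy.2 w (W_le_K hw), mul_inv_cancel_right]; exact hw
    rw [Subgroup.coe_mul_of_right_le_normalizer_left _ _ hYn] at hr'
    obtain ⟨w, hw, y, hy, e⟩ := hr'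
    have e' : w * y = r := e
    obtain ⟨g, hgK, -, hg⟩ := S.moves
    have hgw : g * w = w * g := by
      have h1 : Commute g r := Subgroup.mem_centralizer_iff.1 hr.2 g hgK
      have h2 : Commute g y := Subgroup.mem_centralizer_iff.1 hy.2 g hgK
      rw [show w = r * y⁻¹ by rw [← e', mul_inv_cancel_right]]
      exact h1.mul_right h2.inv_right
    rw [← e', hg.fpf w hw hgw, one_mul]; exact hy
  have hY2 : Nat.card (centPart T K) ≤ 2 := by
    rcases Q.core_shape.2.2.2 with ⟨-, h⟩ | ⟨-, h⟩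
    · rw [h, Subgroup.card_bot]; norm_num
    · omega
  -- the kernel of the action on `W`
  have hLR : L ≤ Subgroup.normalizer (R : Set G) := hReq ▸ O.L_le_normalizer_R
  have hker : ∀ l ∈ L, (∀ w ∈ Cfsg.wOf K, l * w * l⁻¹ = w) → l ∈ R := by
    intro l hl hfix
    refine FF.cent ?_
    have hle : R ≤ Subgroup.centralizer ({l} : Set G) := by
      rw [hRWY]
      refine sup_le (fun w hw => Subgroup.mem_centralizer_singleton_iff.2 (mul_inv_eq_iff_eq_mul.1 (hfix w hw)).symm)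
        fun y hy => ?_
      rw [Subgroup.mem_centralizer_singleton_iff]
      have hly : l * y * l⁻¹ ∈ centPart T K := by
        rw [hYeq] at hy ⊢
        refine Subgroup.mem_inf.2 ⟨(Subgroup.mem_normalizer_iff.1 (hLR hl) y).1 hy.1,
          Subgroup.mem_centralizer_iff.2 fun k hk => ?_⟩
        have hk' : l⁻¹ * k * l ∈ K := (Subgroup.mem_normalizer_iff''.1 (hLK hl) k).1 hk
        have h := congrArg (fun z => l * z * l⁻¹) (Subgroup.mem_centralizer_iff.1 hy.2 _ hk')
        simpa [mul_assoc] using h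
      rcases eq_or_ne y 1 with rfl | hy1
      · simp
      by_contra hne
      have hne' : l * y * l⁻¹ ≠ y := fun e => hne (mul_inv_eq_iff_eq_mul.1 e).symm
      haveI := Fintype.ofFinite (centPart T K)
      have hc : ({1, ⟨y, hy⟩, ⟨l * y * l⁻¹, hly⟩} : Finset (centPart T K)).card ≤ Nat.card (centPart T K) := by
        rw [Nat.card_eq_fintype_card]; exact Finset.card_le_univ _
      rw [Finset.card_insert_of_notMem, Finset.card_pair] at hc
      · omega
      · exact fun e => hne' (congrArg Subtype.val e).symm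
      · simp only [Finset.mem_insert, Finset.mem_singleton, Subtype.ext_iff, OneMemClass.coe_one, not_or]
        exact ⟨Ne.symm hy1, fun e => hy1 (conj_eq_one_iff.1 e.symm)⟩
    exact Subgroup.mem_centralizer_iff.2 fun r hr => (Subgroup.mem_centralizer_singleton_iff.1 (hle hr))
  refine (Subgroup.eq_of_le_of_card_ge F.sup_le_maxLocal ?_).symm
  let act : ↥L → (Pts K → Pts K) := fun l x => ⟨l * x.1 * (l : G)⁻¹,
    (Subgroup.mem_normalizer_iff.1 (hLW.le l.2) _).1 x.2.1, fun e => x.2.2 (conj_eq_one_iff.1 e)⟩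
  have hbij : ∀ l, Function.Bijective (act l) := fun l => Finite.injective_iff_bijective.1 fun x y e =>
    Subtype.ext (mul_left_cancel (mul_right_cancel (congrArg Subtype.val e :)))
  let ψ : ↥L →* Equiv.Perm (Pts K) :=
    { toFun := fun l => Equiv.ofBijective _ (hbij l)
      map_one' := Equiv.ext fun x => Subtype.ext (by show (1 : G) * x.1 * (1 : G)⁻¹ = x.1; simp)
      map_mul' := fun a b => Equiv.ext fun x => Subtype.ext (by
        show (a : G) * b * x.1 * ((a : G) * b)⁻¹ = (a : G) * ((b : G) * x.1 * (b : G)⁻¹) * (a : G)⁻¹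
        group) }
  have h1 := Subgroup.card_eq_card_quotient_mul_card_subgroup ψ.ker
  rw [Nat.card_congr (QuotientGroup.quotientKerEquivRange ψ).toEquiv] at h1
  have h2 : Nat.card ψ.range ≤ 6 := by
    refine (Subgroup.card_le_card_group _).trans_eq ?_
    rw [Nat.card_perm, S.card_pts]; rfl
  have h3 : Nat.card ψ.ker ≤ Nat.card R := by
    rw [← Subgroup.card_map_of_injective (K := ψ.ker) (L.subtype_injective)]
    refine Subgroup.card_le_of_le ?_
    rintro _ ⟨l, hl, rfl⟩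
    refine hker l l.2 fun w hw => ?_
    rcases eq_or_ne w 1 with rfl | hw1
    · simp
    · exact congrArg Subtype.val (Equiv.ext_iff.1 (MonoidHom.mem_ker.1 hl) ⟨w, hw, hw1⟩)
  rw [h1, FF.card', ← Subgroup.card_map_of_injective (K := Cfsg.pCore 2 ↥(K ⊔ T)) (Subgroup.subtype_injective _)]
  exact Nat.mul_le_mul h2 h3

end CfsgLib.JComp
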