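import Mathlib
import Cfsg.Prelude.Def_JComponents
import Cfsg.Agent.Lib.Transfer.ThompsonJ
import Cfsg.Agent.Lib.Signalizer.Radical
import Cfsg.Agent.Lib.Fitting.Basic

/-!
# First properties of a `J(T)`-component
-/

set_option autoImplicit false

namespace CfsgLib.JComp

open scoped commutatorElement

variable {G : Type*} [Group G]

theorem le_normalizer_of_commutator_eq {K J : Subgroup G} (h : ⁅K, J⁆ = K) :
    J ≤ Subgroup.normalizer (K : Set G) := by
  have key : ∀ j ∈ J, ∀ x ∈ K, j * x * j⁻¹ ∈ K := by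
    intro j hj x hx
    have hle : K ≤ K.comap (MulAut.conj j).toMonoidHom := by
      conv_lhs => rw [← h]
      rw [Subgroup.commutator_le]
      intro k hk j' hj'
      show j * ⁅k, j'⁆ * j⁻¹ ∈ K
      have e : j * ⁅k, j'⁆ * j⁻¹ = ⁅k, j⁆⁻¹ * ⁅k, j * j'⁆ := by simp only [commutatorElement_def]; group
      rw [e]
      have m : ∀ y ∈ J, ⁅k, y⁆ ∈ K := fun y hy => h.le (Subgroup.commutator_mem_commutator hk hy)
      exact mul_mem (inv_mem (m j hj)) (m _ (mul_mem hj hj'))
    exact hle hx
  intro j hj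
  refine Subgroup.mem_normalizer_iff.2 fun x => ⟨key j hj x, fun hx => ?_⟩
  have := key j⁻¹ (inv_mem hj) _ hx
  simpa [mul_assoc] using this

theorem omegaOne_le (p : ℕ) (H : Subgroup G) : Cfsg.omegaOne p H ≤ H := by
  rw [Cfsg.omegaOne, Subgroup.closure_le]
  exact fun x hx => hx.1

theorem omegaCenterOf_le (X : Subgroup G) : Cfsg.omegaCenterOf X ≤ X :=
  (omegaOne_le 2 _).trans inf_le_left

theorem omegaCenterOf_sq {X : Subgroup G} {x : G} (hx : x ∈ Cfsg.omegaCenterOf X) : x * x = 1 := by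
  induction hx using Subgroup.closure_induction with
  | mem y hy => rw [← pow_two]; exact hy.2
  | one => exact one_mul 1
  | mul a b ha hb iha ihb =>
    have hc : b * a = a * b := by
      have h1 := (omegaOne_le 2 _ ha).2
      exact Subgroup.mem_centralizer_iff.1 h1 b (omegaOne_le 2 _ hb).1
    rw [mul_assoc, ← mul_assoc b, hc, mul_assoc a b, ihb, mul_one, iha]
  | inv a _ iha => rw [← mul_inv_rev, iha, inv_one]

theorem mem_omegaCenterOf {X : Subgroup G} {x : G} (hx : x ∈ X) (hc : ∀ y ∈ X, y * x = x * y)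
    (h2 : x * x = 1) : x ∈ Cfsg.omegaCenterOf X :=
  Subgroup.subset_closure ⟨⟨hx, Subgroup.mem_centralizer_iff.2 hc⟩, by rw [pow_two, h2]⟩

theorem omegaCenterOf_comm {X : Subgroup G} {x y : G} (hx : x ∈ Cfsg.omegaCenterOf X) (hy : y ∈ X) :
    y * x = x * y :=
  Subgroup.mem_centralizer_iff.1 (omegaOne_le 2 _ hx).2 y hy

theorem normalizer_le_normalizer_omegaCenterOf (X : Subgroup G) :
    Subgroup.normalizer (X : Set G) ≤ Subgroup.normalizer (Cfsg.omegaCenterOf X : Set G) := by
  have key : ∀ g ∈ Subgroup.normalizer (X : Set G), ∀ x ∈ Cfsg.omegaCenterOf X,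
      g * x * g⁻¹ ∈ Cfsg.omegaCenterOf X := by
    intro g hg x hx
    refine mem_omegaCenterOf ((Subgroup.mem_normalizer_iff.1 hg x).1 (omegaCenterOf_le X hx)) ?_ ?_
    · intro y hy
      have hy' : g⁻¹ * y * g ∈ X := (Subgroup.mem_normalizer_iff''.1 hg y).1 hy
      have h := congrArg (fun z => g * z * g⁻¹) (omegaCenterOf_comm hx hy')
      simpa only [mul_assoc, mul_inv_cancel, inv_mul_cancel, mul_inv_cancel_left, inv_mul_cancel_left, mul_one] using h
    · calc g * x * g⁻¹ * (g * x * g⁻¹) = g * (x * x) * g⁻¹ := by group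
        _ = 1 := by rw [omegaCenterOf_sq hx, mul_one, mul_inv_cancel]
  intro g hg
  refine Subgroup.mem_normalizer_iff.2 fun x => ⟨key g hg x, fun hx => ?_⟩
  simpa [mul_assoc] using key g⁻¹ (inv_mem hg) _ hx

/-- An element of odd order acting trivially on `X/W` and on the elementary abelian `W` acts trivially. -/
theorem commute_of_commutator_central {g x c : G} (hg : Odd (orderOf g)) (hc : g * x * g⁻¹ = x * c)
    (hgc : g * c = c * g) (hcx : c * c = 1) : g * x = x * g := by
  have h : ∀ n : ℕ, g ^ n * x * (g ^ n)⁻¹ = x * c ^ n := by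
    intro n
    induction n with
    | zero => simp
    | succ n ih =>
      have hcn : g * c ^ n * g⁻¹ = c ^ n := by
        rw [(Commute.pow_right (show Commute g c from hgc) n).eq, mul_inv_cancel_right]
      calc g ^ (n + 1) * x * (g ^ (n + 1))⁻¹ = g * (g ^ n * x * (g ^ n)⁻¹) * g⁻¹ := by
            rw [pow_succ']; group
        _ = g * x * g⁻¹ * (g * c ^ n * g⁻¹) := by rw [ih]; group
        _ = x * c ^ (n + 1) := by rw [hc, hcn, pow_succ']; group
  have h1 := h (orderOf g)
  obtain ⟨k, hk⟩ := hg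
  rw [pow_orderOf_eq_one, hk, pow_succ, pow_mul, pow_two, hcx, one_pow, one_mul, one_mul, inv_one,
    mul_one] at h1
  have : c = 1 := mul_eq_left.1 h1.symm
  rw [this, mul_one] at hc
  exact mul_inv_eq_iff_eq_mul.1 hc

end CfsgLib.JComp
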