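import Cfsg.Agent.Lib.JComp.Clique

/-!
# `T` centralizes `Ω₁(Z(J(T)))`
-/

set_option autoImplicit false
set_option linter.style.haveILetI false

namespace CfsgLib.JComp

universe u

variable {G : Type u} [Group G] [Finite G] {M T K : Subgroup G}

/-- A subgroup not contained in a Sylow subgroup of the whole group grows. -/
theorem exists_mem_normalizer_not_mem {L : Subgroup G} (hT : IsPGroup 2 T) (hTL : Cfsg.IsSylowTwoIn T L)
    (hns : ∀ S : Sylow 2 G, (S : Subgroup G) ≠ T) :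
    ∃ g ∈ Subgroup.normalizer (T : Set G), g ∉ L := by
  haveI : Fact (Nat.Prime 2) := ⟨Nat.prime_two⟩
  obtain ⟨S, hS⟩ := hT.exists_le_sylow
  haveI : Group.IsNilpotent ↥(S : Subgroup G) := S.2.isNilpotent
  have h1 : T.subgroupOf (S : Subgroup G) < Subgroup.normalizer (T.subgroupOf (S : Subgroup G) : Set ↥(S : Subgroup G)) :=
    normalizerCondition_of_isNilpotent (T.subgroupOf (S : Subgroup G)) (lt_top_iff_ne_top.2 fun h' =>
      hns S (le_antisymm (Subgroup.subgroupOf_eq_top.1 h') hS))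
  obtain ⟨s, hs, hsT⟩ := SetLike.exists_of_lt h1
  have hsn : (s : G) ∈ Subgroup.normalizer (T : Set G) := by
    refine mem_normalizer_of_le fun t ht => ?_
    exact (Subgroup.mem_normalizer_iff.1 hs ⟨t, hS ht⟩).1 ht
  refine ⟨s, hsn, fun hsL => hsT ?_⟩
  set U := T ⊔ Subgroup.zpowers (s : G) with hU
  have hUL : U ≤ L := sup_le hTL.1 (Subgroup.zpowers_le.2 hsL)
  have hUp : IsPGroup 2 U := S.2.to_le (sup_le hS (Subgroup.zpowers_le.2 s.2))
  let Q : Sylow 2 L := (hT.comap_of_injective L.subtype L.subtype_injective :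
    IsPGroup 2 (T.subgroupOf L)).toSylow (fun h => Nat.not_even_iff_odd.2 hTL.2.2 (even_iff_two_dvd.2 h))
  have h := Q.3 (hUp.comap_of_injective L.subtype L.subtype_injective : IsPGroup 2 (U.subgroupOf L))
    (Subgroup.comap_mono le_sup_left)
  exact (h ▸ (show (⟨(s : G), hsL⟩ : L) ∈ U.subgroupOf L from
    Subgroup.mem_sup_right (Subgroup.mem_zpowers _)) : (⟨(s : G), hsL⟩ : L) ∈ (Q : Subgroup L))

/-- `Ω₁(Z(T))` lies in `Ω₁(Z(J(T)))`. -/
theorem omegaCenterOf_le_J (T : Subgroup G) :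
    Cfsg.omegaCenterOf T ≤ Cfsg.omegaCenterOf (CfsgLib.Transfer.thompsonJ 2 T) := by
  intro z hz
  obtain ⟨A, hA⟩ := CfsgLib.Transfer.thompsonJ_nonempty 2 T
  have hzT := omegaCenterOf_le T hz
  refine mem_omegaCenterOf (le_sSup hA ?_)
    (fun y hy => omegaCenterOf_comm hz (CfsgLib.Transfer.thompsonJ_le 2 T hy)) (omegaCenterOf_sq hz)
  have hZ : CfsgLib.Transfer.IsAbExp 2 (Subgroup.zpowers z) :=
    ⟨inferInstance, fun a ha => orderOf_dvd_iff_pow_eq_one.1 ((orderOf_dvd_of_mem_zpowers ha).trans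
      (orderOf_dvd_of_pow_eq_one (by rw [pow_two]; exact omegaCenterOf_sq hz)))⟩
  have hB := isAbExp_sup hA.2.1 hZ fun a ha b hb => by
    obtain ⟨k, rfl⟩ := Subgroup.mem_zpowers_iff.1 hb
    exact (Commute.zpow_right (show Commute a z from omegaCenterOf_comm hz (hA.1 ha)) k).eq
  have h := hA.2.2 _ (sup_le hA.1 (Subgroup.zpowers_le.2 hzT)) hB
  rw [Subgroup.eq_of_le_of_card_ge le_sup_left h]
  exact Subgroup.mem_sup_right (Subgroup.mem_zpowers z)

theorem conj_map_map (K : Subgroup G) (a b : G) :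
    (K.map (MulAut.conj b).toMonoidHom).map (MulAut.conj a).toMonoidHom = K.map (MulAut.conj (a * b)).toMonoidHom := by
  rw [Subgroup.map_map]
  congr 1
  ext x
  simp [mul_assoc]

theorem mem_normalizer_of_map_eq {n : G} (h : K.map (MulAut.conj n).toMonoidHom = K) :
    n ∈ Subgroup.normalizer (K : Set G) :=
  mem_normalizer_of_le fun w hw => h.le ⟨w, hw, rfl⟩

theorem map_eq_of_mem_normalizer {n : G} (h : n ∈ Subgroup.normalizer (K : Set G)) :
    K.map (MulAut.conj n).toMonoidHom = K := by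
  refine le_antisymm ?_ fun x hx => ⟨n⁻¹ * x * n, (Subgroup.mem_normalizer_iff''.1 h x).1 hx, by simp [mul_assoc]⟩
  rintro _ ⟨x, hx, rfl⟩
  exact (Subgroup.mem_normalizer_iff.1 h x).1 hx

theorem MaxStrad.T_le_normalizer_J (P : MaxStrad M T) :
    T ≤ Subgroup.normalizer (CfsgLib.Transfer.thompsonJ 2 T : Set G) :=
  Subgroup.le_normalizer.trans (CfsgLib.Transfer.normalizer_le_normalizer_thompsonJ 2 T)

theorem MaxStrad.rel_conj (P : MaxStrad M T) (O : Out M T K) (hTL : T ≤ maxLocal M T K) {t : G} (ht : t ∈ T) :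
    K.map (MulAut.conj t).toMonoidHom ≤ Subgroup.normalizer (K : Set G) := by
  refine P.rel_of_le_maxLocal O (P.out_map (P.T_le_normalizer_J ht) O).comp ?_
  rintro _ ⟨k, hk, rfl⟩
  exact mul_mem (mul_mem (hTL ht) (P.K_le_maxLocal O hk)) (inv_mem (hTL ht))

theorem MaxStrad.centPart_conj (P : MaxStrad M T)
    (hc : T ≤ Subgroup.centralizer (Cfsg.omegaCenterOf (CfsgLib.Transfer.thompsonJ 2 T) : Set G)) (K : Subgroup G)
    {t : G} (ht : t ∈ T) : centPart T (K.map (MulAut.conj t).toMonoidHom) = centPart T K := by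
  rw [centPart_map (P.T_le_normalizer_J ht)]
  have hfix : ∀ y ∈ centPart T K, t * y * t⁻¹ = y := fun y hy =>
    mul_inv_eq_iff_eq_mul.2 (Subgroup.mem_centralizer_iff.1 (hc ht) y hy.1).symm
  refine le_antisymm ?_ fun y hy => ⟨y, hy, hfix y hy⟩
  rintro _ ⟨y, hy, rfl⟩
  show t * y * t⁻¹ ∈ centPart T K
  rw [hfix y hy]; exact hy

/-- When `T` centralizes `Ω₁(Z(J))` it normalizes the components whose subgroup contains it. -/
theorem MaxStrad.le_normalizer_of_central (P : MaxStrad M T) (O : Out M T K) (hTL : T ≤ maxLocal M T K)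
    (hc : T ≤ Subgroup.centralizer (Cfsg.omegaCenterOf (CfsgLib.Transfer.thompsonJ 2 T) : Set G)) :
    T ≤ Subgroup.normalizer (K : Set G) := fun t ht =>
  mem_normalizer_of_map_eq (P.eq_of_centPart_eq O (P.out_map (P.T_le_normalizer_J ht) O).comp
    (P.rel_conj O hTL ht) (P.centPart_conj hc K ht))

/-- Four elements at most. -/
theorem MaxStrad.central_of_normalizes (P : MaxStrad M T) (hK : Cfsg.IsJComponent T K)
    (hTK : T ≤ Subgroup.normalizer (K : Set G))
    (h4 : Nat.card (Cfsg.omegaCenterOf (CfsgLib.Transfer.thompsonJ 2 T)) ≤ 4) :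
    T ≤ Subgroup.centralizer (Cfsg.omegaCenterOf (CfsgLib.Transfer.thompsonJ 2 T) : Set G) := by
  classical
  obtain ⟨z, hzW, hzZ, hz1, hznot, huniq, hsplit⟩ := (P.setting hK).exists_point
  have hY2 : Nat.card (centPart T K) ≤ 2 := by have := (P.setting hK).card_omega; omega
  intro t ht
  have hZn : t ∈ Subgroup.normalizer (Cfsg.omegaCenterOf (CfsgLib.Transfer.thompsonJ 2 T) : Set G) :=
    normalizer_le_normalizer_omegaCenterOf _ (P.T_le_normalizer_J ht)
  have hzfix : t * z * t⁻¹ = z := by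
    refine (huniq _ ((Subgroup.mem_normalizer_iff.1 (normalizer_le_normalizer_wOf K (hTK ht)) z).1 hzW)
      ((Subgroup.mem_normalizer_iff.1 hZn z).1 hzZ)).resolve_left fun e => hz1 (conj_eq_one_iff.1 e)
  have hYfix : ∀ y ∈ centPart T K, t * y * t⁻¹ = y := by
    intro y hy
    rcases eq_or_ne y 1 with rfl | hy1
    · simp
    have hty : t * y * t⁻¹ ∈ centPart T K := by
      have h := centPart_map (K := K) (P.T_le_normalizer_J ht)
      rw [map_eq_of_mem_normalizer (hTK ht)] at h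
      exact h.ge ⟨y, hy, rfl⟩
    by_contra hne
    haveI := Fintype.ofFinite (centPart T K)
    have hc : ({1, ⟨y, hy⟩, ⟨t * y * t⁻¹, hty⟩} : Finset (centPart T K)).card ≤ Nat.card (centPart T K) := by
      rw [Nat.card_eq_fintype_card]; exact Finset.card_le_univ _
    rw [Finset.card_insert_of_notMem, Finset.card_pair] at hc
    · omega
    · exact fun e => hne (congrArg Subtype.val e).symm
    · simp only [Finset.mem_insert, Finset.mem_singleton, Subtype.ext_iff, OneMemClass.coe_one, not_or]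
      exact ⟨Ne.symm hy1, fun e => hy1 (conj_eq_one_iff.1 e.symm)⟩
  refine Subgroup.mem_centralizer_iff.2 fun v hv => ?_
  have hfix : t * v * t⁻¹ = v := by
    rcases hsplit v hv with h | h
    · exact hYfix v h
    · have h' := hYfix _ h
      rw [show t * (v * z) * t⁻¹ = t * v * t⁻¹ * (t * z * t⁻¹) by group, hzfix] at h'
      exact mul_right_cancel h'
  exact (mul_inv_eq_iff_eq_mul.1 hfix).symm

/-- Two unrelated components force centrality. -/
theorem MaxStrad.central_of_cross (P : MaxStrad M T) (O : Out M T K) (hTL : T ≤ maxLocal M T K)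
    {M' K' : Subgroup G} (P' : MaxStrad M' T) (O' : Out M' T K')
    (hTL' : T ≤ maxLocal M' T K' ∨ ∃ g ∈ Subgroup.normalizer (CfsgLib.Transfer.thompsonJ 2 T : Set G),
      K' = K.map (MulAut.conj g).toMonoidHom)
    (hcross : ∀ K₁ K₂, Out M T K₁ → K₁ ≤ Subgroup.normalizer (K : Set G) → Out M' T K₂ →
      K₂ ≤ Subgroup.normalizer (K' : Set G) → centPart T K₁ ⊓ centPart T K₂ = ⊥) :
    T ≤ Subgroup.centralizer (Cfsg.omegaCenterOf (CfsgLib.Transfer.thompsonJ 2 T) : Set G) := by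
  have h4 := P.card_le_four O.comp O'.comp (hcross K K' O Subgroup.le_normalizer O' Subgroup.le_normalizer)
  by_cases hfix : T ≤ Subgroup.normalizer (K : Set G)
  · exact P.central_of_normalizes O.comp hfix h4
  obtain ⟨t, ht, htK⟩ := SetLike.not_le_iff_exists.1 hfix
  have hne : K.map (MulAut.conj t).toMonoidHom ≠ K := fun e => htK (mem_normalizer_of_map_eq e)
  have hOt := P.out_map (P.T_le_normalizer_J ht) O
  rcases hTL' with hTL' | ⟨g, hg, hgK⟩
  · by_cases hfix' : T ≤ Subgroup.normalizer (K' : Set G)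
    · exact P.central_of_normalizes O'.comp hfix' h4
    obtain ⟨s, hs, hsK⟩ := SetLike.not_le_iff_exists.1 hfix'
    have hne' : K'.map (MulAut.conj s).toMonoidHom ≠ K' := fun e => hsK (mem_normalizer_of_map_eq e)
    have hOs := P'.out_map (P'.T_le_normalizer_J hs) O'
    refine absurd ?_ not_false
    exact no_four_hyperplanes (Z := Cfsg.omegaCenterOf (CfsgLib.Transfer.thompsonJ 2 T))
      inf_le_left inf_le_left inf_le_left inf_le_left (P.setting O.comp).card_omega (P.setting hOt.comp).card_omega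
      (P.setting O'.comp).card_omega (P.setting hOs.comp).card_omega
      (fun e => hne (P.eq_of_centPart_eq O hOt.comp (P.rel_conj O hTL ht) e.symm))
      (fun e => hne' (P'.eq_of_centPart_eq O' hOs.comp (P'.rel_conj O' hTL' hs) e.symm))
      (hcross _ _ O Subgroup.le_normalizer O' Subgroup.le_normalizer)
      (hcross _ _ O Subgroup.le_normalizer hOs (P'.rel_conj O' hTL' hs))
      (hcross _ _ hOt (P.rel_conj O hTL ht) O' Subgroup.le_normalizer)
      (hcross _ _ hOt (P.rel_conj O hTL ht) hOs (P'.rel_conj O' hTL' hs))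
  · subst hgK
    have hOtg' : Cfsg.IsJComponent T ((K.map (MulAut.conj t).toMonoidHom).map (MulAut.conj g).toMonoidHom) :=
      (P.out_map hg hOt).comp
    have hgM' : g ∈ M' := P'.normalizer_J_le hg
    have htM' : g * t * g⁻¹ ∈ M' := mul_mem (mul_mem hgM' (P'.le_M ht)) (inv_mem hgM')
    have hrel : (K.map (MulAut.conj t).toMonoidHom).map (MulAut.conj g).toMonoidHom ≤
        Subgroup.normalizer ((K.map (MulAut.conj g).toMonoidHom : Subgroup G) : Set G) :=
      normalizer_map_le (P.rel_conj O hTL ht)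
    have hOtg : Out M' T ((K.map (MulAut.conj t).toMonoidHom).map (MulAut.conj g).toMonoidHom) := by
      refine ⟨hOtg', fun h => O'.out ?_⟩
      rintro _ ⟨k, hk, rfl⟩
      have h' : g * (t * k * t⁻¹) * g⁻¹ ∈ M' := h ⟨_, ⟨k, hk, rfl⟩, rfl⟩
      show g * k * g⁻¹ ∈ M'
      rw [show g * k * g⁻¹ = (g * t * g⁻¹)⁻¹ * (g * (t * k * t⁻¹) * g⁻¹) * (g * t * g⁻¹) by group]
      exact mul_mem (mul_mem (inv_mem htM') h') htM'
    refine absurd ?_ not_false
    exact no_four_hyperplanes (Z := Cfsg.omegaCenterOf (CfsgLib.Transfer.thompsonJ 2 T))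
      inf_le_left inf_le_left inf_le_left inf_le_left (P.setting O.comp).card_omega (P.setting hOt.comp).card_omega
      (P.setting O'.comp).card_omega (P.setting hOtg.comp).card_omega
      (fun e => hne (P.eq_of_centPart_eq O hOt.comp (P.rel_conj O hTL ht) e.symm))
      (fun e => hne ((Subgroup.map_injective (MulAut.conj g).injective)
        (P'.eq_of_centPart_eq O' hOtg' hrel e.symm)))
      (hcross _ _ O Subgroup.le_normalizer O' Subgroup.le_normalizer)
      (hcross _ _ O Subgroup.le_normalizer hOtg hrel)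
      (hcross _ _ hOt (P.rel_conj O hTL ht) O' Subgroup.le_normalizer)
      (hcross _ _ hOt (P.rel_conj O hTL ht) hOtg hrel)

/-- The first configuration: an element of `N(J)` outside the 2-local subgroup. -/
theorem MaxStrad.pair_of_normalizer (P : MaxStrad M T) (O : Out M T K) (hTL : T ≤ maxLocal M T K)
    (hg : ¬ Subgroup.normalizer (CfsgLib.Transfer.thompsonJ 2 T : Set G) ≤ maxLocal M T K) :
    T ≤ Subgroup.centralizer (Cfsg.omegaCenterOf (CfsgLib.Transfer.thompsonJ 2 T) : Set G) ∧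
      ∃ K' : Subgroup G, Out M T K' ∧ T ≤ Subgroup.normalizer (K' : Set G) ∧ ¬ K' ≤ maxLocal M T K := by
  classical
  haveI : Fact (Nat.Prime 2) := ⟨Nat.prime_two⟩
  set J := CfsgLib.Transfer.thompsonJ 2 T with hJ
  obtain ⟨g, hgJ, hgL, hgT⟩ : ∃ g ∈ Subgroup.normalizer (J : Set G), g ∉ maxLocal M T K ∧
      ((∀ S : Sylow 2 G, (S : Subgroup G) ≠ T) → g ∈ Subgroup.normalizer (T : Set G)) := by
    by_cases hs : ∀ S : Sylow 2 G, (S : Subgroup G) ≠ T
    · obtain ⟨hover, -⟩ := P.local_over (P.maxLocal_isTwoLocal O) (P.maxLocal_not_le O) hTL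
      obtain ⟨g, hg1, hg2⟩ := exists_mem_normalizer_not_mem P.isPGroup hover.1 hs
      exact ⟨g, CfsgLib.Transfer.normalizer_le_normalizer_thompsonJ 2 T hg1, hg2, fun _ => hg1⟩
    · obtain ⟨g, hg1, hg2⟩ := SetLike.not_le_iff_exists.1 hg
      exact ⟨g, hg1, hg2, fun h => absurd h hs⟩
  have O' := P.out_map hgJ O
  have hnrel : ¬ K.map (MulAut.conj g).toMonoidHom ≤ Subgroup.normalizer (K : Set G) := fun h =>
    hgL (P.mem_maxLocal_of_rel O hgJ h)
  have hcross : ∀ K₁ K₂, Out M T K₁ → K₁ ≤ Subgroup.normalizer (K : Set G) → Out M T K₂ →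
      K₂ ≤ Subgroup.normalizer ((K.map (MulAut.conj g).toMonoidHom : Subgroup G) : Set G) →
      centPart T K₁ ⊓ centPart T K₂ = ⊥ := by
    intro K₁ K₂ O₁ h₁ O₂ h₂
    refine P.centPart_inf O₁ O₂.comp fun h => hnrel ?_
    have h3 : K₂ ≤ Subgroup.normalizer (K : Set G) := P.rel_trans O₁ O.comp O₂.comp (P.rel_symm O O₁.comp h₁) h
    exact P.rel_trans O₂ O.comp O'.comp (P.rel_symm O O₂.comp h3) (P.rel_symm O' O₂.comp h₂)
  have hc := P.central_of_cross O hTL P O' (Or.inr ⟨g, hgJ, rfl⟩) hcross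
  refine ⟨hc, _, O', ?_, fun h => hnrel (P.rel_of_le_maxLocal O O'.comp h)⟩
  have hTK := P.le_normalizer_of_central O hTL hc
  have hgTcase : g ∈ Subgroup.normalizer (T : Set G) →
      T ≤ Subgroup.normalizer ((K.map (MulAut.conj g).toMonoidHom : Subgroup G) : Set G) := by
    intro hgn t ht
    refine mem_normalizer_of_map_eq ?_
    have ht' : g⁻¹ * t * g ∈ T := (Subgroup.mem_normalizer_iff''.1 hgn t).1 ht
    rw [conj_map_map, show t * g = g * (g⁻¹ * t * g) by group, ← conj_map_map,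
      map_eq_of_mem_normalizer (hTK ht')]
  by_cases hs : ∀ S : Sylow 2 G, (S : Subgroup G) ≠ T
  · exact hgTcase (hgT hs)
  push Not at hs
  obtain ⟨S, hS⟩ := hs
  by_cases hY : centPart T K = ⊥
  · refine hgTcase ?_
    have h2 := (P.setting O.comp).card_omega
    rw [hY, Subgroup.card_bot] at h2
    obtain ⟨z, -, hzZ, hz1, -, -, -⟩ := (P.setting O.comp).exists_point
    have hZ : Cfsg.omegaCenterOf (CfsgLib.Transfer.thompsonJ 2 T) ≤ Subgroup.centralizer ({g} : Set G) := by
      intro v hv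
      rw [Subgroup.mem_centralizer_singleton_iff]
      rcases eq_or_ne v 1 with rfl | hv1
      · simp
      have hgv := (Subgroup.mem_normalizer_iff.1 (normalizer_le_normalizer_omegaCenterOf _ hgJ) v).1 hv
      by_contra hne
      have hne' : g * v * g⁻¹ ≠ v := fun e => hne (mul_inv_eq_iff_eq_mul.1 e).symm
      haveI := Fintype.ofFinite (Cfsg.omegaCenterOf (CfsgLib.Transfer.thompsonJ 2 T))
      have hc : ({1, ⟨v, hv⟩, ⟨g * v * g⁻¹, hgv⟩} : Finset (Cfsg.omegaCenterOf (CfsgLib.Transfer.thompsonJ 2 T))).card ≤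
          Nat.card (Cfsg.omegaCenterOf (CfsgLib.Transfer.thompsonJ 2 T)) := by
        rw [Nat.card_eq_fintype_card]; exact Finset.card_le_univ _
      rw [Finset.card_insert_of_notMem, Finset.card_pair, h2] at hc
      · omega
      · exact fun e => hne' (congrArg Subtype.val e).symm
      · simp only [Finset.mem_insert, Finset.mem_singleton, Subtype.ext_iff, OneMemClass.coe_one, not_or]
        exact ⟨Ne.symm hv1, fun e => hv1 (conj_eq_one_iff.1 e.symm)⟩
    subst hS
    exact P.amb.cent S (Subgroup.mem_centralizer_iff.2 fun v hv =>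
      Subgroup.mem_centralizer_singleton_iff.1 (hZ (omegaCenterOf_le_J _ hv)))
  · intro t ht
    refine mem_normalizer_of_map_eq ?_
    have hOt := P.out_map (P.T_le_normalizer_J ht) O'
    have e := P.centPart_conj hc (K.map (MulAut.conj g).toMonoidHom) ht
    obtain ⟨y, hy, hy1⟩ : ∃ y ∈ centPart T (K.map (MulAut.conj g).toMonoidHom), y ≠ 1 := by
      rw [centPart_map hgJ]
      obtain ⟨⟨y, hy⟩, hy1⟩ := Subgroup.ne_bot_iff_exists_ne_one.1 hY
      exact ⟨_, ⟨y, hy, rfl⟩, fun h => hy1 (Subtype.ext (conj_eq_one_iff.1 h))⟩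
    exact P.eq_of_centPart_eq O' hOt.comp (P.rel_of_centPart O' hOt.comp hy (e.ge hy) hy1) e

/-- A Sylow subgroup straddling is maximal. -/
theorem maxStrad_of_sylow {L : Subgroup G} (hA : Ambient G) (S : Sylow 2 G)
    (hN : Subgroup.normalizer (CfsgLib.Transfer.thompsonJ 2 (S : Subgroup G) : Set G) ≤ L)
    (hS : (S : Subgroup G) ∈ Cfsg.straddlingTwoSubgroups L) : MaxStrad L (S : Subgroup G) := by
  haveI : Fact (Nat.Prime 2) := ⟨Nat.prime_two⟩
  refine ⟨hA, ⟨S, hN⟩, hS, fun U hU => ?_⟩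
  obtain ⟨S', hS'⟩ := hU.1.exists_le_sylow
  obtain ⟨h, hh⟩ := MulAction.exists_smul_eq G S S'
  let c : G →* G := (MulAut.conj h).toMonoidHom
  have hcinj : Function.Injective c := (MulAut.conj h).injective
  have hUc : U ≤ (S : Subgroup G).map c := by
    intro x hx
    have hx' := hS' hx
    rw [← hh] at hx'
    exact hx'
  set SS := (S : Subgroup G).map c with hSS
  obtain ⟨A, hAm⟩ := CfsgLib.Transfer.thompsonJ_nonempty 2 (S : Subgroup G)
  obtain ⟨B, hBm⟩ := CfsgLib.Transfer.thompsonJ_nonempty 2 U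
  rw [maxElemAbelianOrder_eq hAm, maxElemAbelianOrder_eq hBm]
  have hAc : A.map c ∈ CfsgLib.Transfer.maxAbExp 2 SS := by
    refine ⟨Subgroup.map_mono hAm.1, (CfsgLib.Transfer.isAbExp_map_iff 2 c hcinj.injOn).2 hAm.2.1, fun X hX hXe => ?_⟩
    rw [Subgroup.card_map_of_injective hcinj]
    let d : G →* G := (MulAut.conj h⁻¹).toMonoidHom
    have hdinj : Function.Injective d := (MulAut.conj h⁻¹).injective
    rw [← Subgroup.card_map_of_injective (K := X) hdinj]
    refine hAm.2.2 _ ?_ ((CfsgLib.Transfer.isAbExp_map_iff 2 d hdinj.injOn).2 hXe)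
    rintro _ ⟨x, hx, rfl⟩
    obtain ⟨s, hs, rfl⟩ := hX hx
    show h⁻¹ * (h * s * h⁻¹) * h⁻¹⁻¹ ∈ (S : Subgroup G)
    rw [show h⁻¹ * (h * s * h⁻¹) * h⁻¹⁻¹ = s by group]
    exact hs
  have hle : Nat.card B ≤ Nat.card A := by
    rw [← Subgroup.card_map_of_injective (K := A) hcinj]
    exact hAc.2.2 B (hBm.1.trans hUc) hBm.2.1
  refine ⟨hle, fun heq => ⟨?_, fun _ => ?_⟩⟩
  · rw [CfsgLib.Transfer.thompsonSubgroupOf_eq, CfsgLib.Transfer.thompsonSubgroupOf_eq,
      ← Subgroup.card_map_of_injective (K := CfsgLib.Transfer.thompsonJ 2 (S : Subgroup G)) hcinj,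
      CfsgLib.Transfer.map_thompsonJ 2 c hcinj.injOn]
    refine Subgroup.card_le_of_le (sSup_le fun X hX => le_sSup ⟨hX.1.trans hUc, hX.2.1, fun Y hY hYe => ?_⟩)
    refine (hAc.2.2 Y hY hYe).trans ?_
    rw [Subgroup.card_map_of_injective hcinj, ← heq]
    exact hX.2.2 B hBm.1 hBm.2.1
  · rw [← Subgroup.card_map_of_injective (K := (S : Subgroup G)) hcinj]
    exact Subgroup.card_le_of_le hUc

/-- The second configuration: another 2-local subgroup containing `T`. -/
theorem MaxStrad.pair_of_local (P : MaxStrad M T) (O : Out M T K) (hTL : T ≤ maxLocal M T K)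
    (hN : Subgroup.normalizer (CfsgLib.Transfer.thompsonJ 2 T : Set G) ≤ maxLocal M T K) (S : Sylow 2 G)
    (hS : (S : Subgroup G) = T) {X : Subgroup G} (hX : Cfsg.IsTwoLocal X) (hTX : T ≤ X)
    (hXL : ¬ X ≤ maxLocal M T K) :
    T ≤ Subgroup.centralizer (Cfsg.omegaCenterOf (CfsgLib.Transfer.thompsonJ 2 T) : Set G) ∧
      ∃ M' K' : Subgroup G, MaxStrad M' T ∧ Out M' T K' ∧ T ≤ Subgroup.normalizer (K' : Set G) ∧
        ¬ K' ≤ maxLocal M T K := by
  have hTJ := (CfsgLib.Transfer.thompsonJ_le 2 T).trans hTX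
  have P' : MaxStrad (maxLocal M T K) T := by
    subst hS
    exact maxStrad_of_sylow P.amb S hN ⟨P.isPGroup, P.ne_bot, hTL, X, hX, hTX, hXL⟩
  obtain ⟨-, K', hK', hK'X, hK'L⟩ := P'.local_over hX hXL hTX
  have O' : Out (maxLocal M T K) T K' := ⟨hK', hK'L⟩
  have hTL' : T ≤ maxLocal (maxLocal M T K) T K' := hTX.trans (P'.local_le_maxLocal O' hX hK'X hTJ)
  have hc := P.central_of_cross O hTL P' O' (Or.inl hTL') fun K₁ K₂ O₁ h₁ O₂ _ => by
    refine (Subgroup.eq_bot_iff_forall _).2 fun y hy => ?_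
    by_contra hy1
    obtain ⟨h1, h2, h3⟩ := P.local_of_centPart O₁.comp hy.1 hy1
    have hle := P.local_le_maxLocal O₁ h1 h2 h3
    rw [P.maxLocal_eq O O₁ h₁] at hle
    exact O₂.out ((P'.local_of_centPart O₂.comp hy.2 hy1).2.1.trans hle)
  exact ⟨hc, _, K', P', O', P'.le_normalizer_of_central O' hTL' hc, hK'L⟩

end CfsgLib.JComp
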