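import Cfsg.Agent.Lib.JComp.Common

/-!
# The maximal 2-local subgroup attached to an outside component
-/

set_option autoImplicit false
set_option linter.style.haveILetI false

namespace CfsgLib.JComp

open scoped commutatorElement

universe u

variable {G : Type u} [Group G]

/-- A component not contained in `M`. -/
structure Out (M T K : Subgroup G) : Prop where
  comp : Cfsg.IsJComponent T K
  out : ¬ K ≤ M

/-- The product of the modules of the outside components normalizing `K`. -/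
def modProd (M T K : Subgroup G) : Subgroup G :=
  ⨆ K' : {K' : Subgroup G // Out M T K' ∧ K' ≤ Subgroup.normalizer (K : Set G)}, Cfsg.wOf K'.1

/-- The 2-local subgroup attached to an outside component. -/
def maxLocal (M T K : Subgroup G) : Subgroup G :=
  Subgroup.normalizer (modProd M T K : Set G)

variable [Finite G] {M T K K' : Subgroup G}

theorem card_mul_card_le_of_disjoint {Z A B : Subgroup G} (hA : A ≤ Z) (hB : B ≤ Z) (h : A ⊓ B = ⊥) :
    Nat.card A * Nat.card B ≤ Nat.card Z := by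
  rw [← Nat.card_prod]
  refine Nat.card_le_card_of_injective (fun p : A × B => (⟨(p.1 : G) * p.2, mul_mem (hA p.1.2) (hB p.2.2)⟩ : Z)) ?_
  rintro ⟨a, b⟩ ⟨a', b'⟩ e
  have e' : (a : G) * b = a' * b' := congrArg Subtype.val e
  have h1 : (a' : G)⁻¹ * a ∈ A ⊓ B := Subgroup.mem_inf.2 ⟨mul_mem (inv_mem a'.2) a.2, by
    rw [show (a' : G)⁻¹ * a = b' * (b : G)⁻¹ by
      rw [show (a' : G)⁻¹ * a = (a' : G)⁻¹ * ((a : G) * b) * (b : G)⁻¹ by group, e']; group]
    exact mul_mem b'.2 (inv_mem b.2)⟩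
  rw [h, Subgroup.mem_bot, inv_mul_eq_one] at h1
  rw [h1] at e'
  exact Prod.ext (Subtype.ext h1.symm) (Subtype.ext (mul_left_cancel e'))

/-- There are not four hyperplanes in two disjoint pairs. -/
theorem no_four_hyperplanes {Z A B C D : Subgroup G} (hA : A ≤ Z) (hB : B ≤ Z) (hC : C ≤ Z) (hD : D ≤ Z)
    (cA : Nat.card Z = 2 * Nat.card A) (cB : Nat.card Z = 2 * Nat.card B) (cC : Nat.card Z = 2 * Nat.card C)
    (cD : Nat.card Z = 2 * Nat.card D) (hAB : A ≠ B) (hCD : C ≠ D) (hAC : A ⊓ C = ⊥) (hAD : A ⊓ D = ⊥)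
    (hBC : B ⊓ C = ⊥) (hBD : B ⊓ D = ⊥) : False := by
  classical
  have h1 := card_mul_card_le_of_disjoint hA hC hAC
  have hA2 : Nat.card A = 2 := by
    have hle : Nat.card A ≤ 2 := by
      rw [cA, show Nat.card C = Nat.card A by omega] at h1
      exact Nat.le_of_mul_le_mul_left (by rw [mul_comm (Nat.card A) 2]; exact h1) Nat.card_pos
    refine le_antisymm hle (Nat.succ_le_of_lt ?_)
    by_contra hlt
    have e1 : Nat.card A = 1 := by have : 0 < Nat.card A := Nat.card_pos; omega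
    have e2 : Nat.card B = 1 := by omega
    exact hAB ((Subgroup.eq_bot_of_card_eq A e1).trans (Subgroup.eq_bot_of_card_eq B e2).symm)
  have get : ∀ X : Subgroup G, X ≤ Z → Nat.card Z = 2 * Nat.card X →
      ∃ x ∈ X, x ≠ 1 ∧ ∀ y ∈ X, y ≠ 1 → y = x := by
    intro X hX cX
    have hX2 : Nat.card X = 2 := by omega
    haveI : Nontrivial X := Finite.one_lt_card_iff_nontrivial.1 (by omega)
    obtain ⟨x, hx⟩ := exists_ne (1 : X)
    refine ⟨x, x.2, fun e => hx (Subtype.ext e), fun y hy hy1 => ?_⟩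
    by_contra hne
    haveI := Fintype.ofFinite X
    have hc : ({1, x, ⟨y, hy⟩} : Finset X).card ≤ Nat.card X := by
      rw [Nat.card_eq_fintype_card]; exact Finset.card_le_univ _
    rw [Finset.card_insert_of_notMem, Finset.card_pair, hX2] at hc
    · omega
    · exact fun e => hne (congrArg Subtype.val e).symm
    · simp [Subtype.ext_iff, Ne.symm hy1, Ne.symm hx]
  obtain ⟨a, ha, ha1, hau⟩ := get A hA cA
  obtain ⟨b, hb, hb1, hbu⟩ := get B hB cB
  obtain ⟨c, hc, hc1, hcu⟩ := get C hC cC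
  obtain ⟨d, hd, hd1, hdu⟩ := get D hD cD
  have hsame : ∀ {X Y : Subgroup G} {x y : G}, x ∈ X → x ≠ 1 → X ⊓ Y = ⊥ → y ∈ Y → x ≠ y :=
    fun {X Y x y} hx hx1 h hy e => hx1 ((Subgroup.eq_bot_iff_forall _).1 h x ⟨hx, e ▸ hy⟩)
  have heq : ∀ {X Y : Subgroup G} {x : G}, x ∈ X → x ∈ Y → (∀ y ∈ X, y ≠ 1 → y = x) →
      (∀ y ∈ Y, y ≠ 1 → y = x) → X = Y := fun {X Y x} hx hy hux huy => le_antisymm
    (fun v hv => by
      rcases eq_or_ne v 1 with rfl | hv1
      · exact one_mem _
      · rw [hux v hv hv1]; exact hy)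
    (fun v hv => by
      rcases eq_or_ne v 1 with rfl | hv1
      · exact one_mem _
      · rw [huy v hv hv1]; exact hx)
  have nab : a ≠ b := fun e => hAB (heq ha (e ▸ hb) hau (e ▸ hbu))
  have ncd : c ≠ d := fun e => hCD (heq hc (e ▸ hd) hcu (e ▸ hdu))
  have hcard : Nat.card Z = 4 := by omega
  haveI := Fintype.ofFinite Z
  have h5 : ({1, ⟨a, hA ha⟩, ⟨b, hB hb⟩, ⟨c, hC hc⟩, ⟨d, hD hd⟩} : Finset Z).card ≤ Nat.card Z := by
    rw [Nat.card_eq_fintype_card]; exact Finset.card_le_univ _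
  rw [Finset.card_insert_of_notMem, Finset.card_insert_of_notMem, Finset.card_insert_of_notMem, Finset.card_pair,
    hcard] at h5
  · omega
  · exact fun e => ncd (congrArg Subtype.val e)
  · simp only [Finset.mem_insert, Finset.mem_singleton, Subtype.ext_iff, not_or]
    exact ⟨hsame hb hb1 hBC hc, hsame hb hb1 hBD hd⟩
  · simp only [Finset.mem_insert, Finset.mem_singleton, Subtype.ext_iff, not_or]
    exact ⟨nab, hsame ha ha1 hAC hc, hsame ha ha1 hAD hd⟩
  · simp only [Finset.mem_insert, Finset.mem_singleton, Subtype.ext_iff, OneMemClass.coe_one, not_or]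
    exact ⟨Ne.symm ha1, Ne.symm hb1, Ne.symm hc1, Ne.symm hd1⟩

theorem MaxStrad.setting (P : MaxStrad M T) (hK : Cfsg.IsJComponent T K) : Setting T K := ⟨P.isPGroup, hK⟩

theorem MaxStrad.J_le_M (P : MaxStrad M T) : CfsgLib.Transfer.thompsonJ 2 T ≤ M :=
  (CfsgLib.Transfer.thompsonJ_le 2 T).trans P.le_M

theorem MaxStrad.normalizer_local (P : MaxStrad M T) (O : Out M T K) :
    Cfsg.IsTwoLocal (Subgroup.normalizer (Cfsg.wOf K : Set G)) ∧
      ¬ Subgroup.normalizer (Cfsg.wOf K : Set G) ≤ M ∧ K ≤ Subgroup.normalizer (Cfsg.wOf K : Set G) ∧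
      CfsgLib.Transfer.thompsonJ 2 T ≤ Subgroup.normalizer (Cfsg.wOf K : Set G) := by
  have S := P.setting O.comp
  have hK : K ≤ Subgroup.normalizer (Cfsg.wOf K : Set G) :=
    Subgroup.le_normalizer.trans (normalizer_le_normalizer_wOf K)
  refine ⟨⟨Cfsg.wOf K, W_isPGroup, fun h => ?_, rfl⟩, fun h => O.out (hK.trans h), hK,
    S.J_le_normalizer.trans (normalizer_le_normalizer_wOf K)⟩
  have := S.card_W
  rw [h, Subgroup.card_bot] at this
  norm_num at this

/-- An outside component lies in `𝒦₀(T)`. -/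
theorem MaxStrad.zeroComp (P : MaxStrad M T) (O : Out M T K) : ZeroComp T K := by
  obtain ⟨h1, h2, -, -⟩ := P.normalizer_local O
  refine ⟨P.amb, P.setting O.comp, P.ne_bot, O.comp, fun S hJS hS => ?_⟩
  rw [CfsgLib.Transfer.thompsonSubgroupOf_eq] at hJS
  rw [CfsgLib.Transfer.thompsonSubgroupOf_eq, CfsgLib.Transfer.thompsonSubgroupOf_eq]
  exact (P.sylow_local h1 h2 hS hJS).1

theorem MaxStrad.normalizer_eq (P : MaxStrad M T) (O : Out M T K) :
    Subgroup.normalizer (K : Set G) = Subgroup.normalizer (Cfsg.wOf K : Set G) :=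
  (P.zeroComp O).normalizer_eq

/-- The overgroup data of an outside 2-local subgroup containing `J(T)`. -/
theorem MaxStrad.exists_over (P : MaxStrad M T) {X : Subgroup G} (hX : Cfsg.IsTwoLocal X) (hXM : ¬ X ≤ M)
    (hJX : CfsgLib.Transfer.thompsonJ 2 T ≤ X) :
    ∃ T₀ : Subgroup G, CfsgLib.Transfer.thompsonJ 2 T₀ = CfsgLib.Transfer.thompsonJ 2 T ∧ T₀ ≤ M ∧
      Over T₀ X ∧ CfsgLib.Transfer.thompsonJ 2 T ≤ T₀ := by
  haveI : Fact (Nat.Prime 2) := ⟨Nat.prime_two⟩
  obtain ⟨Q, hQ⟩ := ((P.isPGroup.to_le (CfsgLib.Transfer.thompsonJ_le 2 T)).comap_of_injective X.subtype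
    X.subtype_injective : IsPGroup 2 ((CfsgLib.Transfer.thompsonJ 2 T).subgroupOf X)).exists_le_sylow
  set T₀ := (Q : Subgroup X).map X.subtype with hT₀
  have hJT : CfsgLib.Transfer.thompsonJ 2 T ≤ T₀ := fun t ht => ⟨⟨t, hJX ht⟩, hQ ht, rfl⟩
  have hsy : Cfsg.IsSylowTwoIn T₀ X := by
    refine ⟨Subgroup.map_subtype_le _, Q.2.map _, ?_⟩
    rw [hT₀, Subgroup.relIndex, ← Subgroup.comap_subtype,
      Subgroup.comap_map_eq_self_of_injective (Subgroup.subtype_injective _)]
    rw [← Nat.not_even_iff_odd, even_iff_two_dvd]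
    exact Sylow.not_dvd_index Q
  obtain ⟨h1, h2, h3⟩ := P.sylow_local hX hXM hsy hJT
  refine ⟨T₀, h1, h2.2.2.1, ⟨P.amb, hsy.2.1, fun h => ?_, h3⟩, hJT⟩
  refine CfsgLib.Transfer.thompsonJ_ne_bot (dvd_refl 2) P.isPGroup P.ne_bot ?_
  exact le_bot_iff.1 (h ▸ hJT)

theorem MaxStrad.comp_pair (P : MaxStrad M T) {X : Subgroup G} (hX : Cfsg.IsTwoLocal X) (hXM : ¬ X ≤ M)
    (hJX : CfsgLib.Transfer.thompsonJ 2 T ≤ X) (hK : Cfsg.IsJComponent T K) (hKX : K ≤ X)
    (hK' : Cfsg.IsJComponent T K') (hK'X : K' ≤ X) :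
    K' ≤ Subgroup.normalizer (K : Set G) ∧
      ((∃ w ∈ Cfsg.wOf K, w ∈ Cfsg.wOf K' ∧ w ≠ 1) → K' = K) ∧
      (K' ≠ K → ∀ w ∈ Cfsg.wOf K, ∀ k ∈ K', k * w = w * k) := by
  obtain ⟨T₀, hJ₀, -, O, -⟩ := P.exists_over hX hXM hJX
  obtain ⟨Y, D⟩ := O.exists_local
  have S : Setting T₀ K := ⟨O.hT, component_congr hJ₀ hK⟩
  have S' : Setting T₀ K' := ⟨O.hT, component_congr hJ₀ hK'⟩
  obtain ⟨g, C, -⟩ := Comp.of_component O D S hKX
  obtain ⟨g', C', -⟩ := Comp.of_component O D S' hK'X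
  exact ⟨C'.le.trans (C.Y_le_normalizer O D), fun ⟨w, hw, hw', hw1⟩ => C.eq_of_share' O D C' hw hw' hw1,
    fun hne => C.centralizes O D C' S' hne⟩

/-- Being related is symmetric. -/
theorem MaxStrad.rel_symm (P : MaxStrad M T) (O : Out M T K) (hK' : Cfsg.IsJComponent T K')
    (h : K' ≤ Subgroup.normalizer (K : Set G)) : K ≤ Subgroup.normalizer (K' : Set G) := by
  obtain ⟨h1, h2, h3, h4⟩ := P.normalizer_local O
  exact (P.comp_pair h1 h2 h4 hK' (h.trans (normalizer_le_normalizer_wOf K)) O.comp h3).1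

/-- Being related is transitive. -/
theorem MaxStrad.rel_trans (P : MaxStrad M T) (O : Out M T K) {K₁ K₂ : Subgroup G}
    (hK₁ : Cfsg.IsJComponent T K₁) (hK₂ : Cfsg.IsJComponent T K₂)
    (h₁ : K₁ ≤ Subgroup.normalizer (K : Set G)) (h₂ : K₂ ≤ Subgroup.normalizer (K : Set G)) :
    K₂ ≤ Subgroup.normalizer (K₁ : Set G) := by
  obtain ⟨h1, h2, -, h4⟩ := P.normalizer_local O
  exact (P.comp_pair h1 h2 h4 hK₁ (h₁.trans (normalizer_le_normalizer_wOf K)) hK₂
    (h₂.trans (normalizer_le_normalizer_wOf K))).1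

theorem wOf_le_modProd (O : Out M T K') (h : K' ≤ Subgroup.normalizer (K : Set G)) :
    Cfsg.wOf K' ≤ modProd M T K :=
  le_iSup (fun K' : {K' : Subgroup G // Out M T K' ∧ K' ≤ Subgroup.normalizer (K : Set G)} => Cfsg.wOf K'.1)
    ⟨K', O, h⟩

theorem modProd_isAbExp (P : MaxStrad M T) (O : Out M T K) : CfsgLib.Transfer.IsAbExp 2 (modProd M T K) := by
  set F := modProd M T K with hF
  have hc : F ≤ Subgroup.centralizer (F : Set G) := by
    refine iSup_le fun K₁ => Subgroup.le_centralizer_iff.1 (iSup_le fun K₂ => ?_)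
    intro v hv
    refine Subgroup.mem_centralizer_iff.2 fun w hw => ?_
    have hn := P.rel_trans O K₁.2.1.comp K₂.2.1.comp K₁.2.2 K₂.2.2
    obtain ⟨h1, h2, h3, h4⟩ := P.normalizer_local K₁.2.1
    rcases eq_or_ne K₂.1 K₁.1 with e | e
    · exact ((P.setting K₁.2.1.comp).comm_W hw (e ▸ hv))
    · exact ((P.comp_pair h1 h2 h4 K₁.2.1.comp h3 K₂.2.1.comp (hn.trans (normalizer_le_normalizer_wOf _))).2.2 e
        w hw v (W_le_K hv)).symm
  have hcomm : ∀ a ∈ F, ∀ b ∈ F, a * b = b * a := fun a ha b hb => (Subgroup.mem_centralizer_iff.1 (hc ha) b hb).symm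
  let S2 : Subgroup G :=
    { carrier := {a | a ∈ F ∧ a ^ 2 = 1}
      mul_mem' := fun {a b} ha hb => ⟨mul_mem ha.1 hb.1, by
        rw [(show Commute a b from hcomm a ha.1 b hb.1).mul_pow, ha.2, hb.2, one_mul]⟩
      one_mem' := ⟨one_mem _, one_pow 2⟩
      inv_mem' := fun {a} ha => ⟨inv_mem ha.1, by rw [inv_pow, ha.2, inv_one]⟩ }
  have hle : F ≤ S2 := iSup_le fun K₁ w hw => ⟨le_iSup (fun K' : {K' : Subgroup G // Out M T K' ∧
      K' ≤ Subgroup.normalizer (K : Set G)} => Cfsg.wOf K'.1) K₁ hw,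
    by rw [pow_two]; exact omegaCenterOf_sq (W_le_omega hw)⟩
  exact ⟨⟨⟨fun a b => Subtype.ext (hcomm a a.2 b b.2)⟩⟩, fun a ha => (hle ha).2⟩

theorem MaxStrad.modProd_ne_bot (P : MaxStrad M T) (O : Out M T K) : modProd M T K ≠ ⊥ := by
  intro h
  have hle := (wOf_le_modProd O (Subgroup.le_normalizer (H := K))).trans h.le
  have := (P.setting O.comp).card_W
  rw [le_bot_iff.1 hle, Subgroup.card_bot] at this
  norm_num at this

theorem MaxStrad.maxLocal_isTwoLocal (P : MaxStrad M T) (O : Out M T K) :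
    Cfsg.IsTwoLocal (maxLocal M T K) :=
  ⟨modProd M T K, fun a => ⟨1, Subtype.ext (by simpa using (modProd_isAbExp P O).2 a a.2)⟩, P.modProd_ne_bot O, rfl⟩

/-- Related components have the same attached subgroup. -/
theorem MaxStrad.modProd_eq (P : MaxStrad M T) (O : Out M T K) (O' : Out M T K')
    (h : K' ≤ Subgroup.normalizer (K : Set G)) : modProd M T K' = modProd M T K := by
  refine le_antisymm (iSup_le fun K₁ => wOf_le_modProd K₁.2.1 ?_) (iSup_le fun K₁ => wOf_le_modProd K₁.2.1 ?_)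
  · exact P.rel_trans O' O.comp K₁.2.1.comp (P.rel_symm O O'.comp h) K₁.2.2
  · exact P.rel_trans O O'.comp K₁.2.1.comp h K₁.2.2

theorem MaxStrad.maxLocal_eq (P : MaxStrad M T) (O : Out M T K) (O' : Out M T K')
    (h : K' ≤ Subgroup.normalizer (K : Set G)) : maxLocal M T K' = maxLocal M T K := by
  rw [maxLocal, maxLocal, P.modProd_eq O O' h]

/-- A component normalizing `K` normalizes the product. -/
theorem MaxStrad.le_maxLocal (P : MaxStrad M T) (O : Out M T K) (hK' : Cfsg.IsJComponent T K')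
    (h : K' ≤ Subgroup.normalizer (K : Set G)) : K' ≤ maxLocal M T K := by
  intro k hk
  refine mem_normalizer_of_le ?_
  suffices modProd M T K ≤ (modProd M T K).comap (MulAut.conj k).toMonoidHom from fun x hx => this hx
  refine iSup_le fun K₁ w hw => wOf_le_modProd K₁.2.1 K₁.2.2 ?_
  exact (Subgroup.mem_normalizer_iff.1 (normalizer_le_normalizer_wOf _
    (P.rel_trans O K₁.2.1.comp hK' K₁.2.2 h hk)) w).1 hw

theorem MaxStrad.K_le_maxLocal (P : MaxStrad M T) (O : Out M T K) : K ≤ maxLocal M T K :=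
  P.le_maxLocal O O.comp Subgroup.le_normalizer

theorem MaxStrad.J_le_maxLocal (P : MaxStrad M T) :
    CfsgLib.Transfer.thompsonJ 2 T ≤ maxLocal M T K := by
  intro j hj
  refine mem_normalizer_of_le ?_
  suffices modProd M T K ≤ (modProd M T K).comap (MulAut.conj j).toMonoidHom from fun x hx => this hx
  refine iSup_le fun K₁ w hw => wOf_le_modProd K₁.2.1 K₁.2.2 ?_
  exact (Subgroup.mem_normalizer_iff.1 (normalizer_le_normalizer_wOf _
    ((P.setting K₁.2.1.comp).J_le_normalizer hj)) w).1 hw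

/-- An element of `N(J)` maps outside components to outside components. -/
theorem MaxStrad.out_map (P : MaxStrad M T) {n : G}
    (hn : n ∈ Subgroup.normalizer (CfsgLib.Transfer.thompsonJ 2 T : Set G)) (O : Out M T K) :
    Out M T (K.map (MulAut.conj n).toMonoidHom) := by
  refine ⟨component_congr ?_ (component_map n O.comp), fun h => O.out fun k hk => ?_⟩
  · rw [← CfsgLib.Transfer.map_thompsonJ 2 _ (MulAut.conj n).injective.injOn]
    refine le_antisymm (fun x hx => ⟨n⁻¹ * x * n, (Subgroup.mem_normalizer_iff''.1 hn x).1 hx, by simp [mul_assoc]⟩) ?_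
    rintro _ ⟨x, hx, rfl⟩
    exact (Subgroup.mem_normalizer_iff.1 hn x).1 hx
  · have hnM : n ∈ M := P.normalizer_J_le hn
    have h' : n * k * n⁻¹ ∈ M := h ⟨k, hk, rfl⟩
    rw [show k = n⁻¹ * (n * k * n⁻¹) * n by group]
    exact mul_mem (mul_mem (inv_mem hnM) h') hnM

theorem normalizer_map_le {n : G} (h : K' ≤ Subgroup.normalizer (K : Set G)) :
    K'.map (MulAut.conj n).toMonoidHom ≤ Subgroup.normalizer ((K.map (MulAut.conj n).toMonoidHom : Subgroup G) : Set G) :=
  (Subgroup.map_mono h).trans (Subgroup.le_normalizer_map _)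

/-- An element of `N(J)` carrying `K` to a related component stabilizes the product. -/
theorem MaxStrad.mem_maxLocal_of_rel (P : MaxStrad M T) (O : Out M T K) {n : G}
    (hn : n ∈ Subgroup.normalizer (CfsgLib.Transfer.thompsonJ 2 T : Set G))
    (h : K.map (MulAut.conj n).toMonoidHom ≤ Subgroup.normalizer (K : Set G)) : n ∈ maxLocal M T K := by
  refine mem_normalizer_of_le ?_
  suffices modProd M T K ≤ (modProd M T K).comap (MulAut.conj n).toMonoidHom from fun x hx => this hx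
  refine iSup_le fun K₁ w hw => ?_
  have hO₁ := P.out_map hn K₁.2.1
  refine wOf_le_modProd hO₁ ?_ ?_
  · refine P.rel_trans (P.out_map hn O) O.comp hO₁.comp ?_ (normalizer_map_le K₁.2.2)
    exact P.rel_symm O (P.out_map hn O).comp h
  · rw [wOf_map n (pCoreOf_map _ n)]
    exact ⟨w, hw, rfl⟩

/-- Every 2-local subgroup containing `K J(T)` is in `maxLocal`. -/
theorem MaxStrad.local_le_maxLocal (P : MaxStrad M T) (O : Out M T K) {X : Subgroup G}
    (hX : Cfsg.IsTwoLocal X) (hKX : K ≤ X) (hJX : CfsgLib.Transfer.thompsonJ 2 T ≤ X) :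
    X ≤ maxLocal M T K := by
  have hXM : ¬ X ≤ M := fun h => O.out (hKX.trans h)
  obtain ⟨T₀, hJ₀, hT₀M, Ov, -⟩ := P.exists_over hX hXM hJX
  have hN : ∀ n ∈ X, n ∈ Subgroup.normalizer (CfsgLib.Transfer.thompsonJ 2 T : Set G) → n ∈ maxLocal M T K := by
    intro n hnX hn
    refine P.mem_maxLocal_of_rel O hn ((P.comp_pair hX hXM hJX O.comp hKX (P.out_map hn O).comp ?_).1)
    rintro _ ⟨k, hk, rfl⟩
    exact mul_mem (mul_mem hnX (hKX hk)) (inv_mem hnX)
  by_contra hle
  have hT₀ : T₀ ≤ maxLocal M T K := fun t ht => hN t (Ov.mem.1.1 ht) (by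
    rw [← hJ₀]; exact CfsgLib.Transfer.normalizer_le_normalizer_thompsonJ 2 T₀ (Subgroup.le_normalizer ht))
  obtain ⟨K'', hK'', hK''X, hK''L⟩ := Over.exists_component_of_local Ov hT₀
    (fun n hn hnX => hN n hnX (by rwa [← hJ₀])) hle (fun S hS hJS => by
      rw [hJ₀] at hJS ⊢
      exact (P.sylow_local hX hXM hS hJS).1)
  have hc : Cfsg.IsJComponent T K'' := component_congr hJ₀.symm hK''
  exact hK''L (P.le_maxLocal O hc (P.comp_pair hX hXM hJX O.comp hKX hc hK''X).1)

theorem MaxStrad.maxLocal_isMaximal (P : MaxStrad M T) (O : Out M T K) :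
    Cfsg.IsMaximalTwoLocal (maxLocal M T K) :=
  ⟨P.maxLocal_isTwoLocal O, fun _ hN hle =>
    le_antisymm (P.local_le_maxLocal O hN ((P.K_le_maxLocal O).trans hle) (P.J_le_maxLocal.trans hle)) hle⟩

theorem MaxStrad.maxLocal_not_le (P : MaxStrad M T) (O : Out M T K) : ¬ maxLocal M T K ≤ M :=
  fun h => O.out ((P.K_le_maxLocal O).trans h)

/-- Components in `maxLocal` are related to `K`. -/
theorem MaxStrad.rel_of_le_maxLocal (P : MaxStrad M T) (O : Out M T K) (hK' : Cfsg.IsJComponent T K')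
    (h : K' ≤ maxLocal M T K) : K' ≤ Subgroup.normalizer (K : Set G) :=
  (P.comp_pair (P.maxLocal_isTwoLocal O) (P.maxLocal_not_le O) P.J_le_maxLocal O.comp (P.K_le_maxLocal O) hK' h).1

theorem centralizer_isTwoLocal {y : G} (hy : y ≠ 1) (hy2 : y * y = 1) :
    Cfsg.IsTwoLocal (Subgroup.centralizer ({y} : Set G)) := by
  refine ⟨Subgroup.zpowers y, ?_, fun h => hy (Subgroup.mem_bot.1 (h ▸ Subgroup.mem_zpowers y)), ?_⟩
  · rw [IsPGroup.iff_card, Nat.card_zpowers]
    exact ⟨1, by rw [pow_one]; exact orderOf_eq_prime (by rw [pow_two]; exact hy2) hy⟩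
  · refine le_antisymm ?_ ?_
    · intro x hx
      refine mem_normalizer_of_le ?_
      have hle : Subgroup.zpowers y ≤ (Subgroup.zpowers y).comap (MulAut.conj x).toMonoidHom := by
        rw [Subgroup.zpowers_le]
        show x * y * x⁻¹ ∈ Subgroup.zpowers y
        rw [Subgroup.mem_centralizer_singleton_iff.1 hx, mul_inv_cancel_right]
        exact Subgroup.mem_zpowers y
      exact fun w hw => hle hw
    · intro x hx
      have hmem := (Subgroup.mem_normalizer_iff.1 hx y).1 (Subgroup.mem_zpowers y)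
      obtain ⟨k, hk⟩ := Subgroup.mem_zpowers_iff.1 hmem
      rw [Subgroup.mem_centralizer_singleton_iff]
      refine mul_inv_eq_iff_eq_mul.1 ?_
      have hy2' : y ^ (2 : ℤ) = 1 := by rw [zpow_two]; exact hy2
      rcases Int.even_or_odd k with ⟨m, rfl⟩ | ⟨m, rfl⟩
      · rw [← two_mul, zpow_mul, hy2', one_zpow] at hk
        exact absurd (conj_eq_one_iff.1 hk.symm) hy
      · rw [zpow_add, zpow_mul, hy2', one_zpow, one_mul, zpow_one] at hk
        exact hk.symm

theorem MaxStrad.local_of_centPart (P : MaxStrad M T) (hK : Cfsg.IsJComponent T K) {y : G}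
    (hy : y ∈ centPart T K) (hy1 : y ≠ 1) :
    Cfsg.IsTwoLocal (Subgroup.centralizer ({y} : Set G)) ∧ K ≤ Subgroup.centralizer ({y} : Set G) ∧
      CfsgLib.Transfer.thompsonJ 2 T ≤ Subgroup.centralizer ({y} : Set G) :=
  ⟨centralizer_isTwoLocal hy1 (omegaCenterOf_sq hy.1),
    fun _ hk => Subgroup.mem_centralizer_singleton_iff.2 (Subgroup.mem_centralizer_iff.1 hy.2 _ hk),
    fun _ hj => Subgroup.mem_centralizer_singleton_iff.2 (omegaCenterOf_comm hy.1 hj)⟩

/-- A common fixed point makes components related. -/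
theorem MaxStrad.rel_of_centPart (P : MaxStrad M T) (O : Out M T K) (hK' : Cfsg.IsJComponent T K') {y : G}
    (hy : y ∈ centPart T K) (hy' : y ∈ centPart T K') (hy1 : y ≠ 1) :
    K' ≤ Subgroup.normalizer (K : Set G) := by
  obtain ⟨h1, h2, h3⟩ := P.local_of_centPart O.comp hy hy1
  exact (P.comp_pair h1 (fun h => O.out (h2.trans h)) h3 O.comp h2 hK' (P.local_of_centPart hK' hy' hy1).2.1).1

theorem MaxStrad.centPart_inf (P : MaxStrad M T) (O : Out M T K) (hK' : Cfsg.IsJComponent T K')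
    (h : ¬ K' ≤ Subgroup.normalizer (K : Set G)) : centPart T K ⊓ centPart T K' = ⊥ := by
  refine (Subgroup.eq_bot_iff_forall _).2 fun y hy => ?_
  by_contra hy1
  exact h (P.rel_of_centPart O hK' hy.1 hy.2 hy1)

/-- The point of a related component is fixed by `K`. -/
theorem MaxStrad.point_mem (P : MaxStrad M T) (O : Out M T K) (hK' : Cfsg.IsJComponent T K')
    (h : K' ≤ Subgroup.normalizer (K : Set G)) (hne : K' ≠ K) {z : G} (hz : z ∈ Cfsg.wOf K')
    (hzZ : z ∈ Cfsg.omegaCenterOf (CfsgLib.Transfer.thompsonJ 2 T)) : z ∈ centPart T K := by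
  obtain ⟨h1, h2, h3, h4⟩ := P.normalizer_local O
  refine ⟨hzZ, Subgroup.mem_centralizer_iff.2 fun k hk => ?_⟩
  exact (P.comp_pair h1 h2 h4 hK' (h.trans (normalizer_le_normalizer_wOf K)) O.comp h3).2.2 (Ne.symm hne) z hz k hk

/-- Related components are determined by their fixed points. -/
theorem MaxStrad.eq_of_centPart_eq (P : MaxStrad M T) (O : Out M T K) (hK' : Cfsg.IsJComponent T K')
    (h : K' ≤ Subgroup.normalizer (K : Set G)) (e : centPart T K' = centPart T K) : K' = K := by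
  by_contra hne
  obtain ⟨z, hzW, hzZ, -, hznot, -, -⟩ := (P.setting hK').exists_point
  exact hznot (e.ge (P.point_mem O hK' h hne hzW hzZ))

theorem MaxStrad.centPart_ne (P : MaxStrad M T) (O : Out M T K) (hK' : Cfsg.IsJComponent T K')
    (h : K' ≤ Subgroup.normalizer (K : Set G)) (hne : K' ≠ K) : centPart T K' ≠ centPart T K :=
  fun e => hne (P.eq_of_centPart_eq O hK' h e)

theorem MaxStrad.card_le_four (P : MaxStrad M T) (hK : Cfsg.IsJComponent T K) (hK' : Cfsg.IsJComponent T K')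
    (h : centPart T K ⊓ centPart T K' = ⊥) :
    Nat.card (Cfsg.omegaCenterOf (CfsgLib.Transfer.thompsonJ 2 T)) ≤ 4 := by
  have h1 := (P.setting hK).card_omega
  have h2 := (P.setting hK').card_omega
  have h3 := card_mul_card_le_of_disjoint (Z := Cfsg.omegaCenterOf (CfsgLib.Transfer.thompsonJ 2 T))
    (inf_le_left : centPart T K ≤ _) (inf_le_left : centPart T K' ≤ _) h
  change Nat.card (centPart T K) * Nat.card (centPart T K') ≤ _ at h3
  rw [h1, show Nat.card (centPart T K') = Nat.card (centPart T K) by omega, mul_comm 2] at h3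
  have := Nat.le_of_mul_le_mul_left h3 Nat.card_pos
  omega

end CfsgLib.JComp
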