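import Cfsg.Agent.Lib.JComp.Straddle

/-!
# Several components in one 2-local subgroup
-/

set_option autoImplicit false
set_option linter.style.haveILetI false

namespace CfsgLib.JComp

open scoped commutatorElement

universe u

variable {G : Type u} [Group G] [Finite G]

/-- The image of a 2-group normalizing `K` contains no new elements of odd order. -/
theorem odd_mem_sup {K R : Subgroup G} (hR : IsPGroup 2 R) (hRK : R ≤ Subgroup.normalizer (K : Set G)) {x : G}
    (hx : x ∈ K ⊔ R) (hxo : Odd (orderOf x)) : x ∈ K := by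
  haveI : (K.subgroupOf (K ⊔ R)).Normal :=
    (Subgroup.normal_subgroupOf_iff_le_normalizer le_sup_left).2 (sup_le Subgroup.le_normalizer hRK)
  have hx' : x ∈ (((R ⊔ K) : Subgroup G) : Set G) := (sup_comm K R).le hx
  rw [Subgroup.coe_mul_of_left_le_normalizer_right _ _ hRK] at hx'
  obtain ⟨r, hr, k, hk, e⟩ := hx'
  have e' : r * k = x := e
  let π := QuotientGroup.mk' (K.subgroupOf (K ⊔ R))
  have h1 : π ⟨x, hx⟩ = π ⟨r, Subgroup.mem_sup_right hr⟩ := by
    refine (QuotientGroup.eq.2 ?_).symm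
    show r⁻¹ * x ∈ K
    rw [← e']; simpa using hk
  have d1 : orderOf (π ⟨x, hx⟩) ∣ orderOf x :=
    (orderOf_map_dvd π (⟨x, hx⟩ : ↥(K ⊔ R))).trans (dvd_of_eq (Subgroup.orderOf_mk x hx))
  obtain ⟨m, hm⟩ := hR ⟨r, hr⟩
  have d2 : orderOf (π ⟨x, hx⟩) ∣ 2 ^ m := by
    refine orderOf_dvd_of_pow_eq_one ?_
    rw [h1, ← map_pow, show (⟨r, Subgroup.mem_sup_right hr⟩ : ↥(K ⊔ R)) ^ 2 ^ m = 1 from
      Subtype.ext (by simpa using congrArg Subtype.val hm), map_one]
  have h3 := orderOf_eq_one_iff.1 (Nat.eq_one_of_dvd_coprimes (hxo.coprime_two_right.pow_right m) d1 d2)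
  exact (QuotientGroup.eq_one_iff (N := K.subgroupOf (K ⊔ R)) _).1 h3

variable {T L Y K K' : Subgroup G} {g g' : G}

/-- `Y` normalizes every component. -/
theorem Comp.Y_le_normalizer (O : Over T L) (D : LocalData T L Y) (C : Comp T L Y K g) :
    Y ≤ Subgroup.normalizer (K : Set G) := by
  intro y hy
  refine mem_normalizer_of_le ?_
  suffices K ≤ K.comap (MulAut.conj y).toMonoidHom from fun x hx => this hx
  conv_lhs => rw [← C.gen]
  refine (Subgroup.closure_le _).2 ?_
  rintro x ⟨hx, hxo⟩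
  refine odd_mem_sup (CfsgLib.PReduced.isPGroup_pCoreOf 2 L) C.normR ?_ ?_
  · show y * x * y⁻¹ ∈ K ⊔ Cfsg.pCoreOf 2 L
    rw [show y * x * y⁻¹ = ⁅y, x⁆ * x by simp only [commutatorElement_def]; group]
    exact mul_mem (Subgroup.mem_sup_right (D.comm y hy x (C.le hx))) (Subgroup.mem_sup_left hx)
  · show Odd (orderOf (MulAut.conj y x))
    rw [MulEquiv.orderOf_eq]; exact hxo

/-- Different components centralize each other's module. -/
theorem Comp.centralizes (O : Over T L) (D : LocalData T L Y) (C : Comp T L Y K g) (C' : Comp T L Y K' g')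
    (S' : Setting T K') (hne : K' ≠ K) : ∀ w ∈ Cfsg.wOf K, ∀ k ∈ K', k * w = w * k := by
  have hdis : ∀ v ∈ Cfsg.wOf K, v ∈ Cfsg.wOf K' → v = 1 := fun v hv hv' => by
    by_contra hv1
    exact hne (C.eq_of_share' O D C' hv hv' hv1)
  intro w hw
  have hK'K : K' ≤ Subgroup.normalizer (K : Set G) := C'.le.trans (C.Y_le_normalizer O D)
  have hKK' : K ≤ Subgroup.normalizer (K' : Set G) := C.le.trans (C'.Y_le_normalizer O D)
  have hW : ∀ h ∈ Subgroup.normalizer (K : Set G), ∀ v ∈ Cfsg.wOf K, h * v * h⁻¹ ∈ Cfsg.wOf K :=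
    fun h hh v hv => (Subgroup.mem_normalizer_iff.1 (normalizer_le_normalizer_wOf K hh) v).1 hv
  set Q' := Cfsg.pCoreOf 2 K' with hQ'
  have hQ'W : ∀ q ∈ Q', ∀ v ∈ Cfsg.wOf K, q * v = v * q := by
    refine C.moves.centralizes_of_normalizes C.card (CfsgLib.PReduced.isPGroup_pCoreOf 2 K')
      (fun q hq v hv => hW q (hK'K (CfsgLib.Signalizer.pCoreOf_le 2 K' hq)) v hv) fun q hq => ?_
    exact (Subgroup.mem_normalizer_iff''.1
      (CfsgLib.Signalizer.normalizer_le_normalizer_pCoreOf 2 (le_refl _) (hKK' C.gmem)) q).1 hq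
  have key : ∀ k ∈ Subgroup.closure {x : G | x ∈ K' ∧ Odd (orderOf x)}, k * w = w * k := by
    intro k hk
    induction hk using Subgroup.closure_induction with
    | mem k hk =>
      obtain ⟨hkK, hko⟩ := hk
      set c := w⁻¹ * (k * w * k⁻¹) with hc
      have hkwW := hW k (hK'K hkK) w hw
      have hcW : c ∈ Cfsg.wOf K := mul_mem (inv_mem hw) hkwW
      have hwK' : w ∈ Subgroup.normalizer (K' : Set G) := hKK' (W_le_K hw)
      have hcK' : c ∈ K' := by
        rw [show c = w⁻¹ * k * w⁻¹⁻¹ * k⁻¹ by rw [hc]; group]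
        exact mul_mem ((Subgroup.mem_normalizer_iff.1 (inv_mem hwK') k).1 hkK) (inv_mem hkK)
      have hc2 : c * c = 1 := omegaCenterOf_sq (W_le_omega hcW)
      have hcQ' : c ∈ Q' := by
        have hn : (((Cfsg.wOf K ⊓ K') : Subgroup G).subgroupOf K').Normal :=
          (Subgroup.normal_subgroupOf_iff_le_normalizer inf_le_right).2 fun x hx =>
            mem_normalizer_of_le fun v hv => Subgroup.mem_inf.2
              ⟨hW x (hK'K hx) v hv.1, K'.mul_mem (K'.mul_mem hx hv.2) (K'.inv_mem hx)⟩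
        have h := CfsgLib.Fitting.le_pCore (G := ↥K') hn
          (((W_isPGroup (K := K)).to_le inf_le_left).comap_of_injective K'.subtype K'.subtype_injective)
        exact ⟨⟨c, hcK'⟩, h (Subgroup.mem_inf.2 ⟨hcW, hcK'⟩ : c ∈ Cfsg.wOf K ⊓ K'), rfl⟩
      have hcU : c ∈ Cfsg.omegaCenterOf Q' := mem_omegaCenterOf hcQ' (fun y hy => hQ'W y hy c hcW) hc2
      have hcc : ⁅c, k⁆ = 1 := by
        refine hdis _ ?_ (Subgroup.commutator_mem_commutator hcU hkK)
        rw [show ⁅c, k⁆ = c * (k * c⁻¹ * k⁻¹) by simp only [commutatorElement_def]; group]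
        exact mul_mem hcW (hW k (hK'K hkK) _ (inv_mem hcW))
      exact commute_of_commutator_central hko (c := c) (by rw [hc]; group)
        (commutatorElement_eq_one_iff_mul_comm.1 hcc).symm hc2
    | one => rw [one_mul, mul_one]
    | mul a b _ _ iha ihb => exact ((show Commute a w from iha).mul_left ihb)
    | inv a _ iha => exact (show Commute a w from iha).inv_left
  intro k hk
  exact key k (by rw [S'.hK.1]; exact hk)

/-- Components depend on `T` only through `J(T)`. -/
theorem component_congr {T₀ : Subgroup G}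
    (hJ : CfsgLib.Transfer.thompsonJ 2 T₀ = CfsgLib.Transfer.thompsonJ 2 T) (hK : Cfsg.IsJComponent T K) :
    Cfsg.IsJComponent T₀ K := by
  unfold Cfsg.IsJComponent at hK ⊢
  rw [CfsgLib.Transfer.thompsonSubgroupOf_eq] at hK ⊢
  rw [hJ]
  exact hK

/-- Conjugates of components. -/
theorem component_map (h : G) (hK : Cfsg.IsJComponent T K) :
    Cfsg.IsJComponent (T.map (MulAut.conj h).toMonoidHom) (K.map (MulAut.conj h).toMonoidHom) := by
  set c := (MulAut.conj h).toMonoidHom with hc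
  have hcinj : Function.Injective c := (MulAut.conj h).injective
  set d := (MulAut.conj h⁻¹).toMonoidHom with hd
  have hdc : ∀ X : Subgroup G, (X.map c).map d = X := fun X => by
    rw [Subgroup.map_map, show d.comp c = MonoidHom.id G from MonoidHom.ext fun x => by simp [hc, hd, mul_assoc],
      Subgroup.map_id]
  have hcd : ∀ X : Subgroup G, (X.map d).map c = X := fun X => by
    rw [Subgroup.map_map, show c.comp d = MonoidHom.id G from MonoidHom.ext fun x => by simp [hc, hd, mul_assoc],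
      Subgroup.map_id]
  have hJ : CfsgLib.Transfer.thompsonJ 2 (T.map c) = (CfsgLib.Transfer.thompsonJ 2 T).map c :=
    (CfsgLib.Transfer.map_thompsonJ 2 c (Set.injOn_of_injective hcinj)).symm
  obtain ⟨h1, h2, h3, h4, h5, h6⟩ := hK
  rw [CfsgLib.Transfer.thompsonSubgroupOf_eq] at h2
  refine ⟨?_, ?_, ?_, ?_, ?_, ?_⟩
  · refine le_antisymm ((Subgroup.closure_le _).2 fun x hx => hx.1) ?_
    conv_lhs => rw [← h1, MonoidHom.map_closure]
    refine Subgroup.closure_mono ?_
    rintro _ ⟨x, ⟨hx, ho⟩, rfl⟩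
    exact ⟨⟨x, hx, rfl⟩, by rw [orderOf_injective c hcinj]; exact ho⟩
  · rw [CfsgLib.Transfer.thompsonSubgroupOf_eq, hJ, ← Subgroup.map_commutator, h2]
  · rw [pCoreOf_map, Subgroup.relIndex_map_map_of_injective _ _ hcinj]
    exact h3
  · intro S hS hle
    rw [CfsgLib.Transfer.thompsonSubgroupOf_eq, hJ] at hS hle
    rw [CfsgLib.Transfer.thompsonSubgroupOf_eq, CfsgLib.Transfer.thompsonSubgroupOf_eq, hJ]
    have hsup : (K.map c ⊔ (CfsgLib.Transfer.thompsonJ 2 T).map c).map d = K ⊔ CfsgLib.Transfer.thompsonJ 2 T := by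
      rw [Subgroup.map_sup, hdc, hdc]
    have hS' : Cfsg.IsSylowTwoIn (S.map d) (K ⊔ CfsgLib.Transfer.thompsonJ 2 T) := by
      rw [← hsup]
      refine ⟨Subgroup.map_mono hS.1, hS.2.1.map d, ?_⟩
      rw [Subgroup.relIndex_map_map_of_injective _ _ (MulAut.conj h⁻¹).injective]
      exact hS.2.2
    have h' := h4 (S.map d) (by rw [CfsgLib.Transfer.thompsonSubgroupOf_eq]; exact hS')
      (by
        rw [CfsgLib.Transfer.thompsonSubgroupOf_eq]
        have := Subgroup.map_mono (f := d) hle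
        rwa [hdc] at this)
    rw [CfsgLib.Transfer.thompsonSubgroupOf_eq, CfsgLib.Transfer.thompsonSubgroupOf_eq] at h'
    rw [← h', CfsgLib.Transfer.map_thompsonJ 2 c (Set.injOn_of_injective hcinj), hcd]
  · rw [wOf_map h (pCoreOf_map K h), Subgroup.card_map_of_injective hcinj]
    exact h5
  · rw [wOf_map h (pCoreOf_map K h)]
    rintro _ ⟨w, hw, rfl⟩
    rw [← map_mul, h6 w hw, map_one]

/-- `Ω₁(Z(J(T)))` meets the centralizer of `K`. -/
def centPart (T K : Subgroup G) : Subgroup G :=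
  Cfsg.omegaCenterOf (CfsgLib.Transfer.thompsonJ 2 T) ⊓ Subgroup.centralizer (K : Set G)

theorem centPart_map {h : G} (hh : h ∈ Subgroup.normalizer (CfsgLib.Transfer.thompsonJ 2 T : Set G)) :
    centPart T (K.map (MulAut.conj h).toMonoidHom) = (centPart T K).map (MulAut.conj h).toMonoidHom := by
  have hZ : h ∈ Subgroup.normalizer (Cfsg.omegaCenterOf (CfsgLib.Transfer.thompsonJ 2 T) : Set G) :=
    normalizer_le_normalizer_omegaCenterOf _ hh
  ext x
  constructor
  · rintro ⟨h1, h2⟩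
    refine ⟨h⁻¹ * x * h, ⟨(Subgroup.mem_normalizer_iff''.1 hZ x).1 h1,
      Subgroup.mem_centralizer_iff.2 fun k hk => ?_⟩, by simp [mul_assoc]⟩
    have h3 := congrArg (fun z => h⁻¹ * z * h) (Subgroup.mem_centralizer_iff.1 h2 _ ⟨k, hk, rfl⟩)
    simpa [mul_assoc] using h3
  · rintro ⟨y, ⟨h1, h2⟩, rfl⟩
    refine ⟨(Subgroup.mem_normalizer_iff.1 hZ y).1 h1, Subgroup.mem_centralizer_iff.2 ?_⟩
    rintro _ ⟨k, hk, rfl⟩
    rw [← map_mul, ← map_mul, Subgroup.mem_centralizer_iff.1 h2 k hk]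

/-- The shape of `Ω₁(Z(J(T)))` next to a component. -/
theorem Setting.exists_point (S : Setting T K) :
    ∃ z, z ∈ Cfsg.wOf K ∧ z ∈ Cfsg.omegaCenterOf (CfsgLib.Transfer.thompsonJ 2 T) ∧ z ≠ 1 ∧ z ∉ centPart T K ∧
      (∀ v ∈ Cfsg.wOf K, v ∈ Cfsg.omegaCenterOf (CfsgLib.Transfer.thompsonJ 2 T) → v = 1 ∨ v = z) ∧
      (∀ v ∈ Cfsg.omegaCenterOf (CfsgLib.Transfer.thompsonJ 2 T), v ∈ centPart T K ∨ v * z ∈ centPart T K) := by
  obtain ⟨w, hwW, hw1, hwZ, huniq, hsplit⟩ := S.split
  obtain ⟨g, hgK, -, hg⟩ := S.moves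
  refine ⟨w, hwW, hwZ, hw1, fun h => hw1 (hg.fpf w hwW (Subgroup.mem_centralizer_iff.1 h.2 g hgK)), huniq,
    fun v hv => ?_⟩
  obtain ⟨y, -, hyc, e | e⟩ := hsplit v hv
  · refine Or.inl ⟨hv, Subgroup.mem_centralizer_iff.2 fun k hk => ?_⟩
    rw [← e]; exact hyc k (Subgroup.mem_sup_left hk)
  · refine Or.inr ⟨mul_mem hv hwZ, Subgroup.mem_centralizer_iff.2 fun k hk => ?_⟩
    rw [← e]; exact hyc k (Subgroup.mem_sup_left hk)

theorem Setting.card_omega (S : Setting T K) :
    Nat.card (Cfsg.omegaCenterOf (CfsgLib.Transfer.thompsonJ 2 T)) = 2 * Nat.card (centPart T K) := by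
  obtain ⟨z, -, hzZ, -, hzY, -, hsplit⟩ := S.exists_point
  set Z := Cfsg.omegaCenterOf (CfsgLib.Transfer.thompsonJ 2 T) with hZ
  have hc : ∀ a ∈ Z, ∀ b ∈ Z, a * b = b * a := fun a ha b hb => omegaCenterOf_comm hb (omegaCenterOf_le _ ha)
  refine le_antisymm (card_le_two_mul fun a ha b hb ha' hb' => ?_) ?_
  · have h1 := (hsplit a ha).resolve_left ha'
    have h2 := (hsplit b hb).resolve_left hb'
    have e : a * b = (a * z) * (b * z) := by
      calc a * b = a * (z * z) * b := by rw [omegaCenterOf_sq hzZ, mul_one]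
        _ = a * z * (z * b) := by group
        _ = _ := by rw [hc z hzZ b hb]
    rw [e]; exact mul_mem h1 h2
  · have hf : Function.Injective
        (fun p : centPart T K × Bool => (⟨if p.2 then (p.1 : G) * z else (p.1 : G), by
          split_ifs
          · exact mul_mem p.1.2.1 hzZ
          · exact p.1.2.1⟩ : Z)) := by
      rintro ⟨p, b⟩ ⟨q, b'⟩ e
      have e' := congrArg Subtype.val e
      cases b <;> cases b' <;> simp only [if_true, if_false, Bool.false_eq_true] at e'
      · exact Prod.ext (Subtype.ext e') rfl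
      · refine absurd ?_ hzY
        rw [show z = (q : G)⁻¹ * p by rw [e']; group]
        exact mul_mem (inv_mem q.2) p.2
      · refine absurd ?_ hzY
        rw [show z = (p : G)⁻¹ * q by rw [← e']; group]
        exact mul_mem (inv_mem p.2) q.2
      · exact Prod.ext (Subtype.ext (mul_right_cancel e')) rfl
    have := Nat.card_le_card_of_injective _ hf
    rwa [Nat.card_prod, Nat.card_eq_fintype_card (α := Bool), Fintype.card_bool, mul_comm] at this

end CfsgLib.JComp
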