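import Mathlib

/-!
# Permutations of three objects, stated for abstract groups
-/

set_option autoImplicit false

namespace CfsgLib.JComp

/-- A subgroup of `Perm α`, `|α| = 3`, with two different involutions is everything. -/
theorem eq_top_of_two_involutions {α : Type*} [Finite α] (hα : Nat.card α = 3) (H : Subgroup (Equiv.Perm α))
    {a b : Equiv.Perm α} (ha : a ∈ H) (hb : b ∈ H) (ha1 : a * a = 1) (hb1 : b * b = 1)
    (ha0 : a ≠ 1) (hb0 : b ≠ 1) (hab : a ≠ b) : H = ⊤ := by
  classical
  have h6 : Nat.card (Equiv.Perm α) = 6 := by rw [Nat.card_perm, hα]; rfl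
  have h3 : 3 ≤ Nat.card H := by
    haveI := Fintype.ofFinite H
    have : ({1, ⟨a, ha⟩, ⟨b, hb⟩} : Finset H).card ≤ Nat.card H := by
      rw [Nat.card_eq_fintype_card]; exact Finset.card_le_univ _
    rwa [Finset.card_insert_of_notMem (by simp [Subtype.ext_iff, Ne.symm ha0, Ne.symm hb0]),
      Finset.card_pair (by simp [Subtype.ext_iff, hab])] at this
  have h2 : 2 ∣ Nat.card H := by
    have := orderOf_dvd_natCard (⟨a, ha⟩ : H)
    rwa [orderOf_eq_prime (p := 2) (Subtype.ext (by rw [pow_two]; exact ha1))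
      (fun h => ha0 (congrArg Subtype.val h))] at this
  refine Subgroup.eq_top_of_card_eq _ ?_
  have hd := Subgroup.card_subgroup_dvd_card H
  rw [h6] at hd ⊢
  have := Nat.le_of_dvd (by norm_num) hd
  interval_cases hn : Nat.card H <;> simp_all

end CfsgLib.JComp
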