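import Cfsg.Agent.Lib.JComp.Basic
import Cfsg.Agent.Lib.JComp.Perm3
import Cfsg.Agent.Lib.PReduced.Largest

/-!
# The action of `K J` on the four-group `W`
-/

set_option autoImplicit false

namespace CfsgLib.JComp

open scoped commutatorElement

variable {G : Type*} [Group G] [Finite G]

/-- The data used below. -/
structure Setting (T K : Subgroup G) : Prop where
  hT : IsPGroup 2 T
  hK : Cfsg.IsJComponent T K

variable {T K : Subgroup G}

local notation "J" => CfsgLib.Transfer.thompsonJ 2 T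
local notation "W" => Cfsg.wOf K
local notation "H" => K ⊔ CfsgLib.Transfer.thompsonJ 2 T

theorem Setting.comm_eq (S : Setting T K) : ⁅K, J⁆ = K := by
  rw [← CfsgLib.Transfer.thompsonSubgroupOf_eq]; exact S.hK.2.1

theorem Setting.J_le_normalizer (S : Setting T K) : J ≤ Subgroup.normalizer (K : Set G) :=
  le_normalizer_of_commutator_eq S.comm_eq

theorem Setting.H_le_normalizer (S : Setting T K) : H ≤ Subgroup.normalizer (K : Set G) :=
  sup_le Subgroup.le_normalizer S.J_le_normalizer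

theorem omega_le_Q : Cfsg.omegaCenterOf (Cfsg.pCoreOf 2 K) ≤ Cfsg.pCoreOf 2 K := omegaCenterOf_le _

theorem K_le_normalizer_omega : K ≤ Subgroup.normalizer (Cfsg.omegaCenterOf (Cfsg.pCoreOf 2 K) : Set G) :=
  (CfsgLib.Signalizer.normalizer_le_normalizer_pCoreOf 2 Subgroup.le_normalizer).trans
    (normalizer_le_normalizer_omegaCenterOf _)

theorem W_le_omega : W ≤ Cfsg.omegaCenterOf (Cfsg.pCoreOf 2 K) := by
  rw [Cfsg.wOf, Subgroup.commutator_le]
  intro x hx k hk
  have h : k * x⁻¹ * k⁻¹ ∈ Cfsg.omegaCenterOf (Cfsg.pCoreOf 2 K) :=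
    (Subgroup.mem_normalizer_iff.1 (K_le_normalizer_omega hk) _).1 (inv_mem hx)
  rw [commutatorElement_def, mul_assoc, mul_assoc, ← mul_assoc k]
  exact mul_mem hx h

theorem W_le_K : W ≤ K :=
  W_le_omega.trans ((omega_le_Q).trans (CfsgLib.Signalizer.pCoreOf_le 2 K))

theorem W_isPGroup : IsPGroup 2 W :=
  (CfsgLib.PReduced.isPGroup_pCoreOf 2 K).to_le (W_le_omega.trans omega_le_Q)

theorem Setting.normalizes_W (S : Setting T K) {h : G} (hh : h ∈ H) {x : G} (hx : x ∈ W) :
    h * x * h⁻¹ ∈ W := by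
  have hn := S.H_le_normalizer hh
  have hΩ : h ∈ Subgroup.normalizer (Cfsg.omegaCenterOf (Cfsg.pCoreOf 2 K) : Set G) :=
    normalizer_le_normalizer_omegaCenterOf _
      (CfsgLib.Signalizer.normalizer_le_normalizer_pCoreOf 2 (le_refl _) hn)
  have hle : W ≤ (W).comap (MulAut.conj h).toMonoidHom := by
    conv_lhs => rw [Cfsg.wOf]
    rw [Subgroup.commutator_le]
    intro a ha b hb
    show h * ⁅a, b⁆ * h⁻¹ ∈ W
    rw [show h * ⁅a, b⁆ * h⁻¹ = ⁅h * a * h⁻¹, h * b * h⁻¹⁆ by simp only [commutatorElement_def]; group]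
    exact Subgroup.commutator_mem_commutator ((Subgroup.mem_normalizer_iff.1 hΩ a).1 ha)
      ((Subgroup.mem_normalizer_iff.1 hn b).1 hb)
  exact hle hx

theorem Setting.comm_W (S : Setting T K) {x y : G} (hx : x ∈ W) (hy : y ∈ W) : x * y = y * x := by
  have hxx := S.hK.2.2.2.2.2 x hx
  have hyy := S.hK.2.2.2.2.2 y hy
  have hh := S.hK.2.2.2.2.2 _ (mul_mem hx hy)
  have h := inv_eq_of_mul_eq_one_right hh
  rw [mul_inv_rev, inv_eq_of_mul_eq_one_right hxx, inv_eq_of_mul_eq_one_right hyy] at h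
  exact h.symm

theorem Setting.card_W (S : Setting T K) : Nat.card W = 4 := S.hK.2.2.2.2.1

/-- Some element of `K` of odd order moves `W`. -/
theorem Setting.exists_odd_moves (S : Setting T K) :
    ∃ g ∈ K, Odd (orderOf g) ∧ ∃ x ∈ W, g * x ≠ x * g := by
  by_contra hc
  push Not at hc
  have hgK := S.hK.1
  have hall : ∀ x ∈ Cfsg.omegaCenterOf (Cfsg.pCoreOf 2 K), K ≤ Subgroup.centralizer ({x} : Set G) := by
    intro x hx
    conv_lhs => rw [← hgK]
    rw [Subgroup.closure_le]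
    rintro g ⟨hg, hodd⟩
    rw [SetLike.mem_coe, Subgroup.mem_centralizer_singleton_iff]
    have hcw : ⁅x⁻¹, g⁆ ∈ W := Subgroup.commutator_mem_commutator (inv_mem hx) hg
    refine commute_of_commutator_central hodd (c := ⁅x⁻¹, g⁆) ?_ (hc g hg hodd _ hcw)
      (S.hK.2.2.2.2.2 _ hcw)
    simp only [commutatorElement_def]; group
  have hbot : W = ⊥ := by
    rw [Cfsg.wOf, Subgroup.commutator_eq_bot_iff_le_centralizer]
    intro x hx
    refine Subgroup.mem_centralizer_iff.2 fun k hk => ?_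
    exact Subgroup.mem_centralizer_singleton_iff.1 (hall x hx hk)
  have := S.card_W
  rw [hbot, Subgroup.card_bot] at this
  norm_num at this

/-- `J` does not centralise `W`. -/
theorem Setting.exists_A_moves (S : Setting T K) :
    ∃ A ∈ CfsgLib.Transfer.maxAbExp 2 T, ∃ a ∈ A, ∃ x ∈ W, a * x ≠ x * a := by
  by_contra hc
  push Not at hc
  have hJ : J ≤ Subgroup.centralizer (W : Set G) := sSup_le fun A hA a ha =>
    Subgroup.mem_centralizer_iff.2 fun x hx => (hc A hA a ha x hx).symm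
  have h2 : ⁅J, W⁆ = ⊥ := Subgroup.commutator_eq_bot_iff_le_centralizer.2 hJ
  have h1 : ⁅⁅W, K⁆, J⁆ = ⊥ := by
    refine le_bot_iff.1 ((Subgroup.commutator_mono (?_ : ⁅W, K⁆ ≤ W) le_rfl).trans ?_)
    · rw [Subgroup.commutator_le]
      intro x hx k hk
      rw [commutatorElement_def, mul_assoc, mul_assoc, ← mul_assoc k]
      exact mul_mem hx (S.normalizes_W (Subgroup.mem_sup_left hk) (inv_mem hx))
    · rw [Subgroup.commutator_comm, h2]
  have h3 := Subgroup.commutator_commutator_eq_bot_of_rotate (H₁ := K) (H₂ := J) (H₃ := W)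
    (by rw [h2, Subgroup.commutator_bot_left]) h1
  rw [S.comm_eq, Subgroup.commutator_eq_bot_iff_le_centralizer] at h3
  obtain ⟨g, hg, -, x, hx, hne⟩ := S.exists_odd_moves
  exact hne ((Subgroup.mem_centralizer_iff.1 (h3 hg) x hx).symm)

/-- The non-identity elements of `W`. -/
abbrev Pts (K : Subgroup G) := {x : G // x ∈ Cfsg.wOf K ∧ x ≠ 1}

theorem Setting.card_pts (S : Setting T K) : Nat.card (Pts K) = 3 := by
  classical
  haveI := Fintype.ofFinite W
  have e : Pts K ≃ {x : W // ¬ x = 1} :=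
    { toFun := fun x => ⟨⟨x.1, x.2.1⟩, fun h => x.2.2 (congrArg Subtype.val h)⟩
      invFun := fun x => ⟨x.1.1, x.1.2, fun h => x.2 (Subtype.ext h)⟩
      left_inv := fun _ => rfl
      right_inv := fun _ => rfl }
  rw [Nat.card_congr e, Nat.card_eq_fintype_card, Fintype.card_subtype_compl, Fintype.card_subtype_eq,
    ← Nat.card_eq_fintype_card, S.card_W]

/-- The action. -/
def act (S : Setting T K) (h : ↥(H)) : Equiv.Perm (Pts K) where
  toFun x := ⟨h * x.1 * (h : G)⁻¹, S.normalizes_W h.2 x.2.1, fun e => x.2.2 (conj_eq_one_iff.1 e)⟩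
  invFun x := ⟨(h : G)⁻¹ * x.1 * h, by simpa using S.normalizes_W (inv_mem h.2) x.2.1,
    fun e => x.2.2 (by
      have h2 := congrArg (fun z => (h : G) * z * (h : G)⁻¹) e
      simpa [mul_assoc] using h2)⟩
  left_inv x := Subtype.ext (by show (h : G)⁻¹ * ((h : G) * x.1 * (h : G)⁻¹) * h = x.1; group)
  right_inv x := Subtype.ext (by show (h : G) * ((h : G)⁻¹ * x.1 * h) * (h : G)⁻¹ = x.1; group)

/-- The action as a homomorphism. -/
def phi (S : Setting T K) : ↥(H) →* Equiv.Perm (Pts K) where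
  toFun := act S
  map_one' := Equiv.ext fun x => Subtype.ext (by show (1 : G) * x.1 * (1 : G)⁻¹ = x.1; simp)
  map_mul' a b := Equiv.ext fun x => Subtype.ext (by
    show (a : G) * b * x.1 * ((a : G) * b)⁻¹ = (a : G) * ((b : G) * x.1 * (b : G)⁻¹) * (a : G)⁻¹
    group)

theorem phi_eq_one_iff (S : Setting T K) (h : ↥(H)) :
    phi S h = 1 ↔ ∀ x ∈ W, (h : G) * x = x * h := by
  constructor
  · intro e x hx
    by_cases h1 : x = 1
    · rw [h1, mul_one, one_mul]
    · have := congrArg Subtype.val (Equiv.ext_iff.1 e ⟨x, hx, h1⟩)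
      exact mul_inv_eq_iff_eq_mul.1 this
  · intro e
    exact Equiv.ext fun x => Subtype.ext (mul_inv_eq_iff_eq_mul.2 (e x.1 x.2.1))

theorem Setting.card_H_dvd (S : Setting T K) : ∃ n, Nat.card ↥(H) ∣ 2 ^ n * 3 := by
  obtain ⟨i, hi⟩ := (IsPGroup.iff_card.1 (CfsgLib.PReduced.isPGroup_pCoreOf 2 K))
  obtain ⟨j, hj⟩ := (IsPGroup.iff_card.1 (S.hT.to_le (CfsgLib.Transfer.thompsonJ_le 2 T)))
  refine ⟨i + j, ?_⟩
  haveI : (K.subgroupOf (H)).Normal :=
    (Subgroup.normal_subgroupOf_iff_le_normalizer le_sup_left).2 S.H_le_normalizer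
  have h1 : Nat.card K = 2 ^ i * 3 := by
    rw [← hi, ← S.hK.2.2.1, mul_comm, Subgroup.relIndex, ← Nat.card_congr
      (Subgroup.subgroupOfEquivOfLe (CfsgLib.Signalizer.pCoreOf_le 2 K)).toEquiv, mul_comm]
    exact (Subgroup.card_mul_index _).symm
  have h2 : (K.subgroupOf (H)).index ∣ 2 ^ j := by
    rw [← hj]
    let f : J →* ↥(H) ⧸ K.subgroupOf (H) :=
      (QuotientGroup.mk' _).comp (Subgroup.inclusion le_sup_right)
    have hf : Function.Surjective f := by
      intro q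
      obtain ⟨h, rfl⟩ := QuotientGroup.mk'_surjective _ q
      have hmem : (h : G) ∈ (((J ⊔ K) : Subgroup G) : Set G) := (sup_comm K (J)).le h.2
      rw [Subgroup.coe_mul_of_left_le_normalizer_right _ _ S.J_le_normalizer] at hmem
      obtain ⟨j', hj', k, hk, hjk⟩ := hmem
      refine ⟨⟨j', hj'⟩, ?_⟩
      show QuotientGroup.mk' _ _ = QuotientGroup.mk' _ h
      refine QuotientGroup.eq.2 ?_
      show (j' : G)⁻¹ * (h : G) ∈ K
      rw [← hjk]
      simpa using hk
    exact Subgroup.card_dvd_of_surjective f hf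
  have h3 := Subgroup.card_mul_index (K.subgroupOf (H))
  rw [Nat.card_congr (Subgroup.subgroupOfEquivOfLe (le_sup_left : K ≤ H)).toEquiv, h1] at h3
  rw [← h3, pow_add]
  calc 2 ^ i * 3 * (K.subgroupOf (H)).index ∣ 2 ^ i * 3 * 2 ^ j := mul_dvd_mul_left _ h2
    _ = 2 ^ i * 2 ^ j * 3 := by ring

theorem Setting.phi_surjective (S : Setting T K) : Function.Surjective (phi S) := by
  classical
  have h6 : Nat.card (Equiv.Perm (Pts K)) = 6 := by rw [Nat.card_perm, S.card_pts]; rfl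
  obtain ⟨A, hA, a, ha, x, hx, hax⟩ := S.exists_A_moves
  obtain ⟨g, hg, hodd, y, hy, hgy⟩ := S.exists_odd_moves
  have haH : a ∈ H := Subgroup.mem_sup_right (Subgroup.mem_sSup_of_mem hA ha)
  let a' : ↥(H) := ⟨a, haH⟩
  let g' : ↥(H) := ⟨g, Subgroup.mem_sup_left hg⟩
  have hφg : phi S g' ≠ 1 := fun h => hgy ((phi_eq_one_iff S g').1 h y hy)
  have hφa : phi S a' ≠ 1 := fun h => hax ((phi_eq_one_iff S a').1 h x hx)
  have o2 : orderOf (phi S a') = 2 := by
    refine orderOf_eq_prime ?_ hφa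
    rw [← map_pow, show a' ^ 2 = 1 from Subtype.ext (by simpa using hA.2.1.2 a ha), map_one]
  have o3 : orderOf (phi S g') = 3 := by
    have h1 : orderOf (phi S g') ∣ orderOf g := by
      rw [show orderOf g = orderOf g' from (Subgroup.orderOf_mk g (Subgroup.mem_sup_left hg)).symm]
      exact orderOf_map_dvd _ _
    have h2 : orderOf (phi S g') ∣ 6 := h6 ▸ orderOf_dvd_natCard _
    have h3 : Odd (orderOf (phi S g')) := hodd.of_dvd_nat h1
    have h4 : orderOf (phi S g') ≠ 1 := fun h => hφg (orderOf_eq_one_iff.1 h)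
    have := Nat.le_of_dvd (by norm_num) h2
    interval_cases hn : orderOf (phi S g') <;> simp_all [Nat.odd_iff]
  rw [← MonoidHom.range_eq_top]
  refine Subgroup.eq_top_of_card_eq _ ?_
  have d2 := Subgroup.orderOf_dvd_natCard (phi S).range (x := phi S a') ⟨a', rfl⟩
  have d3 := Subgroup.orderOf_dvd_natCard (phi S).range (x := phi S g') ⟨g', rfl⟩
  rw [o2] at d2
  rw [o3] at d3
  rw [h6]
  exact Nat.dvd_antisymm (h6 ▸ Subgroup.card_subgroup_dvd_card _)
    (Nat.Coprime.mul_dvd_of_dvd_of_dvd (by norm_num : Nat.Coprime 2 3) d2 d3)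

theorem Setting.ker_isPGroup (S : Setting T K) : IsPGroup 2 (phi S).ker := by
  classical
  obtain ⟨n, hn⟩ := S.card_H_dvd
  have h := Subgroup.card_mul_index (phi S).ker
  rw [Subgroup.index_ker, MonoidHom.range_eq_top.2 S.phi_surjective, Subgroup.card_top, Nat.card_perm,
    S.card_pts] at h
  have hd : Nat.card (phi S).ker * 2 * 3 ∣ 2 ^ n * 3 := by
    rw [show Nat.card (phi S).ker * 2 * 3 = Nat.card (phi S).ker * Nat.factorial 3 by
      rw [show Nat.factorial 3 = 2 * 3 from rfl, mul_assoc], h]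
    exact hn
  have h2 := (dvd_mul_right _ 2).trans (Nat.dvd_of_mul_dvd_mul_right (by norm_num) hd)
  obtain ⟨k, -, hk⟩ := (Nat.dvd_prime_pow Nat.prime_two).1 h2
  exact IsPGroup.iff_card.2 ⟨k, hk⟩

end CfsgLib.JComp
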