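import Cfsg.Agent.Lib.JComp.Overgroup

/-!
# Elements of `Y` that are inverted or centralized by every element of `J`
-/

set_option autoImplicit false
set_option linter.style.haveILetI false

namespace CfsgLib.JComp

open scoped commutatorElement

universe u

/-- An abelian group of exponent two acting on an abelian group of odd order has a common eigenvector outside
a given subgroup. -/
theorem exists_eigen {L : Type*} [Group L] [Finite L] (Y : Subgroup L) [Y.Normal]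
    (hYc : ∀ a ∈ Y, ∀ b ∈ Y, a * b = b * a) (hYodd : ∀ y ∈ Y, y * y = 1 → y = 1) (J M : Subgroup L)
    (hJc : ∀ a ∈ J, ∀ b ∈ J, a * b = b * a) (hJ2 : ∀ a ∈ J, a * a = 1) (hY : ¬ Y ≤ M) :
    ∃ x ∈ Y, x ∉ M ∧ ∀ j ∈ J, j * x * j⁻¹ = x ∨ j * x * j⁻¹ = x⁻¹ := by
  classical
  haveI := Fintype.ofFinite L
  have hodd : ∀ y ∈ Y, Odd (orderOf y) := by
    intro y hy
    by_contra he
    obtain ⟨m, hm⟩ := Nat.not_odd_iff_even.1 he
    have h1 : y ^ m * y ^ m = 1 := by rw [← pow_add, ← hm, pow_orderOf_eq_one]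
    have h2 := hYodd _ (pow_mem hy m) h1
    have h3 := Nat.le_of_dvd (by have := orderOf_pos y; omega) (orderOf_dvd_of_pow_eq_one h2)
    have := orderOf_pos y
    omega
  have hconj : ∀ a : L, ∀ y ∈ Y, a * y * a⁻¹ ∈ Y := fun a y hy => ‹Y.Normal›.conj_mem y hy a
  suffices H : ∀ F : Finset L, (∀ j ∈ F, j ∈ J) →
      ∃ x ∈ Y, x ∉ M ∧ ∀ j ∈ F, j * x * j⁻¹ = x ∨ j * x * j⁻¹ = x⁻¹ by
    obtain ⟨x, hx, hxM, hs⟩ := H (Finset.univ.filter fun j => j ∈ J) (fun j hj => (Finset.mem_filter.1 hj).2)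
    exact ⟨x, hx, hxM, fun j hj => hs j (Finset.mem_filter.2 ⟨Finset.mem_univ _, hj⟩)⟩
  intro F
  induction F using Finset.induction_on with
  | empty =>
    intro _
    obtain ⟨x, hx, hxM⟩ := SetLike.not_le_iff_exists.1 hY
    exact ⟨x, hx, hxM, by simp⟩
  | insert a F _ ih =>
    intro hF
    obtain ⟨x, hx, hxM, hs⟩ := ih fun j hj => hF j (Finset.mem_insert_of_mem hj)
    have haJ : a ∈ J := hF a (Finset.mem_insert_self _ _)
    set c := a * x * a⁻¹ with hc
    have hcY : c ∈ Y := hconj a x hx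
    have hac : a * c * a⁻¹ = x := by
      rw [hc, show a * (a * x * a⁻¹) * a⁻¹ = (a * a) * x * (a * a)⁻¹ by group, hJ2 a haJ]
      simp
    have hxc : x * c = c * x := hYc x hx c hcY
    have hb : ∀ j ∈ F, j * c * j⁻¹ = c ∧ j * x * j⁻¹ = x ∨ j * c * j⁻¹ = c⁻¹ ∧ j * x * j⁻¹ = x⁻¹ := by
      intro j hj
      have hja : j * a = a * j := hJc j (hF j (Finset.mem_insert_of_mem hj)) a haJ
      have e : j * c * j⁻¹ = a * (j * x * j⁻¹) * a⁻¹ := by
        rw [hc, show j * (a * x * a⁻¹) * j⁻¹ = (j * a) * x * (j * a)⁻¹ by group, hja]; group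
      rcases hs j hj with h | h
      · exact Or.inl ⟨by rw [e, h], h⟩
      · exact Or.inr ⟨by rw [e, h, hc]; group, h⟩
    by_cases hm : c * x⁻¹ ∈ M
    · refine ⟨c * x, mul_mem hcY hx, fun h => hxM ?_, fun j hj => ?_⟩
      · have h2 : x * x ∈ M := by
          have h' := mul_mem (inv_mem hm) h
          have e : (c * x⁻¹)⁻¹ * (c * x) = x * x := by group
          rwa [e] at h'
        obtain ⟨k, hk⟩ := hodd x hx
        have e : x = (x * x) ^ (k + 1) := by
          rw [← pow_two, ← pow_mul, show 2 * (k + 1) = 2 * k + 1 + 1 by ring, pow_succ, ← hk,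
            pow_orderOf_eq_one, one_mul]
        rw [e]; exact pow_mem h2 _
      · rcases Finset.mem_insert.1 hj with rfl | hj
        · exact Or.inl (by rw [← hc.symm, show j * (c * x) * j⁻¹ = (j * c * j⁻¹) * (j * x * j⁻¹) by group, hac, ← hc, hxc])
        · rw [show j * (c * x) * j⁻¹ = (j * c * j⁻¹) * (j * x * j⁻¹) by group]
          rcases hb j hj with ⟨h1, h2⟩ | ⟨h1, h2⟩
          · exact Or.inl (by rw [h1, h2])
          · exact Or.inr (by rw [h1, h2, ← mul_inv_rev, hxc])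
    · refine ⟨c * x⁻¹, mul_mem hcY (inv_mem hx), hm, fun j hj => ?_⟩
      rw [show j * (c * x⁻¹) * j⁻¹ = (j * c * j⁻¹) * (j * x * j⁻¹)⁻¹ by group]
      rcases Finset.mem_insert.1 hj with rfl | hj
      · exact Or.inr (by rw [hac, ← hc]; group)
      · rcases hb j hj with ⟨h1, h2⟩ | ⟨h1, h2⟩
        · exact Or.inl (by rw [h1, h2])
        · refine Or.inr ?_
          rw [h1, h2, inv_inv]
          refine (hYc _ (inv_mem hcY) _ hx).trans ?_
          group

variable {G : Type u} [Group G] [Finite G] {T L : Subgroup G}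

/-- An element of odd order of `Y` outside `M` which every element of `J` inverts or centralizes modulo the core. -/
theorem Over.exists_eigen (O : Over T L) {Y : Subgroup G} (D : LocalData T L Y) {M : Subgroup G}
    (hRM : Cfsg.pCoreOf 2 L ≤ M) (hYM : ¬ Y ≤ M) :
    ∃ x ∈ Y, Odd (orderOf x) ∧ x ∉ M ∧ ∀ j ∈ CfsgLib.Transfer.thompsonJ 2 T,
      ⁅j, x⁆ ∈ Cfsg.pCoreOf 2 L ∨ j * x * j⁻¹ * x ∈ Cfsg.pCoreOf 2 L := by
  classical
  haveI : Fact (Nat.Prime 2) := ⟨Nat.prime_two⟩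
  set R := Cfsg.pCoreOf 2 L with hR
  set J := CfsgLib.Transfer.thompsonJ 2 T with hJ
  have hRL : R ≤ L := CfsgLib.Signalizer.pCoreOf_le 2 L
  haveI hRn : (R.subgroupOf L).Normal := (Subgroup.normal_subgroupOf_iff_le_normalizer hRL).2 O.L_le_normalizer_R
  have hRp : IsPGroup 2 (R.subgroupOf L) :=
    (CfsgLib.PReduced.isPGroup_pCoreOf 2 L).comap_of_injective L.subtype L.subtype_injective
  let π := QuotientGroup.mk' (R.subgroupOf L)
  have hπ : Function.Surjective π := QuotientGroup.mk'_surjective _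
  have hπ1 : ∀ {z : L}, π z = 1 ↔ (z : G) ∈ R := fun {z} => QuotientGroup.eq_one_iff z
  haveI hYn : (Y.subgroupOf L).Normal := (Subgroup.normal_subgroupOf_iff_le_normalizer D.le).2 D.norm
  set Yb := (Y.subgroupOf L).map π with hYb
  haveI : Yb.Normal := hYn.map π hπ
  set Jb := (J.subgroupOf L).map π with hJb
  have hYc : ∀ a ∈ Yb, ∀ b ∈ Yb, a * b = b * a := by
    rintro _ ⟨a, ha, rfl⟩ _ ⟨b, hb, rfl⟩
    rw [← commutatorElement_eq_one_iff_mul_comm, ← map_commutatorElement]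
    refine hπ1.2 ?_
    rw [commutatorElement_def]
    exact D.comm a ha b hb
  have hJc : ∀ a ∈ Jb, ∀ b ∈ Jb, a * b = b * a := by
    rintro _ ⟨a, ha, rfl⟩ _ ⟨b, hb, rfl⟩
    rw [← commutatorElement_eq_one_iff_mul_comm, ← map_commutatorElement]
    refine hπ1.2 ?_
    rw [commutatorElement_def]
    exact D.jcomm a ha b hb
  have hJ2 : ∀ a ∈ Jb, a * a = 1 := by
    let S2 : Subgroup (↥L ⧸ R.subgroupOf L) :=
      { carrier := {a | a ∈ Jb ∧ a * a = 1}
        mul_mem' := fun {a b} ha hb => ⟨mul_mem ha.1 hb.1, by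
          rw [(show Commute b a from hJc b hb.1 a ha.1).mul_mul_mul_comm, ha.2, hb.2, one_mul]⟩
        one_mem' := ⟨one_mem _, one_mul 1⟩
        inv_mem' := fun {a} ha => ⟨inv_mem ha.1, by rw [← mul_inv_rev, ha.2, inv_one]⟩ }
    have hle : J ≤ (S2.comap π).map L.subtype := by
      refine sSup_le fun A hA a ha => ?_
      have haJ : a ∈ J := le_sSup hA ha
      refine ⟨⟨a, O.J_le haJ⟩, ⟨⟨⟨a, O.J_le haJ⟩, haJ, rfl⟩, ?_⟩, rfl⟩
      rw [← map_mul]
      refine hπ1.2 ?_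
      show a * a ∈ R
      rw [← pow_two, hA.2.1.2 a ha]
      exact one_mem _
    rintro _ ⟨a, ha, rfl⟩
    obtain ⟨a', ha', e⟩ := hle ha
    rw [L.subtype_injective e] at ha'
    exact ha'.2
  have hYodd : ∀ y ∈ Yb, y * y = 1 → y = 1 := by
    let Ω : Subgroup (↥L ⧸ R.subgroupOf L) :=
      { carrier := {a | a ∈ Yb ∧ a * a = 1}
        mul_mem' := fun {a b} ha hb => ⟨mul_mem ha.1 hb.1, by
          rw [(show Commute b a from hYc b hb.1 a ha.1).mul_mul_mul_comm, ha.2, hb.2, one_mul]⟩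
        one_mem' := ⟨one_mem _, one_mul 1⟩
        inv_mem' := fun {a} ha => ⟨inv_mem ha.1, by rw [← mul_inv_rev, ha.2, inv_one]⟩ }
    haveI : Ω.Normal := ⟨fun a ha g => ⟨(inferInstance : Yb.Normal).conj_mem a ha.1 g, by
      rw [show g * a * g⁻¹ * (g * a * g⁻¹) = g * (a * a) * g⁻¹ by group, ha.2, mul_one, mul_inv_cancel]⟩⟩
    have hΩp : IsPGroup 2 Ω := fun a => ⟨1, Subtype.ext (by simpa [pow_two] using a.2.2)⟩
    have hp : IsPGroup 2 (Ω.comap π) := hΩp.comap_of_ker_isPGroup π (by rw [QuotientGroup.ker_mk']; exact hRp)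
    have hle : Ω.comap π ≤ Cfsg.pCore 2 L := CfsgLib.Fitting.le_pCore inferInstance hp
    intro y hy h2
    obtain ⟨z, hz, rfl⟩ := hy
    exact hπ1.2 ⟨z, hle ⟨⟨z, hz, rfl⟩, h2⟩, rfl⟩
  set Mb := (M.subgroupOf L).map π with hMb
  have hMmem : ∀ z : L, π z ∈ Mb → (z : G) ∈ M := by
    rintro z ⟨m, hm, e⟩
    have h := hπ1.1 (show π (m⁻¹ * z) = 1 by rw [map_mul, map_inv, e, inv_mul_cancel])
    rw [show (z : G) = m * ((m : G)⁻¹ * z) by group]
    exact mul_mem hm (hRM (by simpa using h))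
  obtain ⟨xb, hxY, hxM, hs⟩ := JComp.exists_eigen Yb hYc hYodd Jb Mb hJc hJ2 (fun h => hYM fun y hy =>
    hMmem ⟨y, D.le hy⟩ (h ⟨⟨y, D.le hy⟩, hy, rfl⟩))
  obtain ⟨z, hzY, rfl⟩ := hxY
  have hodd : Odd (orderOf (π z)) := by
    by_contra he
    obtain ⟨m, hm⟩ := Nat.not_odd_iff_even.1 he
    have h1 : π z ^ m * π z ^ m = 1 := by rw [← pow_add, ← hm, pow_orderOf_eq_one]
    have h2 := hYodd _ (pow_mem (show π z ∈ Yb from ⟨z, hzY, rfl⟩) m) h1
    have hpos := orderOf_pos (π z)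
    have := Nat.le_of_dvd (by omega) (orderOf_dvd_of_pow_eq_one h2)
    omega
  obtain ⟨k, m, hm, hkm⟩ := Nat.exists_eq_two_pow_mul_odd (n := orderOf z) (orderOf_pos z).ne'
  refine ⟨((z ^ 2 ^ k : L) : G), (show z ^ 2 ^ k ∈ Y.subgroupOf L from pow_mem hzY _), ?_, ?_, ?_⟩
  · rw [Subgroup.orderOf_coe, orderOf_pow, hkm, Nat.gcd_eq_right (dvd_mul_right _ _), Nat.mul_div_cancel_left _ (pow_pos (by norm_num) k)]
    exact hm
  · intro h
    apply hxM
    have h' : π (z ^ 2 ^ k) ∈ Mb := ⟨z ^ 2 ^ k, h, rfl⟩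
    rw [map_pow] at h'
    obtain ⟨i, hi⟩ := exists_pow_eq_self_of_coprime (x := π z) (n := 2 ^ k)
      (Nat.Coprime.pow_left k hodd.coprime_two_left)
    rw [← hi]; exact pow_mem h' i
  · intro j hj
    rcases hs (π ⟨j, O.J_le hj⟩) ⟨_, hj, rfl⟩ with h | h
    · left
      have h1 : π ⁅(⟨j, O.J_le hj⟩ : L), z ^ 2 ^ k⁆ = 1 := by
        rw [map_commutatorElement, commutatorElement_eq_one_iff_mul_comm, map_pow]
        exact ((show Commute (π ⟨j, O.J_le hj⟩) (π z) from mul_inv_eq_iff_eq_mul.1 h).pow_right _).eq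
      have h2 := hπ1.1 h1
      rw [commutatorElement_def] at h2 ⊢
      exact h2
    · right
      have h1 : π (⟨j, O.J_le hj⟩ * z ^ 2 ^ k * (⟨j, O.J_le hj⟩ : L)⁻¹ * z ^ 2 ^ k) = 1 := by
        rw [map_mul, map_mul, map_mul, map_inv, map_pow, ← conj_pow, h, inv_pow, inv_mul_cancel]
      exact hπ1.1 h1

end CfsgLib.JComp
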