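import Cfsg.Agent.Lib.JComp.AmalgamPair
import Cfsg.Agent.Lib.Invol.StronglyEmbedded
import Cfsg.Agent.Lib.Strong.Conj
import Cfsg.Agent.Lib.Transfer.Sylow
import Cfsg.Agent.Lib.Critical.Basic

/-!
# Every outside component has a partner
-/

set_option autoImplicit false
set_option linter.style.haveILetI false

namespace CfsgLib.JComp

universe u

variable {G : Type u} [Group G] [Finite G]

/-- The 2-core is in every Sylow subgroup. -/
theorem core_le_of_sylowTwoIn {U H : Subgroup G} (h : Cfsg.IsSylowTwoIn U H) : Cfsg.pCoreOf 2 H ≤ U := by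
  haveI : Fact (Nat.Prime 2) := ⟨Nat.prime_two⟩
  let Q : Sylow 2 H := (h.2.1.comap_of_injective H.subtype H.subtype_injective :
    IsPGroup 2 (U.subgroupOf H)).toSylow (fun h' => Nat.not_even_iff_odd.2 h.2.2 (even_iff_two_dvd.2 h'))
  rintro _ ⟨x, hx, rfl⟩
  haveI : (Cfsg.pCore 2 H).Normal := CfsgLib.Fitting.pCore_normal 2
  exact IsPGroup.le_sylow_of_normal (CfsgLib.Fitting.pCore_isPGroup 2) Q hx

theorem exists_maxStraddling {L : Subgroup G} (h : (Cfsg.straddlingTwoSubgroups L).Nonempty) :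
    ∃ U, U ∈ Cfsg.maxStraddlingTwoSubgroups L := by
  obtain ⟨A, hA, hAmax⟩ := Set.exists_max_image _ Cfsg.maxElemAbelianOrder
    (Set.toFinite (Cfsg.straddlingTwoSubgroups L)) h
  obtain ⟨B, hB, hBmax⟩ := Set.exists_max_image
    {T ∈ Cfsg.straddlingTwoSubgroups L | Cfsg.maxElemAbelianOrder T = Cfsg.maxElemAbelianOrder A}
    (fun T => Nat.card (Cfsg.thompsonSubgroupOf 2 T)) (Set.toFinite _) ⟨A, hA, rfl⟩
  obtain ⟨C, hC, hCmax⟩ := Set.exists_max_image
    {T ∈ Cfsg.straddlingTwoSubgroups L | Cfsg.maxElemAbelianOrder T = Cfsg.maxElemAbelianOrder A ∧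
      Nat.card (Cfsg.thompsonSubgroupOf 2 T) = Nat.card (Cfsg.thompsonSubgroupOf 2 B)}
    (fun T => Nat.card T) (Set.toFinite _) ⟨B, hB.1, hB.2, rfl⟩
  refine ⟨C, hC.1, fun T hT => ?_⟩
  rw [hC.2.1, hC.2.2]
  refine ⟨hAmax T hT, fun e => ⟨hBmax T ⟨hT, e⟩, fun e' => hCmax T ⟨hT, e, e'⟩⟩⟩

variable {M T K : Subgroup G}

theorem MaxStrad.T_le_maxLocal (P : MaxStrad M T) (O : Out M T K) (h : Cfsg.pCoreOf 2 (K ⊔ T) ≠ ⊥) :
    T ≤ maxLocal M T K := by
  have hle := CfsgLib.Signalizer.normalizer_le_normalizer_pCoreOf 2 (Subgroup.le_normalizer (H := K ⊔ T))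
  exact (le_sup_right.trans hle).trans (P.local_le_maxLocal O ⟨_, CfsgLib.PReduced.isPGroup_pCoreOf 2 _, h, rfl⟩
    (le_sup_left.trans hle) ((CfsgLib.Transfer.thompsonJ_le 2 T).trans (le_sup_right.trans hle)))

variable {L U K' K'' E : Subgroup G}

/-- The embedded configuration is impossible. -/
theorem Pair.not_embedded (Q : Pair L U K' L K'') {S : Sylow 2 G} (hUS : U ≤ (S : Subgroup G))
    (hns : U ≠ (S : Subgroup G)) (hSL : (S : Subgroup G) ≤ L)
    (hloc : ∀ X : Subgroup G, Cfsg.IsTwoLocal X → (S : Subgroup G) ≤ X → X ≤ L)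
    (hEn : L ≤ Subgroup.normalizer (E : Set G)) (hE : CfsgLib.Transfer.IsAbExp 2 E) (hES : E ≤ (S : Subgroup G))
    (hE4 : 4 ≤ Nat.card E)
    (htrans : Nat.card E ≤ 4 → ∀ a ∈ E, ∀ b ∈ E, a ≠ 1 → b ≠ 1 → ∃ k ∈ L, k * a * k⁻¹ = b) : False := by
  classical
  haveI : Fact (Nat.Prime 2) := ⟨Nat.prime_two⟩
  have F := Q.fst
  have FF := F.facts
  have St := F.P.setting F.O.comp
  obtain ⟨hRWY, hRe, -, hYcases⟩ := Q.core_shape
  set R := Cfsg.pCoreOf 2 (K' ⊔ U) with hR
  have hRU : R ≤ U := core_le_of_sylowTwoIn FF.sylow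
  have hWR : Cfsg.wOf K' ≤ R := FF.wle
  have hYR : centPart U K' ≤ R := hRWY ▸ le_sup_right
  have hRc : ∀ a ∈ R, ∀ b ∈ R, a * b = b * a := fun a ha b hb =>
    congrArg Subtype.val (hRe.1.is_comm.comm ⟨a, ha⟩ ⟨b, hb⟩)
  have hsq : ∀ a ∈ R, a * a = 1 := fun a ha => by rw [← pow_two]; exact hRe.2 a ha
  have hidx : R.relIndex U = 2 := by
    have h1 := FF.card
    have h2 := FF.card'
    rw [← Subgroup.card_map_of_injective (K := Cfsg.pCore 2 ↥(K' ⊔ U)) (Subgroup.subtype_injective _)] at h2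
    have h2' : Nat.card ↥(K' ⊔ U) = 6 * Nat.card R := h2
    have h3 : Nat.card R * R.relIndex U = Nat.card U := by
      simpa using Subgroup.relIndex_mul_relIndex ⊥ R U bot_le hRU
    have h4 : Nat.card R * R.relIndex U = Nat.card R * 2 := by omega
    exact Nat.eq_of_mul_eq_mul_left Nat.card_pos h4
  have htwo : ∀ a ∈ U, ∀ b ∈ U, a ∉ R → b ∉ R → a * b ∈ R := fun a ha b hb ha' hb' =>
    (Subgroup.mul_mem_iff_of_index_two (H := R.subgroupOf U) hidx (a := ⟨a, ha⟩) (b := ⟨b, hb⟩)).2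
      (iff_of_false ha' hb')
  -- maximality
  have hmax : ∀ V : Subgroup G, U ≤ V → V ≤ (S : Subgroup G) → ∀ X : Subgroup G, Cfsg.IsTwoLocal X → V ≤ X →
      K' ≤ X → V ≤ U := by
    intro V hUV hVS X hX hVX hKX
    have hV : V ∈ Cfsg.straddlingTwoSubgroups L := ⟨S.2.to_le hVS, fun h => F.P.ne_bot (le_bot_iff.1 (h ▸ hUV)),
      hVS.trans hSL, X, hX, hVX, fun h => F.O.out (hKX.trans h)⟩
    exact (Subgroup.eq_of_le_of_card_ge hUV
      (F.P.eq_of_straddling hV ((CfsgLib.Transfer.thompsonJ_le 2 U).trans hUV)).2).ge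
  have hUW : U ≤ Subgroup.normalizer (Cfsg.wOf K' : Set G) := le_sup_right.trans F.sup_le_normalizer
  have hNW : (S : Subgroup G) ⊓ Subgroup.normalizer (Cfsg.wOf K' : Set G) ≤ U :=
    hmax _ (le_inf hUS hUW) inf_le_left _ (F.P.normalizer_local F.O).1 inf_le_right
      (F.P.normalizer_local F.O).2.2.1
  have hRn : K' ⊔ U ≤ Subgroup.normalizer (R : Set G) :=
    CfsgLib.Signalizer.normalizer_le_normalizer_pCoreOf 2 Subgroup.le_normalizer
  have hR1 : R ≠ ⊥ := by
    intro h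
    have h' := Subgroup.card_le_of_le hWR
    rw [St.card_W, h, Subgroup.card_bot] at h'
    omega
  have hNR : (S : Subgroup G) ⊓ Subgroup.normalizer (R : Set G) ≤ U :=
    hmax _ (le_inf hUS (le_sup_right.trans hRn)) inf_le_left _
      ⟨R, CfsgLib.PReduced.isPGroup_pCoreOf 2 _, hR1, rfl⟩ inf_le_right (le_sup_left.trans hRn)
  have hYcomm : ∀ y ∈ centPart U K', ∀ u ∈ U, u * y = y * u := by
    intro y hy u hu
    have h : y ∈ Cfsg.omegaCenterOf U := by rw [F.omega_eq]; exact hy.1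
    exact omegaCenterOf_comm h hu
  have hCy : ∀ y ∈ centPart U K', y ≠ 1 → (S : Subgroup G) ⊓ Subgroup.centralizer ({y} : Set G) ≤ U := by
    intro y hy hy1
    obtain ⟨h1, h2, -⟩ := F.P.local_of_centPart F.O.comp hy hy1
    exact hmax _ (le_inf hUS fun u hu => Subgroup.mem_centralizer_singleton_iff.2 (hYcomm y hy u hu))
      inf_le_left _ h1 inf_le_right h2
  have hZY : ∀ y ∈ centPart U K', (∀ x ∈ (S : Subgroup G), x * y = y * x) → y = 1 := by
    intro y hy hc
    by_contra hy1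
    obtain ⟨h1, h2, -⟩ := F.P.local_of_centPart F.O.comp hy hy1
    exact F.O.out (h2.trans (hloc _ h1 fun x hx => Subgroup.mem_centralizer_singleton_iff.2 (hc x hx)))
  obtain ⟨z, hzW, hzZ, hz1, hznot, huniq, hsplit⟩ := St.exists_point
  set Z₀ := Cfsg.omegaCenterOf (CfsgLib.Transfer.thompsonJ 2 U) with hZ₀
  have hZeq : Cfsg.omegaCenterOf U = Z₀ := F.omega_eq
  have hZc : ∀ v ∈ Z₀, ∀ u ∈ U, u * v = v * u := fun v hv u hu => omegaCenterOf_comm (hZeq.ge hv) hu
  have hZmem : ∀ v ∈ U, (∀ u ∈ U, u * v = v * u) → v * v = 1 → v ∈ Z₀ := fun v h1 h2 h3 =>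
    hZeq.le (mem_omegaCenterOf h1 h2 h3)
  have hZR : ∀ v ∈ Z₀, v ∈ R := fun v hv =>
    FF.cent (Subgroup.mem_centralizer_iff.2 fun r hr => hZc v hv r (hRU hr))
  -- elements of `U` centralizing `W`
  have hCW : ∀ x ∈ U, (∀ w ∈ Cfsg.wOf K', x * w = w * x) → x ∈ R := by
    intro x hx hc
    have hle : R ≤ Subgroup.centralizer ({x} : Set G) := by
      rw [hRWY]
      exact sup_le (fun w hw => Subgroup.mem_centralizer_singleton_iff.2 (hc w hw).symm)
        fun y hy => Subgroup.mem_centralizer_singleton_iff.2 (hYcomm y hy x hx).symm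
    exact FF.cent (Subgroup.mem_centralizer_iff.2 fun r hr => Subgroup.mem_centralizer_singleton_iff.1 (hle hr))
  -- commutators lie in `W`
  have hconjW : ∀ u ∈ U, ∀ w ∈ Cfsg.wOf K', u * w * u⁻¹ ∈ Cfsg.wOf K' := fun u hu w hw =>
    (Subgroup.mem_normalizer_iff.1 (hUW hu) w).1 hw
  have hcom1 : ∀ r ∈ R, ∀ u ∈ U, r * u * r⁻¹ * u⁻¹ ∈ Cfsg.wOf K' := by
    intro r hr u hu
    have hr' : r ∈ ((Cfsg.wOf K' ⊔ centPart U K' : Subgroup G) : Set G) := hRWY.le hr
    have hYn : centPart U K' ≤ Subgroup.normalizer (Cfsg.wOf K' : Set G) := fun y hy => hUW (hRU (hYR hy))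
    rw [Subgroup.coe_mul_of_right_le_normalizer_left _ _ hYn] at hr'
    obtain ⟨w, hw, y, hy, e⟩ := hr'
    have e' : w * y = r := e
    rw [← e', show w * y * u * (w * y)⁻¹ * u⁻¹ = w * (y * u * y⁻¹) * w⁻¹ * u⁻¹ by group,
      ← hYcomm y hy u hu, mul_inv_cancel_right, show w * u * w⁻¹ * u⁻¹ = w * (u * w⁻¹ * u⁻¹) by group]
    exact mul_mem hw (hconjW u hu _ (inv_mem hw))
  have hcom : ∀ a ∈ U, ∀ b ∈ U, a * b * a⁻¹ * b⁻¹ ∈ Cfsg.wOf K' := by
    intro a ha b hb
    by_cases ha' : a ∈ R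
    · exact hcom1 a ha' b hb
    by_cases hb' : b ∈ R
    · have h := inv_mem (hcom1 b hb' a ha)
      rwa [show (b * a * b⁻¹ * a⁻¹)⁻¹ = a * b * a⁻¹ * b⁻¹ by group] at h
    have hr : a⁻¹ * b ∈ R := htwo _ (inv_mem ha) b hb (fun h => ha' (by simpa using inv_mem h)) hb'
    have h := hconjW a ha _ (inv_mem (hcom1 _ hr a ha))
    rwa [show a * (a⁻¹ * b * a * (a⁻¹ * b)⁻¹ * a⁻¹)⁻¹ * a⁻¹ = a * b * a⁻¹ * b⁻¹ by group] at h
  -- an element moving `R`
  obtain ⟨g, hgS, hgn, hgU⟩ : ∃ g ∈ (S : Subgroup G), g ∈ Subgroup.normalizer (U : Set G) ∧ g ∉ U := by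
    haveI : Group.IsNilpotent ↥(S : Subgroup G) := S.2.isNilpotent
    have h1 : U.subgroupOf (S : Subgroup G) < Subgroup.normalizer (U.subgroupOf (S : Subgroup G) : Set ↥(S : Subgroup G)) :=
      normalizerCondition_of_isNilpotent (U.subgroupOf (S : Subgroup G)) (lt_top_iff_ne_top.2 fun h' =>
        hns (le_antisymm hUS (Subgroup.subgroupOf_eq_top.1 h')))
    obtain ⟨s, hs, hsU⟩ := SetLike.exists_of_lt h1
    exact ⟨s, s.2, mem_normalizer_of_le fun t ht => (Subgroup.mem_normalizer_iff.1 hs ⟨t, hUS ht⟩).1 ht, hsU⟩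
  have hgU' : ∀ u ∈ U, g * u * g⁻¹ ∈ U := fun u hu => (Subgroup.mem_normalizer_iff.1 hgn u).1 hu
  have hgU'' : ∀ u ∈ U, g⁻¹ * u * g ∈ U := fun u hu => (Subgroup.mem_normalizer_iff''.1 hgn u).1 hu
  have hgZ : ∀ v ∈ Z₀, g * v * g⁻¹ ∈ Z₀ := fun v hv => (Subgroup.mem_normalizer_iff.1
    (normalizer_le_normalizer_omegaCenterOf _ (CfsgLib.Transfer.normalizer_le_normalizer_thompsonJ 2 U hgn)) v).1 hv
  -- `g` fixes the point
  obtain ⟨q, hqU, hqR⟩ : ∃ q ∈ U, q ∉ R := by
    by_contra h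
    push Not at h
    rw [Subgroup.relIndex_eq_one.2 h] at hidx
    exact absurd hidx (by norm_num)
  have hgz : g * z * g⁻¹ = z := by
    obtain ⟨w, hw, hqw⟩ : ∃ w ∈ Cfsg.wOf K', q * w ≠ w * q := by
      by_contra h
      push Not at h
      exact hqR (hCW q hqU h)
    have hwz : w ≠ z := fun e => hqw (e ▸ hZc z hzZ q hqU)
    have hw1 : w ≠ 1 := fun e => hqw (by simp [e])
    have hwU : w ∈ U := hRU (hWR hw)
    have hne : q * w * q⁻¹ * w⁻¹ ≠ 1 := fun e => hqw (by
      rw [← mul_inv_eq_iff_eq_mul]; exact mul_inv_eq_one.1 e)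
    have hzz : q * w * q⁻¹ * w⁻¹ = z := by
      have h1 := hconjW q hqU w hw
      have h2 : q * w * q⁻¹ ≠ z := fun e => hwz (by
        calc w = q⁻¹ * (q * w * q⁻¹) * q := by group
          _ = q⁻¹ * (z * q) := by rw [e, mul_assoc]
          _ = z := by rw [← hZc z hzZ q hqU, inv_mul_cancel_left])
      have h3 : q * w * q⁻¹ * w⁻¹ ∈ Cfsg.wOf K' := hcom q hqU w hwU
      by_contra hne'
      -- four distinct elements would remain
      have hcard := St.card_W
      haveI := Fintype.ofFinite (Cfsg.wOf K')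
      have hc : ({1, ⟨z, hzW⟩, ⟨w, hw⟩, ⟨q * w * q⁻¹, h1⟩, ⟨_, h3⟩} : Finset (Cfsg.wOf K')).card ≤ 4 := by
        rw [← hcard, Nat.card_eq_fintype_card]; exact Finset.card_le_univ _
      rw [Finset.card_insert_of_notMem, Finset.card_insert_of_notMem, Finset.card_insert_of_notMem,
        Finset.card_pair] at hc
      · omega
      · simp only [ne_eq, Subtype.ext_iff]
        intro e
        refine hw1 (inv_eq_one.1 ?_)
        exact (mul_eq_left (a := q * w * q⁻¹)).1 e.symm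
      · simp only [Finset.mem_insert, Finset.mem_singleton, Subtype.ext_iff, not_or]
        refine ⟨fun e => hqw (mul_inv_eq_iff_eq_mul.1 e.symm), fun e => ?_⟩
        have hww : w * w = 1 := hsq w (hWR hw)
        have : q * w * q⁻¹ = 1 := (mul_inv_eq_iff_eq_mul.1 e.symm).trans hww
        exact hw1 (conj_eq_one_iff.1 this)
      · simp only [Finset.mem_insert, Finset.mem_singleton, Subtype.ext_iff, not_or]
        exact ⟨hwz.symm, fun e => h2 e.symm, fun e => hne' e.symm⟩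
      · simp only [Finset.mem_insert, Finset.mem_singleton, Subtype.ext_iff, OneMemClass.coe_one, not_or]
        exact ⟨Ne.symm hz1, Ne.symm hw1, fun e => hw1 (conj_eq_one_iff.1 e.symm), Ne.symm hne⟩
    refine (huniq _ ?_ (hgZ z hzZ)).resolve_left fun e => hz1 (conj_eq_one_iff.1 e)
    rw [← hzz, show g * (q * w * q⁻¹ * w⁻¹) * g⁻¹ =
      g * q * g⁻¹ * (g * w * g⁻¹) * (g * q * g⁻¹)⁻¹ * (g * w * g⁻¹)⁻¹ by group]
    exact hcom _ (hgU' q hqU) _ (hgU' w hwU)
  have hZS : ∀ v ∈ Cfsg.omegaCenterOf (S : Subgroup G), v = 1 ∨ v = z := by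
    intro v hv
    have hvc : ∀ u ∈ U, u * v = v * u := fun u hu => omegaCenterOf_comm hv (hUS hu)
    have hvR : v ∈ R := FF.cent (Subgroup.mem_centralizer_iff.2 fun r hr => hvc r (hRU hr))
    have hvZ : v ∈ Z₀ := hZmem v (hRU hvR) hvc (omegaCenterOf_sq hv)
    rcases hsplit v hvZ with h | h
    · exact Or.inl (hZY v h fun x hx => omegaCenterOf_comm hv hx)
    · refine Or.inr ?_
      by_contra hvz
      have hy1 : v * z ≠ 1 := fun e => hvz ((mul_eq_one_iff_eq_inv.1 e).trans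
        (mul_eq_one_iff_eq_inv.1 (omegaCenterOf_sq hzZ)).symm)
      refine hgU (hCy _ h hy1 (Subgroup.mem_inf.2 ⟨hgS, Subgroup.mem_centralizer_singleton_iff.2 ?_⟩))
      rw [← mul_inv_eq_iff_eq_mul, show g * (v * z) * g⁻¹ = g * v * g⁻¹ * (g * z * g⁻¹) by group, hgz,
        omegaCenterOf_comm hv hgS, mul_inv_cancel_right]
  have hzE : z ∈ E := by
    haveI : Group.IsNilpotent ↥(S : Subgroup G) := S.2.isNilpotent
    haveI : (E.subgroupOf (S : Subgroup G)).Normal :=
      (Subgroup.normal_subgroupOf_iff_le_normalizer hES).2 (hSL.trans hEn)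
    have hne : E.subgroupOf (S : Subgroup G) ≠ ⊥ := by
      intro h
      have := Nat.card_congr (Subgroup.subgroupOfEquivOfLe hES).toEquiv
      rw [h, Subgroup.card_bot] at this
      omega
    obtain ⟨⟨x, hxE, hxc⟩, hx1⟩ := Subgroup.ne_bot_iff_exists_ne_one.1 (CfsgLib.Critical.inf_center_ne_bot _ hne)
    have hxZ : (x : G) ∈ Cfsg.omegaCenterOf (S : Subgroup G) := mem_omegaCenterOf x.2
      (fun y hy => congrArg Subtype.val (Subgroup.mem_center_iff.1 hxc ⟨y, hy⟩))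
      (by rw [← pow_two]; exact hE.2 _ hxE)
    rcases hZS _ hxZ with h | h
    · exact absurd (Subtype.ext (Subtype.ext h)) hx1
    · exact h ▸ hxE
  have hzS : ∀ x ∈ (S : Subgroup G), x * z = z * x := by
    haveI : Nontrivial ↥(S : Subgroup G) := by
      rw [Subgroup.nontrivial_iff_ne_bot]
      exact fun h => F.P.ne_bot (le_bot_iff.1 (h ▸ hUS))
    obtain ⟨v, hv, hv1⟩ : ∃ v ∈ Cfsg.omegaCenterOf (S : Subgroup G), v ≠ 1 := by
      haveI := S.2.center_nontrivial
      obtain ⟨c, hc2⟩ := exists_prime_orderOf_dvd_card' (G := Subgroup.center ↥(S : Subgroup G)) 2 (by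
        obtain ⟨k, hk, hk'⟩ := (S.2.to_subgroup (Subgroup.center _)).nontrivial_iff_card.1 inferInstance
        rw [hk']; exact dvd_pow_self 2 hk.ne')
      refine ⟨((c : ↥(S : Subgroup G)) : G), mem_omegaCenterOf (c : ↥(S : Subgroup G)).2
        (fun y hy => congrArg Subtype.val (Subgroup.mem_center_iff.1 c.2 ⟨y, hy⟩)) ?_, fun h => ?_⟩
      · have h := pow_orderOf_eq_one c
        rw [hc2, pow_two] at h
        exact congrArg (fun a : Subgroup.center ↥(S : Subgroup G) => ((a : ↥(S : Subgroup G)) : G)) h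
      · rw [orderOf_eq_one_iff.2 (Subtype.ext (Subtype.ext h))] at hc2
        norm_num at hc2
    intro x hx
    have := omegaCenterOf_comm hv hx
    rwa [(hZS v hv).resolve_left hv1] at this
  -- the conjugate of `R`
  set R' := R.map (MulAut.conj g).toMonoidHom with hR'
  have hR'mem : ∀ {x : G}, x ∈ R' ↔ g⁻¹ * x * g ∈ R := fun {x} => by
    rw [hR', CfsgLib.Transfer.mem_conj_map_iff]
  have hR'ne : ¬ R' ≤ R := fun h => hgU (hNR (Subgroup.mem_inf.2
    ⟨hgS, mem_normalizer_of_le fun r hr => h ⟨r, hr, rfl⟩⟩))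
  obtain ⟨p, hpR', hpR⟩ := SetLike.not_le_iff_exists.1 hR'ne
  have hpU : p ∈ U := by
    have := hgU' _ (hRU (hR'mem.1 hpR'))
    rwa [show g * (g⁻¹ * p * g) * g⁻¹ = p by group] at this
  have hR'c : ∀ a ∈ R', ∀ b ∈ R', a * b = b * a := by
    rintro _ ⟨a, ha, rfl⟩ _ ⟨b, hb, rfl⟩
    rw [← map_mul, ← map_mul, hRc a ha b hb]
  have hp2 : p * p = 1 := by
    obtain ⟨a, ha, rfl⟩ := hpR'
    rw [← map_mul, hsq a ha, map_one]
  have hcentral : ∀ r ∈ R, r * p = p * r → r ∈ Z₀ := by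
    intro r hr hrp
    refine hZmem r (hRU hr) (fun u hu => ?_) (hsq r hr)
    by_cases hu' : u ∈ R
    · exact hRc u hu' r hr
    · have hup := htwo u hu p hpU hu' hpR
      rw [show u = u * p * p by rw [mul_assoc, hp2, mul_one], mul_assoc, ← hrp, ← mul_assoc, hRc _ hup r hr,
        mul_assoc]
  have hZR' : ∀ v ∈ Z₀, v ∈ R' := fun v hv => hR'mem.2 (hZR _ (by
    have h : g⁻¹ ∈ Subgroup.normalizer (U : Set G) := inv_mem hgn
    have := (Subgroup.mem_normalizer_iff.1
      (normalizer_le_normalizer_omegaCenterOf _ (CfsgLib.Transfer.normalizer_le_normalizer_thompsonJ 2 U h)) v).1 hv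
    rwa [inv_inv] at this))
  have hinv : ∀ e ∈ U, e * e = 1 → e ∈ R ∨ e ∈ R' := by
    intro e he he2
    by_contra h
    push Not at h
    have hr := htwo e he p hpU h.1 hpR
    refine h.2 ?_
    have hep : e * p ∈ R' := by
      refine hZR' _ (hcentral _ hr ?_)
      have h1 : e * p * (e * p) = 1 := hsq _ hr
      have h2 : e * p = p * e := by
        rw [← mul_eq_one_iff_eq_inv.1 h1 |>.symm] at *
        rw [mul_inv_rev, ← mul_eq_one_iff_eq_inv.1 he2, ← mul_eq_one_iff_eq_inv.1 hp2]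
      rw [← mul_assoc p, ← h2]
    rw [show e = e * p * p by rw [mul_assoc, hp2, mul_one]]
    exact mul_mem hep hpR'
  -- `E ∩ U` is central
  have hEg : ∀ x ∈ E, g * x * g⁻¹ ∈ E := fun x hx => (Subgroup.mem_normalizer_iff.1 (hEn (hSL hgS)) x).1 hx
  have hEg' : ∀ x ∈ E, g⁻¹ * x * g ∈ E := fun x hx => (Subgroup.mem_normalizer_iff''.1 (hEn (hSL hgS)) x).1 hx
  have hEsq : ∀ x ∈ E, x * x = 1 := fun x hx => by rw [← pow_two]; exact hE.2 x hx
  have hD : ∀ x ∈ E, x ∈ U → x ∈ Z₀ := by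
    have key : (∀ x ∈ E, x ∈ U → x ∈ R) ∨ (∀ x ∈ E, x ∈ U → x ∈ R') := by
      by_contra h
      push Not at h
      obtain ⟨⟨a, haE, haU, haR⟩, b, hbE, hbU, hbR⟩ := h
      have ha := (hinv a haU (hEsq a haE)).resolve_left haR
      have hb := (hinv b hbU (hEsq b hbE)).resolve_right hbR
      rcases hinv (a * b) (mul_mem haU hbU) (hEsq _ (mul_mem haE hbE)) with h | h
      · exact haR (by simpa using mul_mem h (inv_mem hb))
      · exact hbR (by simpa using mul_mem (inv_mem ha) h)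
    intro x hx hxU
    have hboth : x ∈ R ∧ x ∈ R' := by
      rcases key with h | h
      · exact ⟨h x hx hxU, hR'mem.2 (h _ (hEg' x hx) (hgU'' x hxU))⟩
      · have h2 := hR'mem.1 (h _ (hEg x hx) (hgU' x hxU))
        rw [show g⁻¹ * (g * x * g⁻¹) * g = x by group] at h2
        exact ⟨h2, h x hx hxU⟩
    exact hcentral x hboth.1 (hR'c x hboth.2 p hpR')
  have hEc : ∀ a ∈ E, ∀ b ∈ E, a * b = b * a := fun a ha b hb =>
    congrArg Subtype.val (hE.1.is_comm.comm ⟨a, ha⟩ ⟨b, hb⟩)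
  have hY2 : Nat.card (centPart U K') ≤ 2 := by
    rcases hYcases with ⟨-, h⟩ | ⟨-, h⟩
    · rw [h, Subgroup.card_bot]; norm_num
    · omega
  have hD2 : ∀ x ∈ E, x ∈ U → x = 1 ∨ x = z := by
    intro x hx hxU
    by_contra hne
    push Not at hne
    obtain ⟨y, hyY, hyE, hy1⟩ : ∃ y ∈ centPart U K', y ∈ E ∧ y ≠ 1 := by
      rcases hsplit x (hD x hx hxU) with h | h
      · exact ⟨x, h, hx, hne.1⟩
      · refine ⟨x * z, h, mul_mem hx hzE, fun e => hne.2 ?_⟩
        exact (mul_eq_one_iff_eq_inv.1 e).trans (mul_eq_one_iff_eq_inv.1 (omegaCenterOf_sq hzZ)).symm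
    have hEU : E ≤ U := fun e he => hCy y hyY hy1 (Subgroup.mem_inf.2
      ⟨hES he, Subgroup.mem_centralizer_singleton_iff.2 (hEc e he y hyE)⟩)
    have hEZ : E ≤ Z₀ := fun e he => hD e he (hEU he)
    have hcard : Nat.card E ≤ 4 := by
      have h1 := Subgroup.card_le_of_le hEZ
      have h2 : Nat.card Z₀ = 2 * Nat.card (centPart U K') := St.card_omega
      omega
    obtain ⟨k, hkL, hk⟩ := htrans hcard z hzE y hyE hz1 hy1
    obtain ⟨-, hKy, -⟩ := F.P.local_of_centPart F.O.comp hyY hy1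
    refine F.O.out (hKy.trans fun c hc => ?_)
    have hzloc : Subgroup.centralizer ({z} : Set G) ≤ L :=
      hloc _ (centralizer_isTwoLocal hz1 (omegaCenterOf_sq hzZ))
        fun x hx => Subgroup.mem_centralizer_singleton_iff.2 (hzS x hx)
    have hmem : k⁻¹ * c * k ∈ L := by
      refine hzloc (Subgroup.mem_centralizer_singleton_iff.2 ?_)
      have h1 := Subgroup.mem_centralizer_singleton_iff.1 hc
      rw [← hk] at h1
      have h2 := congrArg (fun a => k⁻¹ * a * k) h1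
      simpa [mul_assoc] using h2
    have := mul_mem (mul_mem hkL hmem) (inv_mem hkL)
    rwa [show k * (k⁻¹ * c * k) * k⁻¹ = c by group] at this
  -- `E` normalizes `W`
  have hEW : E ≤ U := by
    intro e he
    refine hNW (Subgroup.mem_inf.2 ⟨hES he, mem_normalizer_of_le fun w hw => ?_⟩)
    rcases eq_or_ne w z with rfl | hwz
    · rw [hzS e (hES he), mul_inv_cancel_right]; exact hzW
    rcases eq_or_ne w 1 with rfl | hw1
    · simp
    have hwS : w ∈ (S : Subgroup G) := hUS (hRU (hWR hw))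
    have hwE : w * e * w⁻¹ ∈ E := (Subgroup.mem_normalizer_iff.1 (hEn (hSL hwS)) e).1 he
    set c := e * (w * e * w⁻¹) with hc
    have hcE : c ∈ E := mul_mem he hwE
    have hww : w * w = 1 := hsq w (hWR hw)
    have hwc : c * w = w * c := by
      have h := hEc e he _ hwE
      calc c * w = e * (w * e) := by rw [hc]; group
        _ = w * w * e * (w * e) := by rw [hww, one_mul]
        _ = w * (w * e * w⁻¹) * (w * w) * e := by group
        _ = w * (w * e * w⁻¹ * e) := by rw [hww]; group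
        _ = w * c := by rw [hc, h]
    have hcW : c ∈ Subgroup.normalizer (Cfsg.wOf K' : Set G) := by
      refine mem_normalizer_of_le fun v hv => ?_
      rcases eq_or_ne v 1 with rfl | hv1
      · simp
      rcases eq_or_ne v z with rfl | hvz
      · rw [hzS c (hES hcE), mul_inv_cancel_right]; exact hzW
      -- `v` is `w` or `w * z`
      have hv' : v = w ∨ v = w * z := by
        by_contra hvv
        push Not at hvv
        haveI := Fintype.ofFinite (Cfsg.wOf K')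
        have hc' : ({1, ⟨z, hzW⟩, ⟨w, hw⟩, ⟨v, hv⟩, ⟨w * z, mul_mem hw hzW⟩} : Finset (Cfsg.wOf K')).card ≤ 4 := by
          rw [← St.card_W, Nat.card_eq_fintype_card]; exact Finset.card_le_univ _
        rw [Finset.card_insert_of_notMem, Finset.card_insert_of_notMem, Finset.card_insert_of_notMem,
          Finset.card_pair] at hc'
        · omega
        · simp only [ne_eq, Subtype.ext_iff]; exact hvv.2
        · simp only [Finset.mem_insert, Finset.mem_singleton, Subtype.ext_iff, not_or]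
          exact ⟨Ne.symm hvv.1, fun e => hz1 (mul_eq_left.1 e.symm)⟩
        · simp only [Finset.mem_insert, Finset.mem_singleton, Subtype.ext_iff, not_or]
          exact ⟨Ne.symm hwz, Ne.symm hvz, fun e => hw1 (mul_eq_right.1 e.symm)⟩
        · simp only [Finset.mem_insert, Finset.mem_singleton, Subtype.ext_iff, OneMemClass.coe_one, not_or]
          refine ⟨Ne.symm hz1, Ne.symm hw1, Ne.symm hv1, fun e => hwz ?_⟩
          exact (mul_eq_one_iff_eq_inv.1 e.symm).trans (mul_eq_one_iff_eq_inv.1 (omegaCenterOf_sq hzZ)).symm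
      rcases hv' with rfl | rfl
      · rw [hwc, mul_inv_cancel_right]; exact hv
      · rw [← mul_assoc c, hwc, mul_assoc w, hzS c (hES hcE), ← mul_assoc w, mul_inv_cancel_right]; exact hv
    have hcU := hNW (Subgroup.mem_inf.2 ⟨hES hcE, hcW⟩)
    have hcw : c ∈ Cfsg.wOf K' := by
      rcases hD2 c hcE hcU with h | h
      · rw [h]; exact one_mem _
      · rw [h]; exact hzW
    have he2 : e⁻¹ = e := (mul_eq_one_iff_eq_inv.1 (hEsq e he)).symm
    have : e * w * e⁻¹ = c⁻¹⁻¹ * w := by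
      rw [inv_inv, hc, he2]
      calc e * w * e = e * (w * e) := mul_assoc _ _ _
        _ = e * (w * e * w⁻¹) * w := by group
    rw [this, inv_inv]
    exact mul_mem hcw hw
  have : Nat.card E ≤ 2 := by
    refine (Subgroup.card_le_of_le (fun e he => ?_ : E ≤ Subgroup.zpowers z)).trans ?_
    · rcases hD2 e he (hEW he) with h | h
      · rw [h]; exact one_mem _
      · rw [h]; exact Subgroup.mem_zpowers z
    · rw [Nat.card_zpowers]
      exact orderOf_le_of_pow_eq_one (by norm_num) (by rw [pow_two]; exact omegaCenterOf_sq hzZ)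
  omega

/-- Some 2-local subgroup containing `T`, or some element of `N(J(T))`, is not in the attached subgroup. -/
theorem MaxStrad.not_isolated (P : MaxStrad M T) (O : Out M T K) (hcore : Cfsg.pCore 2 G = ⊥)
    (hN : Subgroup.normalizer (CfsgLib.Transfer.thompsonJ 2 T : Set G) ≤ maxLocal M T K) (hTL : T ≤ maxLocal M T K)
    (S : Sylow 2 G) (hS : (S : Subgroup G) = T)
    (hloc : ∀ X : Subgroup G, Cfsg.IsTwoLocal X → T ≤ X → X ≤ maxLocal M T K) : False := by
  classical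
  haveI : Fact (Nat.Prime 2) := ⟨Nat.prime_two⟩
  set L := maxLocal M T K with hL
  have Stg := P.setting O.comp
  obtain ⟨hover, -⟩ := P.local_over (P.maxLocal_isTwoLocal O) (P.maxLocal_not_le O) hTL
  set E := modProd M T K with hE
  have hEe : CfsgLib.Transfer.IsAbExp 2 E := modProd_isAbExp P O
  have hEp : IsPGroup 2 E := fun a => ⟨1, Subtype.ext (by simpa using hEe.2 a a.2)⟩
  have hWE : Cfsg.wOf K ≤ E := wOf_le_modProd O Subgroup.le_normalizer
  have hE1 : E ≠ ⊥ := P.modProd_ne_bot O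
  have hEn : L ≤ Subgroup.normalizer (E : Set G) := le_rfl
  have hEL : E ≤ L := Subgroup.le_normalizer
  have hEcore : E ≤ Cfsg.pCoreOf 2 L := by
    haveI : (E.subgroupOf L).Normal := (Subgroup.normal_subgroupOf_iff_le_normalizer hEL).2 hEn
    have h := CfsgLib.Fitting.le_pCore (G := ↥L) this (hEp.comap_of_injective L.subtype L.subtype_injective)
    exact fun x hx => ⟨⟨x, hEL hx⟩, h hx, rfl⟩
  have hLtop : L ≠ ⊤ := by
    intro h
    refine hE1 (le_bot_iff.1 (hcore ▸ le_sSup ⟨?_, hEp⟩))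
    exact Subgroup.normalizer_eq_top_iff.1 h
  rcases (Cfsg.straddlingTwoSubgroups L).eq_empty_or_nonempty with hemp | hne
  · -- strongly embedded
    have hN' : ∀ Q : Subgroup G, IsPGroup 2 Q → Q ≤ L → Q ≠ ⊥ → Subgroup.normalizer (Q : Set G) ≤ L := by
      intro Q hQ hQM hQ1
      by_contra hnle
      exact Set.eq_empty_iff_forall_notMem.mp hemp Q
        ⟨hQ, hQ1, hQM, _, ⟨Q, hQ, hQ1, rfl⟩, Subgroup.le_normalizer, hnle⟩
    obtain ⟨e, heE, he1⟩ : ∃ e ∈ E, e ≠ 1 := by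
      obtain ⟨⟨e, he⟩, he1⟩ := Subgroup.ne_bot_iff_exists_ne_one.1 hE1
      exact ⟨e, he, fun h => he1 (Subtype.ext h)⟩
    have heo : orderOf e = 2 := orderOf_eq_prime (hEe.2 e heE) he1
    have heven : Even (Nat.card L) := even_iff_two_dvd.2 (by
      have h := orderOf_dvd_natCard (⟨e, hEL heE⟩ : L)
      rwa [← Subgroup.orderOf_coe, show ((⟨e, hEL heE⟩ : L) : G) = e from rfl, heo] at h)
    have hH : Cfsg.IsStronglyEmbedded L := ⟨hLtop, heven, fun g hg => Nat.not_even_iff_odd.mp fun h =>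
      (CfsgLib.Strong.forall_not_dvd_iff (p := 2)).mpr hN' g hg (even_iff_two_dvd.mp h)⟩
    refine hover.2.1 ?_
    rw [CfsgLib.Transfer.thompsonSubgroupOf_eq]
    refine sSup_le fun A hA x hx => hEcore ?_
    rcases eq_or_ne x 1 with rfl | hx1
    · exact one_mem _
    have hxo : orderOf x = 2 := orderOf_eq_prime (hA.2.1.2 x hx) hx1
    obtain ⟨g, hg⟩ := isConj_iff.1 (CfsgLib.Invol.strongly_isConj hH heo hxo)
    have hgL : g ∈ L := CfsgLib.Invol.strongly_mem_of_conj_mem hH heo (hEL heE) (hg ▸ hTL (hA.1 hx))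
    rw [← hg]
    exact (Subgroup.mem_normalizer_iff.1 (hEn hgL) e).1 heE
  · obtain ⟨U, hU⟩ := exists_maxStraddling hne
    have PU : MaxStrad L U := ⟨P.amb, ⟨S, hS ▸ hN⟩, hU⟩
    obtain ⟨X, hX, hUX, hXL⟩ := hU.1.2.2.2
    -- conjugates of `T` in `L`
    have hloc' : ∀ S₁ : Sylow 2 G, (S₁ : Subgroup G) ≤ L → ∀ Y : Subgroup G, Cfsg.IsTwoLocal Y →
        (S₁ : Subgroup G) ≤ Y → Y ≤ L := by
      intro S₁ hS₁ Y hY hle
      obtain ⟨l, hl⟩ := MulAction.exists_smul_eq L (S₁.subtype hS₁) (S.subtype (hS ▸ hTL))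
      obtain ⟨Q, hQ, hQ1, rfl⟩ := hY
      let c : G →* G := (MulAut.conj (l : G)).toMonoidHom
      have hc : Function.Bijective c := (MulAut.conj (l : G)).bijective
      have hTY : T ≤ (Subgroup.normalizer (Q : Set G)).map c := by
        intro t ht
        have ht' : (⟨t, hTL ht⟩ : L) ∈ ((l • S₁.subtype hS₁ : Sylow 2 L) : Subgroup L) := by
          rw [hl]; exact (hS ▸ ht : t ∈ (S : Subgroup G))
        rw [CfsgLib.Transfer.mem_smul_sylow] at ht'
        refine ⟨_, hle ht', ?_⟩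
        show (l : G) * ((l : G)⁻¹ * t * l) * (l : G)⁻¹ = t
        group
      rw [Subgroup.map_normalizer_eq_of_bijective Q hc] at hTY
      have h := hloc _ ⟨Q.map c, hQ.map c, fun h => hQ1 ((Subgroup.map_eq_bot_iff_of_injective _ hc.1).1 h), rfl⟩ hTY
      intro y hy
      have h' : (l : G) * y * (l : G)⁻¹ ∈ L :=
        h (by rw [← Subgroup.map_normalizer_eq_of_bijective Q hc]; exact ⟨y, hy, rfl⟩)
      have := mul_mem (mul_mem (inv_mem l.2) h') l.2
      rwa [show (l : G)⁻¹ * ((l : G) * y * (l : G)⁻¹) * l = y by group] at this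
    have hns : ∀ S₁ : Sylow 2 G, (S₁ : Subgroup G) ≠ U := fun S₁ e =>
      hXL (hloc' S₁ (e ▸ PU.le_M) X hX (e ▸ hUX))
    obtain ⟨-, K', hK', hK'X, hK'L⟩ := PU.local_over hX hXL hUX
    have O' : Out L U K' := ⟨hK', hK'L⟩
    have hUL : U ≤ maxLocal L U K' :=
      hUX.trans (PU.local_le_maxLocal O' hX hK'X ((CfsgLib.Transfer.thompsonJ_le 2 U).trans hUX))
    obtain ⟨hover', -⟩ := PU.local_over (PU.maxLocal_isTwoLocal O') (PU.maxLocal_not_le O') hUL
    obtain ⟨g, hg1, hg2⟩ := exists_mem_normalizer_not_mem PU.isPGroup hover'.1 hns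
    obtain ⟨hc, K'', O'', hn'', hout⟩ := PU.pair_of_normalizer O' hUL fun h =>
      hg2 (h (CfsgLib.Transfer.normalizer_le_normalizer_thompsonJ 2 U hg1))
    have Q : Pair L U K' L K'' :=
      ⟨⟨PU, O', PU.le_normalizer_of_central O' hUL hc, hc⟩, ⟨PU, O'', hn'', hc⟩, hout⟩
    -- a Sylow subgroup of `L` containing `U`
    obtain ⟨T₁, hT₁⟩ := (PU.isPGroup.comap_of_injective L.subtype L.subtype_injective :
      IsPGroup 2 (U.subgroupOf L)).exists_le_sylow
    obtain ⟨l, hl⟩ := MulAction.exists_smul_eq L (S.subtype (hS ▸ hTL)) T₁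
    set S' : Sylow 2 G := (l : G) • S with hS'
    have hS'L : (S' : Subgroup G) ≤ L := by
      intro x hx
      rw [hS', CfsgLib.Transfer.mem_smul_sylow] at hx
      have := mul_mem (mul_mem l.2 (hTL (hS ▸ hx))) (inv_mem l.2)
      rwa [show (l : G) * ((l : G)⁻¹ * x * l) * (l : G)⁻¹ = x by group] at this
    have hUS' : U ≤ (S' : Subgroup G) := by
      intro u hu
      have h : (⟨u, PU.le_M hu⟩ : L) ∈ (T₁ : Subgroup L) := hT₁ hu
      rw [← hl, CfsgLib.Transfer.mem_smul_sylow] at h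
      rw [hS', CfsgLib.Transfer.mem_smul_sylow]
      exact h
    have hES' : E ≤ (S' : Subgroup G) := by
      refine hEcore.trans ?_
      refine core_le_of_sylowTwoIn ⟨hS'L, S'.2, ?_⟩
      rw [← Nat.not_even_iff_odd, even_iff_two_dvd]
      exact fun h => S'.not_dvd_index (h.trans (Subgroup.relIndex_dvd_index_of_le hS'L))
    refine Q.not_embedded hUS' (fun e => hns S' e.symm) hS'L (hloc' S' hS'L) hEn hEe hES'
      (by rw [← Stg.card_W]; exact Subgroup.card_le_of_le hWE) ?_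
    intro hcard a ha b hb ha1 hb1
    have e : Cfsg.wOf K = E := Subgroup.eq_of_le_of_card_ge hWE (by rw [Stg.card_W]; exact hcard)
    obtain ⟨h, hh⟩ := Stg.phi_surjective (Equiv.swap ⟨a, e ▸ ha, ha1⟩ ⟨b, e ▸ hb, hb1⟩)
    refine ⟨h, sup_le (P.K_le_maxLocal O) P.J_le_maxLocal h.2, ?_⟩
    have := congrArg Subtype.val (Equiv.ext_iff.1 hh ⟨a, e ▸ ha, ha1⟩)
    rw [Equiv.swap_apply_left] at this
    exact this

/-- Every outside component whose subgroup contains `T` has a partner. -/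
theorem MaxStrad.exists_pair (P : MaxStrad M T) (O : Out M T K) (hTL : T ≤ maxLocal M T K)
    (hcore : Cfsg.pCore 2 G = ⊥) : ∃ M' K' : Subgroup G, Pair M T K M' K' := by
  classical
  haveI : Fact (Nat.Prime 2) := ⟨Nat.prime_two⟩
  by_cases hN : Subgroup.normalizer (CfsgLib.Transfer.thompsonJ 2 T : Set G) ≤ maxLocal M T K
  · obtain ⟨S, hS⟩ : ∃ S : Sylow 2 G, (S : Subgroup G) = T := by
      by_contra h
      push Not at h
      obtain ⟨hover, -⟩ := P.local_over (P.maxLocal_isTwoLocal O) (P.maxLocal_not_le O) hTL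
      obtain ⟨g, hg1, hg2⟩ := exists_mem_normalizer_not_mem P.isPGroup hover.1 h
      exact hg2 (hN (CfsgLib.Transfer.normalizer_le_normalizer_thompsonJ 2 T hg1))
    by_cases hX : ∃ X : Subgroup G, Cfsg.IsTwoLocal X ∧ T ≤ X ∧ ¬ X ≤ maxLocal M T K
    · obtain ⟨X, h1, h2, h3⟩ := hX
      obtain ⟨hc, M', K', P', O', hn, hout⟩ := P.pair_of_local O hTL hN S hS h1 h2 h3
      exact ⟨M', K', ⟨P, O, P.le_normalizer_of_central O hTL hc, hc⟩, ⟨P', O', hn, hc⟩, hout⟩
    · push Not at hX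
      exact (P.not_isolated O hcore hN hTL S hS hX).elim
  · obtain ⟨hc, K', O', hn, hout⟩ := P.pair_of_normalizer O hTL hN
    exact ⟨M, K', ⟨P, O, P.le_normalizer_of_central O hTL hc, hc⟩, ⟨P, O', hn, hc⟩, hout⟩

variable {M' : Subgroup G}

/-- The relation between the two components is symmetric. -/
theorem Pair.symm (Q : Pair M T K M' K') : Pair M' T K' M K :=
  ⟨Q.snd, Q.fst, fun h => Q.out ((Q.snd.P.K_le_maxLocal Q.snd.O).trans
    (Q.fst.P.local_le_maxLocal Q.fst.O (Q.snd.P.maxLocal_isTwoLocal Q.snd.O) h Q.snd.P.J_le_maxLocal))⟩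

end CfsgLib.JComp
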