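import Mathlib

/-!
# Elements with a commutator of order 4 in a 3-group of automorphisms
-/

set_option autoImplicit false

namespace CfsgLib.JComp

variable {E : Type*} [CommGroup E] [Finite E]

/-- The map `u ↦ x(u) / u`. -/
def dmap (x : MulAut E) : E →* E where
  toFun u := x u * u⁻¹
  map_one' := by simp
  map_mul' u v := by rw [map_mul, mul_inv, mul_mul_mul_comm]

/-- The commutator module. -/
def mov (x : MulAut E) : Subgroup E := (dmap x).range

theorem mov_conj (x y : MulAut E) : mov (y * x * y⁻¹) = (mov x).map y.toMonoidHom := by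
  ext e
  constructor
  · rintro ⟨u, rfl⟩
    refine ⟨x (y⁻¹ u) * (y⁻¹ u)⁻¹, ⟨y⁻¹ u, rfl⟩, ?_⟩
    show y (x (y⁻¹ u) * (y⁻¹ u)⁻¹) = y (x (y⁻¹ u)) * u⁻¹
    rw [map_mul, map_inv, show y (y⁻¹ u) = u from y.apply_symm_apply u]
  · rintro ⟨_, ⟨u, rfl⟩, rfl⟩
    refine ⟨y u, ?_⟩
    show y (x (y⁻¹ (y u))) * (y u)⁻¹ = y (x u * u⁻¹)
    rw [show y⁻¹ (y u) = u from y.symm_apply_apply u, map_mul, map_inv]

theorem mov_invariant (x : MulAut E) {u : E} (hu : u ∈ mov x) : x u ∈ mov x := by
  obtain ⟨v, rfl⟩ := hu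
  refine ⟨x v, ?_⟩
  show x (x v) * (x v)⁻¹ = x (x v * v⁻¹)
  rw [map_mul, map_inv]

/-- `x` has a commutator module of order 4 without fixed points on it. -/
def IsFour (x : MulAut E) : Prop :=
  Nat.card (mov x) = 4 ∧ ∀ u ∈ mov x, x u = u → u = 1

theorem IsFour.conj {x : MulAut E} (h : IsFour x) (y : MulAut E) : IsFour (y * x * y⁻¹) := by
  rw [IsFour, mov_conj]
  refine ⟨(Subgroup.card_map_of_injective y.injective).trans h.1, ?_⟩
  rintro _ ⟨u, hu, rfl⟩ he
  have he' : y (x (y⁻¹ (y u))) = y u := he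
  rw [show y⁻¹ (y u) = u from y.symm_apply_apply u] at he'
  show y u = 1
  rw [h.2 u hu (y.injective he'), map_one]

theorem mov_invariant_pair_aux (n : ℕ) : ∀ (P : Subgroup (MulAut E)), Nat.card P = n →
    IsPGroup 3 P → ∀ x y : MulAut E, x ∈ P → y ∈ P → IsFour x → IsFour y →
      (mov x).map y.toMonoidHom = mov x := by
  induction n using Nat.strong_induction_on with
  | _ n IH =>
  intro P hn hP x y hx hy h4x h4y
  classical
  haveI : Fact (Nat.Prime 3) := ⟨Nat.prime_three⟩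
  set P' := Subgroup.closure ({x, y} : Set (MulAut E)) with hP'
  have hP'P : P' ≤ P := by
    rw [hP', Subgroup.closure_le]
    rintro _ (rfl | rfl) <;> assumption
  by_cases hlt : P' < P
  · refine IH _ ?_ P' rfl (hP.to_le hP'P) x y (Subgroup.subset_closure (by simp))
      (Subgroup.subset_closure (by simp)) h4x h4y
    rw [← hn]
    exact lt_of_le_of_ne (Subgroup.card_le_of_le hlt.le) fun e =>
      hlt.ne (Subgroup.eq_of_le_of_card_ge hlt.le e.ge)
  have hPeq : P' = P := (eq_or_lt_of_le hP'P).resolve_right hlt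
  by_cases hcyc : y ∈ Subgroup.zpowers x
  · have hc : y * x * y⁻¹ = x := by
      obtain ⟨k, rfl⟩ := Subgroup.mem_zpowers_iff.1 hcyc
      rw [← zpow_neg, ← zpow_add_one, ← zpow_add, show k + 1 + -k = 1 by ring, zpow_one]
    rw [← mov_conj, hc]
  -- a proper normal subgroup containing `x`
  haveI : Group.IsNilpotent P := hP.isNilpotent
  obtain ⟨N, hN, hxN⟩ : ∃ N : Subgroup P, IsCoatom N ∧ (⟨x, hx⟩ : P) ∈ N := by
    rcases eq_top_or_exists_le_coatom (Subgroup.zpowers (⟨x, hx⟩ : P)) with h | ⟨N, hN, hle⟩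
    · exfalso
      have : (⟨y, hy⟩ : P) ∈ Subgroup.zpowers (⟨x, hx⟩ : P) := h ▸ Subgroup.mem_top _
      obtain ⟨k, hk⟩ := Subgroup.mem_zpowers_iff.1 this
      exact hcyc ⟨k, congrArg Subtype.val hk⟩
    · exact ⟨N, hN, hle (Subgroup.mem_zpowers _)⟩
  haveI : N.Normal := Subgroup.NormalizerCondition.normal_of_coatom N Group.normalizerCondition_of_isNilpotent hN
  have hsmall : ∀ z ∈ P, (mov x).map (z * x * z⁻¹).toMonoidHom = mov x ∧
      (mov (z * x * z⁻¹)).map x.toMonoidHom = mov (z * x * z⁻¹) := by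
    intro z hz
    have hz' : (⟨z, hz⟩ : P) * ⟨x, hx⟩ * (⟨z, hz⟩ : P)⁻¹ ∈ N := (inferInstance : N.Normal).conj_mem _ hxN _
    have hlt' : Nat.card (N.map P.subtype) < n := by
      rw [← hn, Subgroup.card_map_of_injective P.subtype_injective]
      exact lt_of_le_of_ne (Subgroup.card_le_card_group N) fun e => hN.1 (Subgroup.eq_top_of_card_eq N e)
    have hp : IsPGroup 3 (N.map P.subtype) := hP.to_le (Subgroup.map_subtype_le N)
    have mx : x ∈ N.map P.subtype := ⟨⟨x, hx⟩, hxN, rfl⟩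
    have mz : z * x * z⁻¹ ∈ N.map P.subtype := ⟨_, hz', rfl⟩
    exact ⟨IH _ hlt' _ rfl hp _ _ mx mz h4x (h4x.conj z), IH _ hlt' _ rfl hp _ _ mz mx (h4x.conj z) h4x⟩
  by_contra hne
  -- the images of `W` are centralized by `x`
  have hfix : ∀ z ∈ P, (mov x).map z.toMonoidHom ≠ mov x →
      Disjoint (mov x) ((mov x).map z.toMonoidHom) ∧ ∀ u ∈ (mov x).map z.toMonoidHom, x u = u := by
    intro z hz hzne
    have hinv := (hsmall z hz).2
    rw [mov_conj] at hinv
    set W := mov x with hW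
    set W' := W.map z.toMonoidHom with hW'
    have hcard : Nat.card W' = 4 := (Subgroup.card_map_of_injective z.injective).trans h4x.1
    have hdis : W ⊓ W' = ⊥ := by
      rw [Subgroup.eq_bot_iff_forall]
      intro u hu
      by_contra hu1
      have hxu : x u ∈ W ⊓ W' := ⟨mov_invariant x hu.1, hinv.le ⟨u, hu.2, rfl⟩⟩
      haveI := Fintype.ofFinite (W ⊓ W' : Subgroup E)
      have h3 : 3 ≤ Nat.card (W ⊓ W' : Subgroup E) := by
        have hc : ({1, ⟨u, hu⟩, ⟨x u, hxu⟩} : Finset (W ⊓ W' : Subgroup E)).card ≤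
            Nat.card (W ⊓ W' : Subgroup E) := by
          rw [Nat.card_eq_fintype_card]; exact Finset.card_le_univ _
        rwa [Finset.card_insert_of_notMem, Finset.card_pair] at hc
        · simp only [ne_eq, Subtype.ext_iff]
          exact fun e => hu1 (h4x.2 u hu.1 e.symm)
        · simp only [Finset.mem_insert, Finset.mem_singleton, Subtype.ext_iff, OneMemClass.coe_one, not_or]
          exact ⟨Ne.symm hu1, fun e => hu1 (x.injective (e.symm.trans (map_one x).symm))⟩
      have hd := Subgroup.card_dvd_of_le (inf_le_left : W ⊓ W' ≤ W)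
      rw [h4x.1] at hd
      have h4 : Nat.card (W ⊓ W' : Subgroup E) ≠ 4 := fun hk =>
        hzne ((Subgroup.eq_of_le_of_card_ge inf_le_right (le_of_eq (hcard.trans hk.symm))).symm.trans
          (Subgroup.eq_of_le_of_card_ge inf_le_left (le_of_eq (h4x.1.trans hk.symm))))
      generalize Nat.card (W ⊓ W' : Subgroup E) = k at h3 hd h4
      have := Nat.le_of_dvd (by norm_num) hd
      interval_cases k <;> simp_all
    refine ⟨disjoint_iff.2 hdis, fun u hu => ?_⟩
    have h1 : x u * u⁻¹ ∈ W ⊓ W' := ⟨⟨u, rfl⟩, Subgroup.mul_mem W' (hinv.le ⟨u, hu, rfl⟩) (W'.inv_mem hu)⟩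
    rw [hdis, Subgroup.mem_bot] at h1
    exact mul_inv_eq_one.1 h1
  have hmm : ∀ a b : MulAut E, (mov x).map (a * b).toMonoidHom = ((mov x).map b.toMonoidHom).map a.toMonoidHom :=
    fun a b => by
      rw [Subgroup.map_map]; rfl
  have hy2ne : (mov x).map (y * y).toMonoidHom ≠ mov x := by
    intro e
    apply hne
    obtain ⟨k, hk⟩ := hP ⟨y, hy⟩
    have hk' : y ^ 3 ^ k = 1 := congrArg Subtype.val hk
    obtain ⟨m, hm⟩ : Odd (3 ^ k) := (by decide : Odd 3).pow
    have hpow : ∀ j : ℕ, (mov x).map ((y * y) ^ j).toMonoidHom = mov x := by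
      intro j
      induction j with
      | zero => rw [pow_zero]; exact Subgroup.map_id _
      | succ j ih => rw [pow_succ, hmm, e, ih]
    have : y = ((y * y) ^ (m + 1)) := by
      rw [← pow_two, ← pow_mul, show 2 * (m + 1) = 2 * m + 1 + 1 by ring, pow_succ, ← hm, hk', one_mul]
    rw [this]; exact hpow _
  obtain ⟨d1, f1⟩ := hfix y hy hne
  obtain ⟨d2, f2⟩ := hfix (y * y) (mul_mem hy hy) hy2ne
  set W := mov x
  set W1 := W.map y.toMonoidHom
  set W2 := W.map (y * y).toMonoidHom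
  have hW2 : W2 = W1.map y.toMonoidHom := hmm y y
  have d12 : Disjoint W1 W2 := by
    rw [hW2]
    refine disjoint_iff.2 ((Subgroup.eq_bot_iff_forall _).2 fun u hu => ?_)
    obtain ⟨⟨w, hw, rfl⟩, v, ⟨w', hw', rfl⟩, hv⟩ := hu
    have he : w = y w' := y.injective hv.symm
    have : w = 1 := (Subgroup.mem_bot).1 (d1.le_bot ⟨hw, w', hw', he.symm⟩)
    rw [this, map_one]
  -- everything lies in `W W_y`
  have hle : ∀ u : E, y u ∈ Subgroup.closure {u} ⊔ mov y := fun u => by
    have : y u = (y u * u⁻¹) * u := by rw [inv_mul_cancel_right]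
    rw [this, sup_comm]
    exact mul_mem (Subgroup.mem_sup_left ⟨u, rfl⟩) (Subgroup.mem_sup_right (Subgroup.subset_closure rfl))
  have hW1 : W1 ≤ W ⊔ mov y := by
    rintro _ ⟨w, hw, rfl⟩
    exact (sup_le_sup_right ((Subgroup.closure_le _).2 (by simpa using hw)) _) (hle w)
  have hW2' : W2 ≤ W ⊔ mov y := by
    rw [hW2]
    rintro _ ⟨w, hw, rfl⟩
    exact (sup_le ((Subgroup.closure_le _).2 (by simpa using hW1 hw)) le_sup_right : _ ≤ W ⊔ mov y) (hle w)
  let f : W × W1 × W2 → (W ⊔ mov y : Subgroup E) := fun p =>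
    ⟨p.1 * p.2.1 * p.2.2, mul_mem (mul_mem (Subgroup.mem_sup_left p.1.2) (hW1 p.2.1.2)) (hW2' p.2.2.2)⟩
  have hf : Function.Injective f := by
    rintro ⟨a, b, c⟩ ⟨a', b', c'⟩ h
    have h' : (a : E) * b * c = a' * b' * c' := congrArg Subtype.val h
    have h0 : ((a : E) / a') * ((b : E) / b') * ((c : E) / c') = 1 := by
      rw [div_mul_div_comm, div_mul_div_comm, h', div_self']
    have ha : (a : E) / a' = 1 := by
      refine h4x.2 _ (div_mem a.2 a'.2) ?_
      have := congrArg x h0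
      rw [map_mul, map_mul, f1 _ (div_mem b.2 b'.2), f2 _ (div_mem c.2 c'.2), map_one] at this
      exact mul_right_cancel (mul_right_cancel (this.trans h0.symm))
    rw [ha, one_mul] at h0
    have hb : (b : E) / b' ∈ W2 := by
      rw [eq_inv_of_mul_eq_one_left h0]; exact inv_mem (div_mem c.2 c'.2)
    have hb1 : (b : E) / b' = 1 := (Subgroup.mem_bot).1 (d12.le_bot ⟨(div_mem b.2 b'.2 : (b : E) / b' ∈ W1), hb⟩)
    rw [hb1, one_mul] at h0
    exact Prod.ext (Subtype.ext (div_eq_one.1 ha)) (Prod.ext (Subtype.ext (div_eq_one.1 hb1)) (Subtype.ext (div_eq_one.1 h0)))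
  have hc := Nat.card_le_card_of_injective f hf
  rw [Nat.card_prod, Nat.card_prod, Subgroup.card_map_of_injective y.injective,
    Subgroup.card_map_of_injective (y * y).injective, h4x.1] at hc
  have hsup : Nat.card (W ⊔ mov y : Subgroup E) ≤ 4 * 4 := by
    calc Nat.card (W ⊔ mov y : Subgroup E) ≤ Nat.card (W × mov y) := by
          refine Nat.card_le_card_of_surjective (fun p => ⟨p.1 * p.2, Subgroup.mem_sup.2 ⟨_, p.1.2, _, p.2.2, rfl⟩⟩) ?_
          rintro ⟨z, hz⟩
          obtain ⟨a, ha, b, hb, rfl⟩ := Subgroup.mem_sup.1 hz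
          exact ⟨(⟨a, ha⟩, ⟨b, hb⟩), rfl⟩
      _ = 4 * 4 := by rw [Nat.card_prod, h4x.1, h4y.1]
  omega

/-- An element with a commutator module of order 4 normalizes that of another one. -/
theorem mov_invariant_pair (P : Subgroup (MulAut E)) (hP : IsPGroup 3 P) {x y : MulAut E}
    (hx : x ∈ P) (hy : y ∈ P) (h4x : IsFour x) (h4y : IsFour y) :
    (mov x).map y.toMonoidHom = mov x :=
  mov_invariant_pair_aux _ P rfl hP x y hx hy h4x h4y

end CfsgLib.JComp
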