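import Cfsg.Agent.Lib.JComp.Core

/-!
# The splitting of `Ω₁(Z(J))` along `W`
-/

set_option autoImplicit false

namespace CfsgLib.JComp

variable {G : Type*} [Group G] [Finite G] {T K : Subgroup G}

local notation "J" => CfsgLib.Transfer.thompsonJ 2 T
local notation "W" => Cfsg.wOf K
local notation "H" => K ⊔ CfsgLib.Transfer.thompsonJ 2 T

/-- A group generated by squares-one elements that pairwise commute. -/
theorem isAbExp_sup {A B : Subgroup G} (hA : CfsgLib.Transfer.IsAbExp 2 A) (hB : CfsgLib.Transfer.IsAbExp 2 B)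
    (h : ∀ a ∈ A, ∀ b ∈ B, a * b = b * a) : CfsgLib.Transfer.IsAbExp 2 (A ⊔ B) := by
  have hcA : ∀ a ∈ A, ∀ b ∈ A, a * b = b * a := fun a ha b hb => congrArg Subtype.val (hA.1.is_comm.comm ⟨a, ha⟩ ⟨b, hb⟩)
  have hcB : ∀ a ∈ B, ∀ b ∈ B, a * b = b * a := fun a ha b hb => congrArg Subtype.val (hB.1.is_comm.comm ⟨a, ha⟩ ⟨b, hb⟩)
  have hn : B ≤ Subgroup.normalizer (A : Set G) := fun b hb => Subgroup.mem_normalizer_iff.2 fun x => by
    constructor
    · intro hx; rw [← h x hx b hb, mul_inv_cancel_right]; exact hx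
    · intro hx
      have := h _ hx b hb
      rw [inv_mul_cancel_right] at this
      have : b * x * b⁻¹ = x := mul_left_cancel (a := b) (by rw [← this])
      rwa [this] at hx
  have hmem : ∀ z ∈ A ⊔ B, ∃ a ∈ A, ∃ b ∈ B, a * b = z := by
    intro z hz
    have : z ∈ ((A ⊔ B : Subgroup G) : Set G) := hz
    rw [Subgroup.coe_mul_of_right_le_normalizer_left _ _ hn] at this
    exact this
  refine ⟨⟨⟨fun x y => ?_⟩⟩, fun z hz => ?_⟩
  · obtain ⟨a, ha, b, hb, hx⟩ := hmem _ x.2
    obtain ⟨a', ha', b', hb', hy⟩ := hmem _ y.2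
    refine Subtype.ext ?_
    show (x : G) * y = (y : G) * x
    rw [← hx, ← hy]
    calc a * b * (a' * b') = a * (b * a') * b' := by group
      _ = a * a' * (b * b') := by rw [← h a' ha' b hb]; group
      _ = a' * a * (b' * b) := by rw [hcA a ha a' ha', hcB b hb b' hb']
      _ = a' * (a * b') * b := by group
      _ = a' * b' * (a * b) := by rw [h a ha b' hb']; group
  · obtain ⟨a, ha, b, hb, rfl⟩ := hmem _ hz
    rw [(show Commute a b from h a ha b hb).mul_pow, hA.2 a ha, hB.2 b hb, mul_one]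

theorem isAbExp_mono {A B : Subgroup G} (hB : CfsgLib.Transfer.IsAbExp 2 B) (h : A ≤ B) :
    CfsgLib.Transfer.IsAbExp 2 A :=
  ⟨⟨⟨fun x y => Subtype.ext (congrArg Subtype.val (hB.1.is_comm.comm ⟨x, h x.2⟩ ⟨y, h y.2⟩) :)⟩⟩,
    fun a ha => hB.2 a (h ha)⟩

theorem Setting.split (S : Setting T K) :
    ∃ w : G, w ∈ W ∧ w ≠ 1 ∧ w ∈ Cfsg.omegaCenterOf (J) ∧
      (∀ x ∈ W, x ∈ Cfsg.omegaCenterOf (J) → x = 1 ∨ x = w) ∧
      ∀ z ∈ Cfsg.omegaCenterOf (J), ∃ y ∈ H, (∀ h ∈ H, h * y = y * h) ∧ (y = z ∨ y = z * w) := by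
  classical
  have h2W := S.hK.2.2.2.2.2
  set φ := phi S with hφ
  have hsurj : Function.Surjective φ := S.phi_surjective
  haveI hDn : φ.ker.Normal := inferInstance
  -- a Sylow subgroup containing `J`
  have hJp : IsPGroup 2 ((J).subgroupOf (H)) :=
    (S.hT.to_le (CfsgLib.Transfer.thompsonJ_le 2 T)).comap_of_injective (H : Subgroup G).subtype
      (Subgroup.subtype_injective _)
  obtain ⟨P, hP⟩ := hJp.exists_le_sylow
  set R : Subgroup G := (P : Subgroup ↥(H)).map (H : Subgroup G).subtype with hR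
  have hJR : J ≤ R := fun x hx => ⟨⟨x, Subgroup.mem_sup_right hx⟩, hP hx, rfl⟩
  have hRH : R ≤ H := Subgroup.map_subtype_le _
  have hJR2 : CfsgLib.Transfer.thompsonJ 2 R = J := by
    have h := S.hK.2.2.2.1 R ?_ ?_
    · rw [CfsgLib.Transfer.thompsonSubgroupOf_eq, CfsgLib.Transfer.thompsonSubgroupOf_eq] at h
      exact h
    · rw [CfsgLib.Transfer.thompsonSubgroupOf_eq]
      refine ⟨hRH, P.2.map _, ?_⟩
      rw [hR, Subgroup.relIndex, ← Subgroup.comap_subtype,
        Subgroup.comap_map_eq_self_of_injective (Subgroup.subtype_injective _)]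
      rw [← Nat.not_even_iff_odd, even_iff_two_dvd]
      exact Sylow.not_dvd_index P
    · rw [CfsgLib.Transfer.thompsonSubgroupOf_eq]; exact hJR
  have hker : ∀ d : ↥(H), φ d = 1 → (d : G) ∈ R := by
    intro d hd
    exact ⟨d, IsPGroup.le_sylow_of_normal S.ker_isPGroup P hd, rfl⟩
  have hDJ : ∀ d : ↥(H), φ d = 1 → (d : G) ∈ Subgroup.normalizer ((J : Subgroup G) : Set G) := by
    intro d hd
    have := CfsgLib.Transfer.normalizer_le_normalizer_thompsonJ 2 R (Subgroup.le_normalizer (hker d hd))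
    rwa [hJR2] at this
  obtain ⟨A, hA, a, ha, x₀, hx₀, hax₀⟩ := S.exists_A_moves
  have hAJ : A ≤ J := le_sSup hA
  have hmaxR : ∀ B : Subgroup G, B ≤ R → CfsgLib.Transfer.IsAbExp 2 B → Nat.card B ≤ Nat.card A := by
    intro B hB hBe
    obtain ⟨B₀, hB₀⟩ := CfsgLib.Transfer.thompsonJ_nonempty 2 R
    refine (hB₀.2.2 B hB hBe).trans (hA.2.2 B₀ ?_ hB₀.2.1)
    exact ((le_sSup hB₀).trans hJR2.le).trans (CfsgLib.Transfer.thompsonJ_le 2 T)
  have hmemJ : ∀ B : Subgroup G, B ≤ R → CfsgLib.Transfer.IsAbExp 2 B → Nat.card A ≤ Nat.card B → B ≤ J := by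
    intro B hB hBe hc
    rw [← hJR2]
    exact le_sSup ⟨hB, hBe, fun C hC hCe => (hmaxR C hC hCe).trans hc⟩
  -- the image of `J`
  let ι : J →* ↥(H) := Subgroup.inclusion le_sup_right
  have h6 : Nat.card (Equiv.Perm (Pts K)) = 6 := by rw [Nat.card_perm, S.card_pts]; rfl
  set a' : ↥(H) := ⟨a, Subgroup.mem_sup_right (hAJ ha)⟩ with ha'
  have hφa : φ a' ≠ 1 := fun h => hax₀ ((phi_eq_one_iff S a').1 h x₀ hx₀)
  have haa : a * a = 1 := by rw [← pow_two]; exact hA.2.1.2 a ha
  have hφaa : φ a' * φ a' = 1 := by rw [← map_mul, show a' * a' = 1 from Subtype.ext haa, map_one]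
  have hJimg : ∀ j : J, φ (ι j) = 1 ∨ φ (ι j) = φ a' := by
    intro j
    by_contra hne
    push Not at hne
    have hp : IsPGroup 2 (φ.comp ι).range :=
      (S.hT.to_le (CfsgLib.Transfer.thompsonJ_le 2 T)).of_surjective _ (φ.comp ι).rangeRestrict_surjective
    obtain ⟨k, hk⟩ := IsPGroup.iff_card.1 hp
    have hd : Nat.card (φ.comp ι).range ∣ 6 := h6 ▸ Subgroup.card_subgroup_dvd_card _
    have h3 : 3 ≤ Nat.card (φ.comp ι).range := by
      haveI := Fintype.ofFinite (φ.comp ι).range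
      have hc : ({1, ⟨φ (ι j), j, rfl⟩, ⟨φ a', ⟨a, hAJ ha⟩, rfl⟩} : Finset (φ.comp ι).range).card ≤
          Nat.card (φ.comp ι).range := by
        rw [Nat.card_eq_fintype_card]; exact Finset.card_le_univ _
      rwa [Finset.card_insert_of_notMem (by simp [Subtype.ext_iff, Ne.symm hne.1, Ne.symm hφa]),
        Finset.card_pair (by simp [Subtype.ext_iff, hne.2])] at hc
    rw [hk] at hd h3
    rcases k with _ | _ | k
    · norm_num at h3
    · norm_num at h3
    · have : 2 ^ 2 ∣ 6 := (pow_dvd_pow 2 (by omega)).trans hd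
      norm_num at this
  -- the fixed point of `a`
  obtain ⟨w, hw, hw1, haw, hwuniq⟩ : ∃ w ∈ W, w ≠ 1 ∧ a * w = w * a ∧ ∀ x ∈ W, a * x = x * a → x = 1 ∨ x = w := by
    set x := x₀ with hx
    set x' := a * x * a⁻¹ with hx'
    have hx'W : x' ∈ W := S.normalizes_W a'.2 hx₀
    have hne : x ≠ x' := fun h => hax₀ (by
      have := congrArg (· * a) h
      simp only [hx', inv_mul_cancel_right] at this
      exact this.symm)
    have hx1 : x ≠ 1 := fun h => hax₀ (by rw [h, mul_one, one_mul])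
    have hinv : a⁻¹ = a := inv_eq_of_mul_eq_one_right haa
    have hback : a * x' * a⁻¹ = x := by
      rw [hx', hinv, ← mul_assoc, ← mul_assoc, haa, one_mul, mul_assoc, haa, mul_one]
    have hfix : a * (x * x') * a⁻¹ = x * x' := by
      calc a * (x * x') * a⁻¹ = a * x * a⁻¹ * (a * x' * a⁻¹) := by group
        _ = x' * x := by rw [← hx', hback]
        _ = x * x' := S.comm_W hx'W hx₀
    refine ⟨x * x', mul_mem hx₀ hx'W, fun h => hne ?_, mul_inv_eq_iff_eq_mul.1 hfix, fun y hy hay => ?_⟩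
    · rw [← inv_eq_of_mul_eq_one_right (h2W x hx₀)]; exact inv_eq_of_mul_eq_one_right h
    · by_contra hy'
      push Not at hy'
      haveI := Fintype.ofFinite W
      have hyx : y ≠ x := fun h => hax₀ (h ▸ hay)
      have hyx' : y ≠ x' := fun h => hne (by
        have h1 : a * x' * a⁻¹ = x' := mul_inv_eq_iff_eq_mul.2 (h ▸ hay)
        exact hback.symm.trans h1)
      have hxw : x ≠ x * x' := fun h => (fun h1 : x' ≠ 1 => h1 (mul_eq_left.1 h.symm))
        (fun h1 => hx1 (conj_eq_one_iff.1 h1))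
      have hx'w : x' ≠ x * x' := fun h => hx1 (mul_eq_right.1 h.symm)
      have hc : ({1, ⟨x, hx₀⟩, ⟨x', hx'W⟩, ⟨x * x', mul_mem hx₀ hx'W⟩, ⟨y, hy⟩} : Finset W).card ≤
          Nat.card W := by
        rw [Nat.card_eq_fintype_card]; exact Finset.card_le_univ _
      have hx'1 : x' ≠ 1 := fun h1 => hx1 (conj_eq_one_iff.1 h1)
      have hw' : x * x' ≠ 1 := fun h => hne (by
        rw [← inv_eq_of_mul_eq_one_right (h2W x hx₀)]; exact inv_eq_of_mul_eq_one_right h)
      rw [S.card_W, Finset.card_insert_of_notMem, Finset.card_insert_of_notMem, Finset.card_insert_of_notMem,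
        Finset.card_pair] at hc
      · omega
      · simp [Subtype.ext_iff, Ne.symm hy'.2]
      · simp [Subtype.ext_iff, hx'w, Ne.symm hyx']
      · simp [Subtype.ext_iff, hne, hxw, Ne.symm hyx]
      · simp [Subtype.ext_iff, Ne.symm hx1, Ne.symm hx'1, Ne.symm hw', Ne.symm hy'.1]
  have hJw : ∀ j ∈ J, j * w = w * j := by
    intro j hj
    rcases hJimg ⟨j, hj⟩ with h | h
    · exact (phi_eq_one_iff S _).1 h w hw
    · have := congrArg Subtype.val (Equiv.ext_iff.1 h ⟨w, hw, hw1⟩)
      exact mul_inv_eq_iff_eq_mul.1 (this.trans (mul_inv_eq_iff_eq_mul.2 haw))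
  -- the second large elementary subgroup
  set C := A ⊓ Subgroup.centralizer (W : Set G) with hC
  have hWe : CfsgLib.Transfer.IsAbExp 2 W :=
    ⟨⟨⟨fun x y => Subtype.ext (S.comm_W x.2 y.2)⟩⟩, fun x hx => by rw [pow_two]; exact h2W x hx⟩
  have hCW : ∀ c ∈ C, ∀ x ∈ W, c * x = x * c := fun c hc x hx =>
    (Subgroup.mem_centralizer_iff.1 hc.2 x hx).symm
  set A' := C ⊔ W with hA'
  have hA'e : CfsgLib.Transfer.IsAbExp 2 A' := isAbExp_sup (isAbExp_mono hA.2.1 inf_le_left) hWe hCW
  have hWH : W ≤ H := W_le_K.trans le_sup_left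
  have hA'D : ∀ y ∈ A', ∃ hy : y ∈ H, φ ⟨y, hy⟩ = 1 := by
    intro y hy
    have hyH : y ∈ H := (sup_le (inf_le_left.trans (hAJ.trans le_sup_right)) hWH) hy
    refine ⟨hyH, (phi_eq_one_iff S _).2 fun x hx => ?_⟩
    exact congrArg Subtype.val (hA'e.1.is_comm.comm ⟨y, hy⟩ ⟨x, Subgroup.mem_sup_right hx⟩)
  have hA'R : A' ≤ R := fun y hy => by
    obtain ⟨hyH, h⟩ := hA'D y hy
    exact hker _ h
  have hWnC : C < C ⊔ W := by
    refine lt_of_le_of_ne le_sup_left fun h => hax₀ ?_
    have : x₀ ∈ C := h ▸ Subgroup.mem_sup_right hx₀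
    exact congrArg Subtype.val (hA.2.1.1.is_comm.comm ⟨a, ha⟩ ⟨x₀, this.1⟩)
  have hcardC : Nat.card A ≤ 2 * Nat.card C := by
    let f : A →* Equiv.Perm (Pts K) := φ.comp (ι.comp (Subgroup.inclusion hAJ))
    have hk : f.ker.map A.subtype = C := by
      ext y
      constructor
      · rintro ⟨⟨y, hyA⟩, hy, rfl⟩
        exact ⟨hyA, Subgroup.mem_centralizer_iff.2 fun x hx => ((phi_eq_one_iff S _).1 hy x hx).symm⟩
      · intro hy
        exact ⟨⟨y, hy.1⟩, (phi_eq_one_iff S _).2 (fun x hx => (Subgroup.mem_centralizer_iff.1 hy.2 x hx).symm), rfl⟩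
    have hr : Nat.card f.range ≤ 2 := by
      have hsub : ((f.range : Subgroup _) : Set (Equiv.Perm (Pts K))) ⊆ {1, φ a'} := by
        rintro _ ⟨y, rfl⟩
        exact hJimg ⟨y, hAJ y.2⟩
      rw [← SetLike.coe_sort_coe, Nat.card_coe_set_eq]
      refine (Set.ncard_le_ncard hsub).trans ?_
      exact (Set.ncard_insert_le _ _).trans (by rw [Set.ncard_singleton])
    rw [← Subgroup.card_mul_index f.ker, Subgroup.index_ker, ← hk,
      Nat.card_congr (Subgroup.equivMapOfInjective f.ker _ (Subgroup.subtype_injective _)).toEquiv.symm, mul_comm 2]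
    exact Nat.mul_le_mul_left _ hr
  have hcardA' : Nat.card A = Nat.card A' := by
    refine le_antisymm (hcardC.trans ?_) (hmaxR A' hA'R hA'e)
    obtain ⟨n, hn⟩ := Subgroup.card_dvd_of_le hWnC.le
    change Nat.card (C ⊔ W : Subgroup G) = _ at hn
    rw [hA', hn, mul_comm 2]
    refine Nat.mul_le_mul_left _ ?_
    by_contra hlt
    have hn0 : n ≠ 0 := by rintro rfl; rw [mul_zero] at hn; exact Nat.card_pos.ne' hn
    have hn1 : n = 1 := by omega
    rw [hn1, mul_one] at hn
    exact hWnC.ne (Subgroup.eq_of_le_of_card_ge hWnC.le hn.le)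
  have hWJ : W ≤ J := le_sup_right.trans (hmemJ A' hA'R hA'e hcardA'.le)
  have hwZ : w ∈ Cfsg.omegaCenterOf (J) := mem_omegaCenterOf (hWJ hw) hJw (h2W w hw)
  refine ⟨w, hw, hw1, hwZ, fun x hx hxZ => hwuniq x hx (omegaCenterOf_comm hxZ (hAJ ha)), fun z hz => ?_⟩
  have hzJ : z ∈ J := omegaCenterOf_le _ hz
  -- an element moving the fixed point
  obtain ⟨h, hh⟩ : ∃ h : ↥(H), φ h * φ a' * (φ h)⁻¹ ≠ φ a' := by
    by_contra hc
    push Not at hc
    have hcen : ∀ v : Equiv.Perm (Pts K), v * φ a' = φ a' * v := by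
      intro v
      obtain ⟨h, rfl⟩ := hsurj v
      exact mul_inv_eq_iff_eq_mul.1 (hc h)
    obtain ⟨x, hx⟩ : ∃ x, φ a' x ≠ x := by
      by_contra hh
      push Not at hh
      exact hφa (Equiv.ext hh)
    obtain ⟨y, hy1, hy2⟩ : ∃ y, y ≠ x ∧ y ≠ φ a' x := by
      haveI := Fintype.ofFinite (Pts K)
      have h3 : Fintype.card (Pts K) = 3 := by rw [← Nat.card_eq_fintype_card, S.card_pts]
      by_contra hh
      push Not at hh
      have : (Finset.univ : Finset (Pts K)) ⊆ {x, φ a' x} := fun y _ => by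
        by_cases e : y = x
        · simp [e]
        · simp [hh y e]
      have := (Finset.card_le_card this).trans Finset.card_le_two
      rw [Finset.card_univ, h3] at this
      omega
    have h1 := Equiv.ext_iff.1 (hcen (Equiv.swap x y)) x
    simp only [Equiv.Perm.mul_apply, Equiv.swap_apply_left] at h1
    rw [Equiv.swap_apply_of_ne_of_ne hx (Ne.symm hy2)] at h1
    exact hy1 ((φ a').injective h1).symm
  set g : G := (h : G) with hg
  set z' := g⁻¹ * z * g with hz'
  -- `z'` lies in `A'`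
  have hz'A : z' ∈ A' := by
    set A'' := A'.map (MulAut.conj g).toMonoidHom with hA''
    have hA''e : CfsgLib.Transfer.IsAbExp 2 A'' :=
      (CfsgLib.Transfer.isAbExp_map_iff 2 _ (MulEquiv.injective (MulAut.conj g)).injOn).2 hA'e
    have hA''R : A'' ≤ R := by
      rintro _ ⟨y, hy, rfl⟩
      obtain ⟨hyH, hy1⟩ := hA'D y hy
      have := hker (h * ⟨y, hyH⟩ * h⁻¹) (by rw [map_mul, map_mul, hy1, mul_one, map_inv, mul_inv_cancel])
      exact this
    have hcA'' : Nat.card A'' = Nat.card A := by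
      rw [hA'', CfsgLib.Transfer.card_map_of_injOn _ (MulEquiv.injective (MulAut.conj g)).injOn, hcardA']
    have hA''J : A'' ≤ J := hmemJ A'' hA''R hA''e hcA''.ge
    have hsup : CfsgLib.Transfer.IsAbExp 2 (A'' ⊔ Subgroup.zpowers z) := by
      refine isAbExp_sup hA''e ⟨inferInstance, ?_⟩ ?_
      · intro y hy
        obtain ⟨k, rfl⟩ := Subgroup.mem_zpowers_iff.1 hy
        rw [← zpow_natCast, ← zpow_mul, mul_comm, zpow_mul, zpow_natCast, pow_two,
          omegaCenterOf_sq hz, one_zpow]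
      · intro y hy b hb
        obtain ⟨k, rfl⟩ := Subgroup.mem_zpowers_iff.1 hb
        exact Commute.zpow_right (omegaCenterOf_comm hz (hA''J hy)) k
    have hle := hmaxR _ (sup_le hA''R (Subgroup.zpowers_le.2 (hJR hzJ))) hsup
    have heq := Subgroup.eq_of_le_of_card_ge (le_sup_left : A'' ≤ A'' ⊔ Subgroup.zpowers z) (hle.trans hcA''.ge)
    have hzA : z ∈ A'' := heq ▸ Subgroup.mem_sup_right (Subgroup.mem_zpowers z)
    obtain ⟨y, hy, hyz⟩ := hzA
    rw [hz', ← hyz]
    simpa [mul_assoc] using hy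
  -- hence `a` moves `z'` at most by `w`
  have hmove : a * z' * a⁻¹ = z' ∨ a * z' * a⁻¹ = z' * w := by
    have hn : W ≤ Subgroup.normalizer (C : Set G) := fun x hx => Subgroup.mem_normalizer_iff.2 fun c => by
      constructor
      · intro hc; rw [← hCW c hc x hx, mul_inv_cancel_right]; exact hc
      · intro hc
        have := hCW _ hc x hx
        rw [inv_mul_cancel_right] at this
        have : x * c * x⁻¹ = c := mul_left_cancel (a := x) (by rw [← this])
        rwa [this] at hc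
    have hmem : z' ∈ ((C ⊔ W : Subgroup G) : Set G) := hz'A
    rw [Subgroup.coe_mul_of_right_le_normalizer_left _ _ hn] at hmem
    obtain ⟨c, hc, x, hx, hcx⟩ := hmem
    have hca : a * c * a⁻¹ = c := mul_inv_eq_iff_eq_mul.2
      (congrArg Subtype.val (hA.2.1.1.is_comm.comm ⟨a, ha⟩ ⟨c, hc.1⟩))
    have hstep : a * z' * a⁻¹ = c * (a * x * a⁻¹) := by
      rw [← hcx]
      calc a * (c * x) * a⁻¹ = a * c * a⁻¹ * (a * x * a⁻¹) := by group
        _ = _ := by rw [hca]
    by_cases hax : a * x = x * a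
    · left; rw [hstep, mul_inv_eq_iff_eq_mul.2 hax]; exact hcx
    · right
      rw [hstep, show z' * w = c * (x * w) by rw [← mul_assoc]; exact congrArg (· * w) hcx.symm]
      congr 1
      -- the two moved points differ by the fixed one
      have hx' : a * x * a⁻¹ ∈ W := S.normalizes_W a'.2 hx
      have hinv : a⁻¹ = a := inv_eq_of_mul_eq_one_right haa
      have hp : a * (x * (a * x * a⁻¹)) = (x * (a * x * a⁻¹)) * a := by
        apply mul_inv_eq_iff_eq_mul.1
        calc a * (x * (a * x * a⁻¹)) * a⁻¹ = a * x * a⁻¹ * (a * (a * x * a⁻¹) * a⁻¹) := by group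
          _ = a * x * a⁻¹ * x := by
            congr 1
            rw [hinv, ← mul_assoc, ← mul_assoc, haa, one_mul, mul_assoc, haa, mul_one]
          _ = x * (a * x * a⁻¹) := S.comm_W hx' hx
      rcases hwuniq _ (mul_mem hx hx') hp with h1 | h1
      · refine absurd ?_ hax
        refine mul_inv_eq_iff_eq_mul.1 ?_
        exact (inv_eq_of_mul_eq_one_right h1).symm.trans (inv_eq_of_mul_eq_one_right (h2W x hx))
      · rw [← h1, ← mul_assoc, h2W x hx, one_mul]
  set b : G := g * a * g⁻¹ with hb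
  set w' : G := g * w * g⁻¹ with hw'
  have hbH : b ∈ H := mul_mem (mul_mem h.2 a'.2) (inv_mem h.2)
  set b' : ↥(H) := ⟨b, hbH⟩ with hb'
  have hφb : φ b' = φ h * φ a' * (φ h)⁻¹ := by
    rw [← map_inv, ← map_mul, ← map_mul]; rfl
  have hbb : φ b' * φ b' = 1 := by
    rw [hφb, show φ h * φ a' * (φ h)⁻¹ * (φ h * φ a' * (φ h)⁻¹) = φ h * (φ a' * φ a') * (φ h)⁻¹ by group,
      hφaa, mul_one, mul_inv_cancel]
  have hb0 : φ b' ≠ 1 := by rw [hφb]; exact fun e => hφa (conj_eq_one_iff.1 e)
  have hab : φ a' ≠ φ b' := by rw [hφb]; exact fun e => hh e.symm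
  have hconj : b * z * b⁻¹ = g * (a * z' * a⁻¹) * g⁻¹ := by rw [hb, hz']; group
  -- the component centralized by `b`
  obtain ⟨y, hyJ, hyc, hyb, hyz⟩ : ∃ y ∈ J, (∀ j ∈ J, j * y = y * j) ∧ b * y = y * b ∧ (y = z ∨ y = z * w) := by
    rcases hmove with hm | hm
    · refine ⟨z, hzJ, fun j hj => omegaCenterOf_comm hz hj, ?_, .inl rfl⟩
      refine mul_inv_eq_iff_eq_mul.1 ?_
      rw [hconj, hm, hz']; group
    · have hz1 : b * z * b⁻¹ = z * w' := by rw [hconj, hm, hz', hw']; group
      have hw'W : w' ∈ W := S.normalizes_W h.2 hw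
      have hbw' : b * w' * b⁻¹ = w' := by
        rw [hb, hw']
        calc g * a * g⁻¹ * (g * w * g⁻¹) * (g * a * g⁻¹)⁻¹ = g * (a * w * a⁻¹) * g⁻¹ := by group
          _ = g * w * g⁻¹ := by rw [mul_inv_eq_iff_eq_mul.2 haw]
      have hww : w' ≠ w := by
        intro e
        apply hab
        -- two involutions with the same fixed point agree
        have hfix : ∀ u : ↥(H), φ u * φ u = 1 → φ u ≠ 1 → (u : G) * w = w * u → ∀ x ∈ W,
            x ≠ 1 → x ≠ w → (u : G) * x * (u : G)⁻¹ = x * w := by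
          intro u huu hu0 huw x hx hx1 hxw
          have hux : (u : G) * x * (u : G)⁻¹ ∈ W := S.normalizes_W u.2 hx
          have hxwW : x * w ∈ W := mul_mem hx hw
          by_contra hne
          -- otherwise `u` fixes everything
          refine hu0 ((phi_eq_one_iff S u).2 ?_)
          have hall : ∀ y ∈ W, y = 1 ∨ y = w ∨ y = x ∨ y = x * w := by
            intro y hy
            by_contra hy'
            push Not at hy'
            haveI := Fintype.ofFinite W
            have hc : ({1, ⟨w, hw⟩, ⟨x, hx⟩, ⟨x * w, hxwW⟩, ⟨y, hy⟩} : Finset W).card ≤ Nat.card W := by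
              rw [Nat.card_eq_fintype_card]; exact Finset.card_le_univ _
            have n1 : x * w ≠ 1 := fun e => hxw (by
              rw [← inv_eq_of_mul_eq_one_left e]; exact inv_eq_of_mul_eq_one_right (h2W w hw))
            have n2 : x * w ≠ w := fun e => hx1 (mul_eq_right.1 e)
            have n3 : x * w ≠ x := fun e => hw1 (mul_eq_left.1 e)
            rw [S.card_W, Finset.card_insert_of_notMem, Finset.card_insert_of_notMem,
              Finset.card_insert_of_notMem, Finset.card_pair] at hc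
            · omega
            · simp [Subtype.ext_iff, Ne.symm hy'.2.2.2]
            · simp [Subtype.ext_iff, Ne.symm n3, Ne.symm hy'.2.2.1]
            · simp [Subtype.ext_iff, Ne.symm hxw, Ne.symm n2, Ne.symm hy'.2.1]
            · simp [Subtype.ext_iff, Ne.symm hw1, Ne.symm hx1, Ne.symm n1, Ne.symm hy'.1]
          have hxfix : (u : G) * x = x * u := by
            rcases hall _ hux with h1 | h1 | h1 | h1
            · exact absurd (conj_eq_one_iff.1 h1) hx1
            · exfalso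
              refine hxw ?_
              have h2 : (u : G) * w * (u : G)⁻¹ = w := mul_inv_eq_iff_eq_mul.2 huw
              exact mul_left_cancel (a := (u : G)) (mul_right_cancel (h1.trans h2.symm))
            · exact mul_inv_eq_iff_eq_mul.1 h1
            · exact absurd h1 hne
          intro y hy
          rcases hall y hy with rfl | rfl | rfl | rfl
          · rw [one_mul, mul_one]
          · exact huw
          · exact hxfix
          · rw [← mul_assoc, hxfix, mul_assoc, huw, mul_assoc]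
        refine Equiv.ext fun x => Subtype.ext ?_
        show a * x.1 * a⁻¹ = b * x.1 * b⁻¹
        by_cases hxw : x.1 = w
        · rw [hxw, mul_inv_eq_iff_eq_mul.2 haw]
          rw [e] at hbw'
          exact hbw'.symm
        · rw [hfix a' hφaa hφa haw x.1 x.2.1 x.2.2 hxw,
            hfix b' hbb hb0 (mul_inv_eq_iff_eq_mul.1 (e ▸ hbw')) x.1 x.2.1 x.2.2 hxw]
      have hwbw : b * w * b⁻¹ = w * w' := by
        have hbwW : b * w * b⁻¹ ∈ W := S.normalizes_W hbH hw
        have hwb : b * w ≠ w * b := by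
          intro e
          have h1 : b * w * b⁻¹ = w := mul_inv_eq_iff_eq_mul.2 e
          have h2 : a * (g⁻¹ * w * g) = g⁻¹ * w * g * a := by
            apply mul_inv_eq_iff_eq_mul.1
            have := congrArg (fun t => g⁻¹ * t * g) h1
            rw [hb] at this
            simpa [mul_assoc] using this
          have hgw : g⁻¹ * w * g ∈ W := by simpa using S.normalizes_W (inv_mem h.2) hw
          rcases hwuniq _ hgw h2 with h3 | h3
          · exact hw1 (by simpa [mul_assoc] using congrArg (fun t => g * t * g⁻¹) h3)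
          · exact hww (by
              have := congrArg (fun t => g * t * g⁻¹) h3
              simp only [mul_assoc, mul_inv_cancel_left, mul_inv_cancel, mul_one] at this
              rw [hw']; simpa [mul_assoc] using this.symm)
        have hp : a * (g⁻¹ * (w * (b * w * b⁻¹)) * g) = g⁻¹ * (w * (b * w * b⁻¹)) * g * a := by
          apply mul_inv_eq_iff_eq_mul.1
          have hbbG : b * b = 1 := by rw [hb, show g * a * g⁻¹ * (g * a * g⁻¹) = g * (a * a) * g⁻¹ by group, haa]; group
          have hbinv : b⁻¹ = b := inv_eq_of_mul_eq_one_right hbbG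
          calc a * (g⁻¹ * (w * (b * w * b⁻¹)) * g) * a⁻¹
              = g⁻¹ * (b * w * b⁻¹ * (b * (b * w * b⁻¹) * b⁻¹)) * g := by rw [hb]; group
            _ = g⁻¹ * (b * w * b⁻¹ * w) * g := by
              have hbm : b * (b * w * b⁻¹) * b⁻¹ = w := by
                calc b * (b * w * b⁻¹) * b⁻¹ = b * b * w * (b * b)⁻¹ := by group
                  _ = w := by rw [hbbG, one_mul, inv_one, mul_one]
              rw [hbm]
            _ = g⁻¹ * (w * (b * w * b⁻¹)) * g := by rw [S.comm_W hbwW hw]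
        have hgW : g⁻¹ * (w * (b * w * b⁻¹)) * g ∈ W := by
          simpa using S.normalizes_W (inv_mem h.2) (mul_mem hw hbwW)
        rcases hwuniq _ hgW hp with h3 | h3
        · exfalso
          refine hwb (mul_inv_eq_iff_eq_mul.1 ?_)
          have h4 : w * (b * w * b⁻¹) = 1 := by simpa [mul_assoc] using congrArg (fun t => g * t * g⁻¹) h3
          rw [← inv_eq_of_mul_eq_one_right h4]
          exact inv_eq_of_mul_eq_one_right (h2W w hw)
        · have h4 : w * (b * w * b⁻¹) = w' := by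
            have h5 := congrArg (fun t => g * t * g⁻¹) h3
            simpa [hw', mul_assoc] using h5
          rw [← h4, ← mul_assoc, h2W w hw, one_mul]
      refine ⟨z * w, mul_mem hzJ (hWJ hw), fun j hj => ?_, ?_, .inr rfl⟩
      · rw [← mul_assoc, omegaCenterOf_comm hz hj, mul_assoc, hJw j hj, mul_assoc]
      · refine mul_inv_eq_iff_eq_mul.1 ?_
        calc b * (z * w) * b⁻¹ = b * z * b⁻¹ * (b * w * b⁻¹) := by group
          _ = z * (w' * (w * w')) := by rw [hz1, hwbw, mul_assoc]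
          _ = z * w := by rw [S.comm_W hw hw'W, ← mul_assoc w', h2W w' hw'W, one_mul]
  refine ⟨y, Subgroup.mem_sup_right hyJ, ?_, hyz⟩
  -- the centralizer of `y` covers `H` modulo the kernel
  set Cy := Subgroup.centralizer ({y} : Set G) with hCy
  have hJCy : J ≤ Cy := fun j hj => Subgroup.mem_centralizer_singleton_iff.2 (hyc j hj)
  have htop : (Cy.subgroupOf (H)).map φ = ⊤ :=
    eq_top_of_two_involutions S.card_pts _ ⟨a', hJCy (hAJ ha), rfl⟩
      ⟨b', Subgroup.mem_centralizer_singleton_iff.2 hyb, rfl⟩ hφaa hbb hφa hb0 hab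
  have hconjJ : ∀ u ∈ H, ∀ j ∈ J, u * j * u⁻¹ ∈ Cy := by
    intro u hu j hj
    obtain ⟨c, hc, hcu⟩ : φ ⟨u, hu⟩ ∈ (Cy.subgroupOf (H)).map φ := by rw [htop]; trivial
    have hd : φ (c⁻¹ * ⟨u, hu⟩) = 1 := by rw [map_mul, map_inv, hcu, inv_mul_cancel]
    have hdj : (c : G)⁻¹ * u * j * ((c : G)⁻¹ * u)⁻¹ ∈ J := (Subgroup.mem_normalizer_iff.1 (hDJ _ hd) j).1 hj
    have he : u * j * u⁻¹ = (c : G) * ((c : G)⁻¹ * u * j * ((c : G)⁻¹ * u)⁻¹) * (c : G)⁻¹ := by group
    rw [he]
    exact mul_mem (mul_mem hc (hJCy hdj)) (inv_mem hc)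
  have hKCy : K ≤ Cy := by
    conv_lhs => rw [← S.comm_eq]
    rw [Subgroup.commutator_le]
    intro k hk j hj
    rw [commutatorElement_def]
    exact mul_mem (hconjJ k (Subgroup.mem_sup_left hk) j hj) (inv_mem (hJCy hj))
  intro u hu
  exact Subgroup.mem_centralizer_singleton_iff.1 (sup_le hKCy hJCy hu)

end CfsgLib.JComp
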