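import Cfsg.Agent.Lib.JComp.Fpf
import Cfsg.Agent.Lib.JComp.Split

/-!
# An elementary abelian group permuting independent four-groups
-/

set_option autoImplicit false
set_option linter.style.haveILetI false

namespace CfsgLib.JComp

variable {G : Type*} [Group G] [Finite G]

/-- A proper subgroup of a four-group has at most two elements. -/
theorem card_le_two_of_lt {W F : Subgroup G} (h4 : Nat.card W = 4) (hle : F ≤ W) (hne : F ≠ W) :
    Nat.card F ≤ 2 := by
  have hd : Nat.card F ∣ 4 := h4 ▸ Subgroup.card_dvd_of_le hle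
  have h44 := Nat.le_of_dvd (by norm_num) hd
  by_contra hc
  have : Nat.card F = 4 := by
    generalize Nat.card F = n at hd h44 hc
    interval_cases n <;> simp_all
  exact hne (Subgroup.eq_of_le_of_card_ge hle (by rw [this, h4]))

/-- The shape of an involution acting non-trivially on a four-group. -/
theorem four_involution {W : Subgroup G} (h4 : Nat.card W = 4) (hsq : ∀ v ∈ W, v * v = 1)
    (hWW : ∀ x ∈ W, ∀ y ∈ W, x * y = y * x) {c : G} (hc : ∀ w ∈ W, c * w * c⁻¹ ∈ W) (hc2 : c * c = 1)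
    (hm : ∃ w ∈ W, c * w * c⁻¹ ≠ w) :
    ∃ z ∈ W, z ≠ 1 ∧ c * z * c⁻¹ = z ∧ (∀ v ∈ W, c * v * c⁻¹ = v → v = 1 ∨ v = z) ∧
      ∀ v ∈ W, v ≠ 1 → v ≠ z → c * v * c⁻¹ = z * v := by
  classical
  obtain ⟨u, hu, hne⟩ := hm
  have hci : c⁻¹ = c := inv_eq_of_mul_eq_one_right hc2
  have hfix : ∀ v ∈ W, c * (c * v * c⁻¹ * v) * c⁻¹ = c * v * c⁻¹ * v := by
    intro v hv
    calc c * (c * v * c⁻¹ * v) * c⁻¹ = (c * c) * v * (c⁻¹ * v * c⁻¹) := by group
      _ = v * (c * v * c⁻¹) := by rw [hc2, one_mul, hci]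
      _ = c * v * c⁻¹ * v := (hWW _ (hc v hv) v hv).symm
  set z := c * u * c⁻¹ * u with hz
  have hzW : z ∈ W := mul_mem (hc u hu) hu
  have hz1 : z ≠ 1 := fun e => hne (by
    have := eq_inv_of_mul_eq_one_left e
    rw [this, inv_eq_of_mul_eq_one_right (hsq u hu)])
  let F : Subgroup G := W ⊓ Subgroup.centralizer ({c} : Set G)
  have hmem : ∀ v : G, v ∈ W → c * v * c⁻¹ = v → v ∈ F := fun v hv h =>
    ⟨hv, Subgroup.mem_centralizer_singleton_iff.2 (mul_inv_eq_iff_eq_mul.1 h).symm⟩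
  have hF2 : Nat.card F ≤ 2 := card_le_two_of_lt h4 inf_le_left fun e => by
    have hu' : u ∈ F := e.symm ▸ hu
    exact hne (mul_inv_eq_iff_eq_mul.2 (Subgroup.mem_centralizer_singleton_iff.1 hu'.2).symm)
  have hfixed : ∀ v ∈ W, c * v * c⁻¹ = v → v = 1 ∨ v = z := by
    intro v hv h
    by_contra hc'
    push Not at hc'
    have h3 : 3 ≤ Nat.card F := by
      haveI := Fintype.ofFinite F
      have hcard : ({1, ⟨v, hmem v hv h⟩, ⟨z, hmem z hzW (hfix u hu)⟩} : Finset F).card ≤ Nat.card F := by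
        rw [Nat.card_eq_fintype_card]; exact Finset.card_le_univ _
      rwa [Finset.card_insert_of_notMem, Finset.card_pair] at hcard
      · simpa [Subtype.ext_iff] using hc'.2
      · simp [Subtype.ext_iff, Ne.symm hc'.1, Ne.symm hz1]
    omega
  refine ⟨z, hzW, hz1, hfix u hu, hfixed, fun v hv hv1 hvz => ?_⟩
  rcases hfixed _ (mul_mem (hc v hv) hv) (hfix v hv) with h | h
  · have h' : c * v * c⁻¹ = v := by
      rw [eq_inv_of_mul_eq_one_left h, inv_eq_of_mul_eq_one_right (hsq v hv)]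
    rcases hfixed v hv h' with e | e
    exacts [absurd e hv1, absurd e hvz]
  · calc c * v * c⁻¹ = c * v * c⁻¹ * v * v := by rw [mul_assoc _ v v, hsq v hv, mul_one]
      _ = z * v := by rw [h]

/-- Two commuting involutions moving a four-group act on it in the same way. -/
theorem mul_fixes_four {W : Subgroup G} (h4 : Nat.card W = 4) (hsq : ∀ v ∈ W, v * v = 1)
    (hWW : ∀ x ∈ W, ∀ y ∈ W, x * y = y * x) {a b : G}
    (ha : ∀ w ∈ W, a * w * a⁻¹ ∈ W) (hb : ∀ w ∈ W, b * w * b⁻¹ ∈ W)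
    (hab : a * b = b * a) (ha2 : a * a = 1) (hb2 : b * b = 1)
    (hma : ∃ w ∈ W, a * w * a⁻¹ ≠ w) (hmb : ∃ w ∈ W, b * w * b⁻¹ ≠ w) :
    ∀ w ∈ W, (a * b) * w * (a * b)⁻¹ = w := by
  obtain ⟨z, hz, hz1, hzf, hfa, hswa⟩ := four_involution h4 hsq hWW ha ha2 hma
  obtain ⟨z', hz', hz'1, hz'f, hfb, hswb⟩ := four_involution h4 hsq hWW hb hb2 hmb
  have e : z = z' := by
    have h1 : b * z * b⁻¹ = z := by
      refine (hfa _ (hb z hz) ?_).resolve_left fun e => hz1 (conj_eq_one_iff.1 e)
      calc a * (b * z * b⁻¹) * a⁻¹ = (a * b) * z * (a * b)⁻¹ := by group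
        _ = (b * a) * z * (b * a)⁻¹ := by rw [hab]
        _ = b * (a * z * a⁻¹) * b⁻¹ := by group
        _ = b * z * b⁻¹ := by rw [hzf]
    exact (hfb z hz h1).resolve_left hz1
  subst e
  intro w hw
  rw [show (a * b) * w * (a * b)⁻¹ = a * (b * w * b⁻¹) * a⁻¹ by group]
  rcases eq_or_ne w 1 with rfl | hw1
  · simp
  rcases eq_or_ne w z with rfl | hwz
  · rw [hz'f, hzf]
  rw [hswb w hw hw1 hwz, show a * (z * w) * a⁻¹ = (a * z * a⁻¹) * (a * w * a⁻¹) by group, hzf,
    hswa w hw hw1 hwz, ← mul_assoc, hsq z hz, one_mul]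

/-- An elementary abelian group of largest order does not permute independent four-groups. -/
theorem orbit_le_normalizer {A U W : Subgroup G} {g : G} (hA : CfsgLib.Transfer.IsAbExp 2 A)
    (hU : CfsgLib.Transfer.IsAbExp 2 U) (hAU : A ≤ Subgroup.normalizer (U : Set G)) (hWU : W ≤ U)
    (h4 : Nat.card W = 4) (hfpf : ∀ w ∈ W, g * w = w * g → w = 1)
    (hoth : ∀ a ∈ A, a ∉ Subgroup.normalizer (W : Set G) → ∀ w ∈ W, g * (a * w * a⁻¹) = a * w * a⁻¹ * g)
    (hmax : ∀ B : Subgroup G, CfsgLib.Transfer.IsAbExp 2 B → B ≤ A ⊔ U → Nat.card B ≤ Nat.card A) :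
    A ≤ Subgroup.normalizer (W : Set G) := by
  classical
  have hUc : ∀ x ∈ U, ∀ y ∈ U, x * y = y * x := fun x hx y hy =>
    congrArg Subtype.val (hU.1.is_comm.comm ⟨x, hx⟩ ⟨y, hy⟩)
  have hAc : ∀ x ∈ A, ∀ y ∈ A, x * y = y * x := fun x hx y hy =>
    congrArg Subtype.val (hA.1.is_comm.comm ⟨x, hx⟩ ⟨y, hy⟩)
  have hsqA : ∀ a ∈ A, a * a = 1 := fun a ha => by rw [← pow_two]; exact hA.2 a ha
  have hsqW : ∀ v ∈ W, v * v = 1 := fun v hv => by rw [← pow_two]; exact hU.2 v (hWU hv)
  have hWW : ∀ x ∈ W, ∀ y ∈ W, x * y = y * x := fun x hx y hy => hUc x (hWU hx) y (hWU hy)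
  letI : CommGroup U := { (inferInstance : Group U) with mul_comm := fun x y => Subtype.ext (hUc x x.2 y y.2) }
  set SA := A ⊓ Subgroup.normalizer (W : Set G) with hSA
  let ι := ↥A ⧸ SA.subgroupOf A
  haveI : Fintype ι := Fintype.ofFinite ι
  let r : ι → G := fun i => ((Quotient.out i : A) : G)
  have hr : ∀ i, r i ∈ A := fun i => (Quotient.out i : A).2
  have hrU : ∀ i, ∀ w : W, r i * w * (r i)⁻¹ ∈ U := fun i w =>
    (Subgroup.mem_normalizer_iff.1 (hAU (hr i)) w).1 (hWU w.2)
  have hrne : ∀ i j, i ≠ j → (r i)⁻¹ * r j ∉ Subgroup.normalizer (W : Set G) := by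
    intro i j hij hmem
    refine hij ?_
    rw [← QuotientGroup.out_eq' i, ← QuotientGroup.out_eq' j]
    refine QuotientGroup.eq.2 ?_
    show (r i)⁻¹ * r j ∈ SA
    exact Subgroup.mem_inf.2 ⟨A.mul_mem (A.inv_mem (hr i)) (hr j), hmem⟩
  -- the product map
  let φ : (ι → W) →* U :=
    { toFun := fun f => ∏ i, (⟨r i * f i * (r i)⁻¹, hrU i (f i)⟩ : U)
      map_one' := Finset.prod_eq_one fun i _ => Subtype.ext (by simp)
      map_mul' := fun f f' => by
        rw [← Finset.prod_mul_distrib]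
        refine Finset.prod_congr rfl fun i _ => Subtype.ext ?_
        show r i * ((f i : G) * f' i) * (r i)⁻¹ = r i * f i * (r i)⁻¹ * (r i * f' i * (r i)⁻¹)
        group }
  -- the component of `i` is detected by the conjugate of `g`
  have hcomp : ∀ (f : ι → W) i, (r i * g * (r i)⁻¹) * (φ f : G) = (φ f : G) * (r i * g * (r i)⁻¹) → f i = 1 := by
    intro f i hc
    set gi := r i * g * (r i)⁻¹ with hgi
    let C : Subgroup U := (Subgroup.centralizer ({gi} : Set G)).comap U.subtype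
    have hrest : (∏ j ∈ Finset.univ.erase i, (⟨r j * f j * (r j)⁻¹, hrU j (f j)⟩ : U)) ∈ C := by
      refine Subgroup.prod_mem _ fun j hj => ?_
      rw [Subgroup.mem_comap, Subgroup.mem_centralizer_singleton_iff]
      show r j * f j * (r j)⁻¹ * gi = gi * (r j * f j * (r j)⁻¹)
      have h := hoth _ (mul_mem (inv_mem (hr i)) (hr j)) (hrne i j (Ne.symm (Finset.ne_of_mem_erase hj))) _ (f j).2
      have h' := congrArg (fun x => r i * x * (r i)⁻¹) h
      rw [hgi]
      simpa [mul_assoc] using h'.symm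
    have htot : φ f ∈ C := by
      rw [Subgroup.mem_comap, Subgroup.mem_centralizer_singleton_iff]; exact hc.symm
    have hi : (⟨r i * f i * (r i)⁻¹, hrU i (f i)⟩ : U) ∈ C := by
      have e : φ f = (⟨r i * f i * (r i)⁻¹, hrU i (f i)⟩ : U) *
          ∏ j ∈ Finset.univ.erase i, (⟨r j * f j * (r j)⁻¹, hrU j (f j)⟩ : U) :=
        (Finset.mul_prod_erase Finset.univ (fun j => (⟨r j * f j * (r j)⁻¹, hrU j (f j)⟩ : U)) (Finset.mem_univ i)).symm
      rw [e] at htot
      exact (Subgroup.mul_mem_cancel_right _ hrest).1 htot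
    rw [Subgroup.mem_comap, Subgroup.mem_centralizer_singleton_iff] at hi
    have h2 := congrArg (fun x => (r i)⁻¹ * x * r i) hi
    refine Subtype.ext (hfpf _ (f i).2 ?_)
    simpa [hgi, mul_assoc] using h2.symm
  have hinj : Function.Injective φ := by
    rw [injective_iff_map_eq_one]
    intro f hf
    funext i
    exact hcomp f i (by simp [hf])
  set U₀ := φ.range.map U.subtype with hU₀
  have hU₀U : U₀ ≤ U := Subgroup.map_subtype_le _
  have hcardU₀ : Nat.card U₀ = 4 ^ Nat.card ι := by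
    rw [hU₀, Subgroup.card_map_of_injective U.subtype_injective,
      ← Nat.card_congr (MonoidHom.ofInjective hinj).toEquiv, Nat.card_pi, Finset.prod_const, h4,
      Finset.card_univ, Nat.card_eq_fintype_card]
  -- the centralizer
  set C := A ⊓ Subgroup.centralizer (W : Set G) with hC
  have hCU₀ : ∀ c ∈ C, ∀ x ∈ U₀, c * x = x * c := by
    rintro c ⟨hcA, hcW⟩ x hx
    obtain ⟨_, ⟨f, rfl⟩, rfl⟩ := hx
    have : φ f ∈ (Subgroup.centralizer ({c} : Set G)).comap U.subtype := by
      refine Subgroup.prod_mem _ fun j _ => ?_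
      rw [Subgroup.mem_comap, Subgroup.mem_centralizer_singleton_iff]
      show r j * f j * (r j)⁻¹ * c = c * (r j * f j * (r j)⁻¹)
      have h1 : Commute c (r j) := hAc c hcA _ (hr j)
      have h2 : Commute c (f j : G) := (Subgroup.mem_centralizer_iff.1 hcW _ (f j).2).symm
      exact ((h1.mul_right h2).mul_right h1.inv_right).symm
    exact (Subgroup.mem_centralizer_singleton_iff.1 this).symm
  have hB : CfsgLib.Transfer.IsAbExp 2 (C ⊔ U₀) :=
    isAbExp_sup (isAbExp_mono hA inf_le_left) (isAbExp_mono hU hU₀U) hCU₀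
  have hBA := hmax _ hB (sup_le_sup inf_le_left hU₀U)
  -- counting
  have hlag : ∀ {H K : Subgroup G}, H ≤ K → Nat.card H * H.relIndex K = Nat.card K := fun {H K} h => by
    simpa using Subgroup.relIndex_mul_relIndex ⊥ H K bot_le h
  have key : Nat.card C * Nat.card U₀ ≤ Nat.card A * Nat.card (C ⊓ U₀ : Subgroup G) := by
    have h1 : Nat.card (C ⊓ U₀ : Subgroup G) * C.relIndex U₀ = Nat.card U₀ := by
      rw [← Subgroup.inf_relIndex_right]; exact hlag inf_le_right
    have h2 : C.relIndex U₀ ≤ C.relIndex (C ⊔ U₀) :=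
      Subgroup.relIndex_le_of_le_right le_sup_right (fun h => Nat.card_pos.ne' (by simpa [h] using (hlag (le_sup_left : C ≤ C ⊔ U₀)).symm))
    have h3 : Nat.card C * C.relIndex (C ⊔ U₀) = Nat.card (C ⊔ U₀ : Subgroup G) :=
      hlag le_sup_left
    calc Nat.card C * Nat.card U₀ = Nat.card (C ⊓ U₀ : Subgroup G) * (Nat.card C * C.relIndex U₀) := by
          rw [← h1]; ring
      _ ≤ Nat.card (C ⊓ U₀ : Subgroup G) * (Nat.card C * C.relIndex (C ⊔ U₀)) :=
          Nat.mul_le_mul_left _ (Nat.mul_le_mul_left _ h2)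
      _ ≤ _ := by rw [h3, mul_comm (Nat.card A)]; exact Nat.mul_le_mul_left _ hBA
  have hA' : Nat.card A = Nat.card ι * Nat.card SA := by
    rw [Subgroup.card_eq_card_quotient_mul_card_subgroup (SA.subgroupOf A),
      Nat.card_congr (Subgroup.subgroupOfEquivOfLe (inf_le_left : SA ≤ A)).toEquiv]
  -- the fixed points inside `C ⊓ U₀`
  let i₀ : ι := ((1 : A) : ι)
  let D : Subgroup (ι → W) := (C ⊓ U₀).comap (U.subtype.comp φ)
  have hD : Nat.card D = Nat.card (C ⊓ U₀ : Subgroup G) := by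
    refine Nat.card_congr (Equiv.ofBijective (fun f => ⟨_, f.2⟩) ⟨fun f f' e => ?_, fun x => ?_⟩)
    · exact Subtype.ext (hinj (Subtype.ext (congrArg Subtype.val e :)))
    · obtain ⟨u, ⟨f, rfl⟩, e⟩ := x.2.2
      refine ⟨⟨f, ?_⟩, Subtype.ext e⟩
      show (φ f : G) ∈ C ⊓ U₀
      rw [show (φ f : G) = x from e]; exact x.2
  let ev : D →* W := (Pi.evalMonoidHom (fun _ : ι => ↥W) i₀).comp D.subtype
  have hev : Function.Injective ev := by
    rw [injective_iff_map_eq_one]
    intro f hf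
    have hf0 : (f : ι → W) i₀ = 1 := hf
    have hxA : ∀ a ∈ A, a * (φ f : G) = (φ f : G) * a := fun a ha => hAc a ha _ f.2.1.1
    have hrest : (φ (f : ι → W)) ∈ (Subgroup.centralizer ({g} : Set G)).comap U.subtype := by
      refine Subgroup.prod_mem _ fun j _ => ?_
      rw [Subgroup.mem_comap, Subgroup.mem_centralizer_singleton_iff]
      show r j * (f : ι → W) j * (r j)⁻¹ * g = g * (r j * (f : ι → W) j * (r j)⁻¹)
      rcases eq_or_ne j i₀ with rfl | hj
      · rw [hf0]; simp
      · refine (hoth _ (hr j) (fun h => hj ?_) _ ((f : ι → W) j).2).symm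
        rw [← QuotientGroup.out_eq' j]
        refine QuotientGroup.eq.2 ?_
        show (r j)⁻¹ * (1 : G) ∈ SA
        rw [mul_one]
        exact Subgroup.mem_inf.2 ⟨A.inv_mem (hr j), (Subgroup.normalizer (W : Set G)).inv_mem h⟩
    have hgx : g * (φ f : G) = (φ f : G) * g := (Subgroup.mem_centralizer_singleton_iff.1 hrest).symm
    refine Subtype.ext (funext fun i => hcomp _ i ?_)
    have h1 : Commute (r i) (φ (f : ι → W) : G) := hxA _ (hr i)
    exact ((h1.mul_left (show Commute g _ from hgx)).mul_left h1.inv_left)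
  have hfix : ∀ f : D, ∀ b ∈ SA, b * (ev f : G) * b⁻¹ = (ev f : G) := by
    rintro f b ⟨hbA, hbW⟩
    let f' : ι → W := fun i => ⟨b * (f : ι → W) i * b⁻¹, (Subgroup.mem_normalizer_iff.1 hbW _).1 ((f : ι → W) i).2⟩
    let β : U →* U :=
      { toFun := fun u => ⟨b * u * b⁻¹, (Subgroup.mem_normalizer_iff.1 (hAU hbA) _).1 u.2⟩
        map_one' := Subtype.ext (by simp)
        map_mul' := fun u v => Subtype.ext (by
          show b * ((u : G) * v) * b⁻¹ = b * u * b⁻¹ * (b * v * b⁻¹)
          group) }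
    have e1 : β (φ f) = φ f' := by
      show β (∏ i, _) = ∏ i, _
      rw [map_prod]
      refine Finset.prod_congr rfl fun i _ => Subtype.ext ?_
      show b * (r i * (f : ι → W) i * (r i)⁻¹) * b⁻¹ = r i * (b * (f : ι → W) i * b⁻¹) * (r i)⁻¹
      have h1 : b * r i = r i * b := hAc b hbA _ (hr i)
      calc b * (r i * (f : ι → W) i * (r i)⁻¹) * b⁻¹ = (b * r i) * (f : ι → W) i * (b * r i)⁻¹ := by group
        _ = _ := by rw [h1]; group
    have e2 : β (φ f) = φ f := Subtype.ext (by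
      show b * (φ f : G) * b⁻¹ = φ f
      exact mul_inv_eq_iff_eq_mul.2 (hAc b hbA _ f.2.1.1))
    exact congrArg Subtype.val (congrFun (hinj (e1.symm.trans e2)) i₀)
  -- the case analysis
  have hbound : Nat.card SA * Nat.card (C ⊓ U₀ : Subgroup G) ≤ 4 * Nat.card C := by
    rw [← hD]
    by_cases hall : SA ≤ C
    · calc Nat.card SA * Nat.card D ≤ Nat.card C * 4 :=
            Nat.mul_le_mul (Subgroup.card_le_of_le hall) (h4 ▸ Nat.card_le_card_of_injective _ hev)
        _ = 4 * Nat.card C := mul_comm _ _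
    · obtain ⟨b, hb, hbC⟩ := SetLike.not_le_iff_exists.1 hall
      have hmove : ∀ c ∈ SA, c ∉ C → ∃ w ∈ W, c * w * c⁻¹ ≠ w := by
        intro c hc hcC
        by_contra h
        push Not at h
        exact hcC ⟨hc.1, Subgroup.mem_centralizer_iff.2 fun w hw => (mul_inv_eq_iff_eq_mul.1 (h w hw)).symm⟩
      have hnorm : ∀ c ∈ SA, ∀ w ∈ W, c * w * c⁻¹ ∈ W := fun c hc w hw =>
        (Subgroup.mem_normalizer_iff.1 hc.2 w).1 hw
      have h2 : Nat.card SA ≤ 2 * Nat.card C := by
        let h : SA → C × Bool := fun a => if ha : (a : G) ∈ C then (⟨a, ha⟩, true)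
          else (⟨a * b, mul_mem a.2.1 hb.1, Subgroup.mem_centralizer_iff.2 fun w hw =>
            (mul_inv_eq_iff_eq_mul.1 (mul_fixes_four h4 hsqW hWW (hnorm _ a.2) (hnorm _ hb)
              (hAc _ a.2.1 _ hb.1) (hsqA _ a.2.1) (hsqA _ hb.1) (hmove _ a.2 ha) (hmove _ hb hbC) w hw)).symm⟩, false)
        have hh : Function.Injective h := by
          intro a a' e
          simp only [h] at e
          split_ifs at e with h1 h1' h1'
          · exact Subtype.ext (congrArg (fun x : C × Bool => (x.1 : G)) e :)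
          · exact absurd (congrArg Prod.snd e) (by simp)
          · exact absurd (congrArg Prod.snd e) (by simp)
          · exact Subtype.ext (mul_right_cancel (congrArg (fun x : C × Bool => (x.1 : G)) e :))
        have := Nat.card_le_card_of_injective h hh
        rwa [Nat.card_prod, Nat.card_eq_fintype_card (α := Bool), Fintype.card_bool, mul_comm] at this
      have h3 : Nat.card D ≤ 2 := by
        let Fb : Subgroup G := W ⊓ Subgroup.centralizer ({b} : Set G)
        have hF : Nat.card Fb ≤ 2 := card_le_two_of_lt h4 inf_le_left fun e => by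
          obtain ⟨w, hw, hne⟩ := hmove b hb hbC
          have hw' : w ∈ Fb := e.symm ▸ hw
          exact hne (mul_inv_eq_iff_eq_mul.2 (Subgroup.mem_centralizer_singleton_iff.1 hw'.2).symm)
        refine le_trans (Nat.card_le_card_of_injective (fun f : D => (⟨(ev f : G), (ev f).2,
          Subgroup.mem_centralizer_singleton_iff.2 (mul_inv_eq_iff_eq_mul.1 (hfix f b hb)).symm⟩ : Fb)) ?_) hF
        intro f f' e
        exact hev (Subtype.ext (congrArg (fun x : Fb => (x : G)) e))
      calc Nat.card SA * Nat.card D ≤ 2 * Nat.card C * 2 := Nat.mul_le_mul h2 h3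
        _ = 4 * Nat.card C := by ring
  have hfin : 4 ^ Nat.card ι ≤ 4 * Nat.card ι := by
    have hpos : 0 < Nat.card C := Nat.card_pos
    refine Nat.le_of_mul_le_mul_left ?_ hpos
    calc Nat.card C * 4 ^ Nat.card ι = Nat.card C * Nat.card U₀ := by rw [hcardU₀]
      _ ≤ Nat.card A * Nat.card (C ⊓ U₀ : Subgroup G) := key
      _ = Nat.card ι * (Nat.card SA * Nat.card (C ⊓ U₀ : Subgroup G)) := by rw [hA', mul_assoc]
      _ ≤ Nat.card ι * (4 * Nat.card C) := Nat.mul_le_mul_left _ hbound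
      _ = Nat.card C * (4 * Nat.card ι) := by ring
  have hone : Nat.card ι ≤ 1 := by
    by_contra hlt
    have : ∀ n, 2 ≤ n → 4 * n < 4 ^ n := by
      intro n hn
      induction n, hn using Nat.le_induction with
      | base => norm_num
      | succ n hn ih => rw [pow_succ]; omega
    have := this _ (by omega : 2 ≤ Nat.card ι)
    omega
  intro a ha
  haveI : Subsingleton ι := Finite.card_le_one_iff_subsingleton.1 hone
  have h := QuotientGroup.eq.1 (Subsingleton.elim ((1 : A) : ι) ((⟨a, ha⟩ : A) : ι))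
  simpa [Subgroup.mem_subgroupOf, hSA, ha] using h

end CfsgLib.JComp
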