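import Cfsg.Agent.Lib.JComp.Zero
import Cfsg.Agent.Lib.JComp.Orbit
import Cfsg.Agent.Lib.JComp.FourPair

/-!
# A component of a conjugate inside a member of `ℒ(T)`
-/

set_option autoImplicit false
set_option linter.style.haveILetI false

namespace CfsgLib.JComp

open scoped commutatorElement

universe u

variable {G : Type u} [Group G] [Finite G]

/-- A group normalizes the subgroup if it maps it into itself. -/
theorem mem_normalizer_of_le {W : Subgroup G} {a : G} (h : ∀ w ∈ W, a * w * a⁻¹ ∈ W) :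
    a ∈ Subgroup.normalizer (W : Set G) := by
  have e : W.map (MulAut.conj a).toMonoidHom = W := by
    refine Subgroup.eq_of_le_of_card_ge ?_ (Subgroup.card_map_of_injective (MulAut.conj a).injective).ge
    rintro _ ⟨w, hw, rfl⟩; exact h w hw
  refine Subgroup.mem_normalizer_iff.2 fun x => ⟨h x, fun hx => ?_⟩
  obtain ⟨y, hy, hy'⟩ := e.symm.le hx
  rwa [mul_left_cancel (mul_right_cancel (show a * y * a⁻¹ = a * x * a⁻¹ from hy'))] at hy

/-- In a Sylow situation inside `L`, the maximal elementary abelian subgroups are largest in `L`. -/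
theorem card_le_in {T L A B : Subgroup G} (hT : Cfsg.IsSylowTwoIn T L) (hA : A ∈ CfsgLib.Transfer.maxAbExp 2 T)
    (hB : CfsgLib.Transfer.IsAbExp 2 B) (hBL : B ≤ L) : Nat.card B ≤ Nat.card A := by
  haveI : Fact (Nat.Prime 2) := ⟨Nat.prime_two⟩
  obtain ⟨hTL, hTp, hodd⟩ := hT
  let P : Sylow 2 L := (hTp.comap_of_injective L.subtype L.subtype_injective :
    IsPGroup 2 (T.subgroupOf L)).toSylow (fun h => Nat.not_even_iff_odd.2 hodd (even_iff_two_dvd.2 h))
  have hinj : ∀ X : Subgroup L, Set.InjOn L.subtype (X : Set L) := fun X => L.subtype_injective.injOn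
  have hAL : A ≤ L := hA.1.trans hTL
  have hcard : ∀ X : Subgroup G, X ≤ L → Nat.card (X.subgroupOf L) = Nat.card X := fun X h =>
    Nat.card_congr (Subgroup.subgroupOfEquivOfLe h).toEquiv
  have hexp : ∀ X : Subgroup G, X ≤ L → CfsgLib.Transfer.IsAbExp 2 X → CfsgLib.Transfer.IsAbExp 2 (X.subgroupOf L) := by
    intro X hX h
    rw [← CfsgLib.Transfer.isAbExp_map_iff 2 L.subtype (hinj _), Subgroup.map_subgroupOf_eq_of_le hX]
    exact h
  have hA' : A.subgroupOf L ∈ CfsgLib.Transfer.maxAbExp 2 (P : Subgroup L) := by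
    refine ⟨fun x hx => hA.1 hx, hexp A hAL hA.2.1, fun X hX hXe => ?_⟩
    rw [hcard A hAL, ← Subgroup.card_map_of_injective L.subtype_injective]
    refine hA.2.2 _ ?_ ((CfsgLib.Transfer.isAbExp_map_iff 2 L.subtype (hinj _)).2 hXe)
    rintro _ ⟨x, hx, rfl⟩; exact hX hx
  have := card_le_of_sylow P hA' (hexp B hBL hB)
  rwa [hcard B hBL, hcard A hAL] at this

/-- Conjugates of `W` inside `M` are centralized by `g` unless they equal `W`. -/
theorem centralizes_conjugates {T' K M : Subgroup G} (S : Setting T' K) (hKM : K ≤ M)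
    (hs : (K.subgroupOf M).IsSubnormal) {g : G} (hgK : g ∈ K) (hg : Moves g (Cfsg.wOf K)) :
    Cfsg.wOf K ≤ Cfsg.omegaCenterOf (Cfsg.pCoreOf 2 M) ∧
    ∀ a ∈ M, a ∉ Subgroup.normalizer (Cfsg.wOf K : Set G) → ∀ w ∈ Cfsg.wOf K,
      g * (a * w * a⁻¹) = a * w * a⁻¹ * g := by
  classical
  haveI : Fact (Nat.Prime 2) := ⟨Nat.prime_two⟩
  haveI : Fact (Nat.Prime 3) := ⟨Nat.prime_three⟩
  set W := Cfsg.wOf K with hW
  set Q := Cfsg.pCoreOf 2 M with hQ
  have hQM : Q ≤ M := CfsgLib.Signalizer.pCoreOf_le 2 M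
  have hMQ : M ≤ Subgroup.normalizer (Q : Set G) :=
    CfsgLib.Signalizer.normalizer_le_normalizer_pCoreOf 2 Subgroup.le_normalizer
  have hQp : IsPGroup 2 Q := CfsgLib.PReduced.isPGroup_pCoreOf 2 M
  have hQK : Q ≤ Subgroup.normalizer (K : Set G) := le_normalizer_of_subnormal hKM hQM hs S.hK.1 hQp hMQ
  have hO2 : Cfsg.pCoreOf 2 K ≤ Q := pCoreOf_le_of_subnormal hKM hs
  have hQW : ∀ q ∈ Q, ∀ w ∈ W, q * w = w * q :=
    hg.centralizes_of_normalizes S.card_W hQp
      (fun q hq w hw => (Subgroup.mem_normalizer_iff.1 (normalizer_le_normalizer_wOf K (hQK hq)) w).1 hw)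
      (fun q hq => (Subgroup.mem_normalizer_iff''.1 (hMQ (hKM hgK)) q).1 hq)
  have hW2 : ∀ w ∈ W, w * w = 1 := fun w hw => S.hK.2.2.2.2.2 w hw
  set U := Cfsg.omegaCenterOf Q with hU
  have hWU : W ≤ U := fun w hw => mem_omegaCenterOf (hO2 (W_le_omega.trans omega_le_Q hw))
    (fun q hq => hQW q hq w hw) (hW2 w hw)
  refine ⟨hWU, ?_⟩
  have hMU : M ≤ Subgroup.normalizer (U : Set G) := hMQ.trans (normalizer_le_normalizer_omegaCenterOf Q)
  have hUc : ∀ x ∈ U, ∀ y ∈ U, x * y = y * x := fun x hx y hy =>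
    omegaCenterOf_comm hy (omegaCenterOf_le Q hx)
  -- `[U, K] ≤ W`
  have hUK : ∀ k ∈ K, ∀ u ∈ U, k * u * k⁻¹ * u⁻¹ ∈ W := by
    suffices H : ∀ k ∈ Subgroup.closure {x : G | x ∈ K ∧ Odd (orderOf x)},
        k ∈ K ∧ ∀ u ∈ U, k * u * k⁻¹ * u⁻¹ ∈ W from fun k hk => (H k (by rw [S.hK.1]; exact hk)).2
    intro k hk
    induction hk using Subgroup.closure_induction with
    | mem k hk =>
      obtain ⟨hkK, n, hn⟩ := hk
      refine ⟨hkK, fun u hu => ?_⟩
      have hkU := hMU (hKM hkK)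
      set c := k * u * k⁻¹ * u⁻¹ with hc
      have hcU : c ∈ U := mul_mem ((Subgroup.mem_normalizer_iff.1 hkU u).1 hu) (inv_mem hu)
      have hcK : c ∈ K := by
        rw [show c = k * (u * k⁻¹ * u⁻¹) by rw [hc]; group]
        exact mul_mem hkK ((Subgroup.mem_normalizer_iff.1 (hQK (omegaCenterOf_le Q hu)) _).1 (inv_mem hkK))
      have hcO : c ∈ Cfsg.pCoreOf 2 K := by
        have hn' : ((U ⊓ K).subgroupOf K).Normal :=
          (Subgroup.normal_subgroupOf_iff_le_normalizer inf_le_right).2 fun x hx =>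
            mem_normalizer_of_le fun y hy => Subgroup.mem_inf.2
              ⟨(Subgroup.mem_normalizer_iff.1 (hMU (hKM hx)) y).1 hy.1,
                K.mul_mem (K.mul_mem hx hy.2) (K.inv_mem hx)⟩
        have h := CfsgLib.Fitting.le_pCore (G := ↥K) hn'
          ((hQp.to_le (inf_le_left.trans (omegaCenterOf_le Q) : U ⊓ K ≤ Q)).comap_of_injective
            K.subtype K.subtype_injective)
        exact ⟨⟨c, hcK⟩, h (Subgroup.mem_inf.2 ⟨hcU, hcK⟩ : c ∈ U ⊓ K), rfl⟩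
      have hcV : c ∈ Cfsg.omegaCenterOf (Cfsg.pCoreOf 2 K) :=
        mem_omegaCenterOf hcO (fun y hy => omegaCenterOf_comm hcU (hO2 hy)) (omegaCenterOf_sq hcU)
      have hd : k * c * k⁻¹ * c⁻¹ ∈ W := by
        have h : ⁅c, k⁆ ∈ W := Subgroup.commutator_mem_commutator hcV hkK
        rw [show k * c * k⁻¹ * c⁻¹ = ⁅c, k⁆⁻¹ by simp only [commutatorElement_def]; group]
        exact inv_mem h
      set d := k * c * k⁻¹ * c⁻¹ with hd'
      have hiter : ∀ m : ℕ, ∃ w ∈ W, k ^ m * u * (k ^ m)⁻¹ = w * c ^ m * u := by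
        intro m
        induction m with
        | zero => exact ⟨1, one_mem _, by simp⟩
        | succ m ih =>
          obtain ⟨w, hw, e⟩ := ih
          refine ⟨k * w * k⁻¹ * d ^ m, mul_mem (S.normalizes_W (Subgroup.mem_sup_left hkK) hw) (pow_mem hd m), ?_⟩
          have hkc : k * c * k⁻¹ = d * c := by rw [hd']; group
          have hcomm : Commute d c := hUc _ (hWU hd) _ hcU
          have hpow : k * c ^ m * k⁻¹ = d ^ m * c ^ m := by
            rw [← conj_pow, hkc, hcomm.mul_pow]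
          calc k ^ (m + 1) * u * (k ^ (m + 1))⁻¹ = k * (k ^ m * u * (k ^ m)⁻¹) * k⁻¹ := by rw [pow_succ']; group
            _ = k * w * k⁻¹ * (k * c ^ m * k⁻¹) * (k * u * k⁻¹) := by rw [e]; group
            _ = k * w * k⁻¹ * (d ^ m * c ^ m) * (c * u) := by rw [hpow, hc]; group
            _ = _ := by rw [pow_succ]; group
      obtain ⟨w, hw, e⟩ := hiter (orderOf k)
      rw [pow_orderOf_eq_one, one_mul, inv_one, mul_one, hn, pow_succ, pow_mul, pow_two,
        omegaCenterOf_sq hcU, one_pow, one_mul] at e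
      have : w * c = 1 := mul_right_cancel (b := u) (by rw [one_mul]; exact e.symm)
      rw [eq_inv_of_mul_eq_one_right this]
      exact inv_mem hw
    | one => exact ⟨one_mem _, fun u _ => by simp⟩
    | mul k l _ _ ihk ihl =>
      refine ⟨mul_mem ihk.1 ihl.1, fun u hu => ?_⟩
      rw [show k * l * u * (k * l)⁻¹ * u⁻¹ = k * (l * u * l⁻¹ * u⁻¹) * k⁻¹ * (k * u * k⁻¹ * u⁻¹) by group]
      exact mul_mem (S.normalizes_W (Subgroup.mem_sup_left ihk.1) (ihl.2 u hu)) (ihk.2 u hu)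
    | inv k _ ih =>
      refine ⟨inv_mem ih.1, fun u hu => ?_⟩
      rw [show k⁻¹ * u * k⁻¹⁻¹ * u⁻¹ = k⁻¹ * (k * u * k⁻¹ * u⁻¹)⁻¹ * k⁻¹⁻¹ by group]
      exact S.normalizes_W (Subgroup.mem_sup_left (inv_mem ih.1)) (inv_mem (ih.2 u hu))
  -- the normal closure of `W`
  set U₀ := Subgroup.closure {x : G | ∃ m ∈ M, ∃ w ∈ W, x = m * w * m⁻¹} with hU₀
  have hU₀U : U₀ ≤ U := (Subgroup.closure_le _).2 fun x ⟨m, hm, w, hw, e⟩ =>
    e ▸ (Subgroup.mem_normalizer_iff.1 (hMU hm) w).1 (hWU hw)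
  have hWU₀ : W ≤ U₀ := fun w hw => Subgroup.subset_closure ⟨1, one_mem _, w, hw, by simp⟩
  have hMU₀ : ∀ m ∈ M, ∀ x ∈ U₀, m * x * m⁻¹ ∈ U₀ := by
    intro m hm
    suffices U₀ ≤ U₀.comap (MulAut.conj m).toMonoidHom from fun x hx => this hx
    refine (Subgroup.closure_le _).2 ?_
    rintro x ⟨n, hn, w, hw, rfl⟩
    exact Subgroup.subset_closure ⟨m * n, mul_mem hm hn, w, hw, by simp [mul_assoc]⟩
  letI : CommGroup U₀ := { (inferInstance : Group U₀) with
    mul_comm := fun x y => Subtype.ext (hUc x (hU₀U x.2) y (hU₀U y.2)) }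
  haveI : Finite (MulAut U₀) := Finite.of_injective (fun e => (e : U₀ → U₀)) DFunLike.coe_injective
  let ρ : M →* MulAut U₀ :=
    { toFun := fun m =>
        { toFun := fun x => ⟨m * x * (m : G)⁻¹, hMU₀ m m.2 x x.2⟩
          invFun := fun x => ⟨(m : G)⁻¹ * x * m, by simpa using hMU₀ _ (inv_mem m.2) x x.2⟩
          left_inv := fun x => Subtype.ext (by simp [mul_assoc])
          right_inv := fun x => Subtype.ext (by simp [mul_assoc])
          map_mul' := fun x y => Subtype.ext (by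
            show (m : G) * ((x : G) * y) * (m : G)⁻¹ = m * x * (m : G)⁻¹ * (m * y * (m : G)⁻¹)
            group) }
      map_one' := MulEquiv.ext fun x => Subtype.ext (by simp)
      map_mul' := fun m n => MulEquiv.ext fun x => Subtype.ext (by
        show (m : G) * n * x * ((m : G) * n)⁻¹ = m * (n * x * (n : G)⁻¹) * (m : G)⁻¹
        group) }
  have hρ : ∀ (m : M) (x : U₀), ((ρ m x : U₀) : G) = m * x * (m : G)⁻¹ := fun m x => rfl
  let Kb : Subgroup ρ.range := (K.subgroupOf M).map ρ.rangeRestrict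
  have hKbs : Kb.IsSubnormal := hs.map (MonoidHom.rangeRestrict_surjective ρ)
  have hKb_mov : ∀ x ∈ Kb, ∀ e : U₀, (((x : MulAut U₀) e : U₀) : G) * (e : G)⁻¹ ∈ W := by
    rintro _ ⟨k, hk, rfl⟩ e
    exact hUK k hk e (hU₀U e.2)
  have hKb_gen : Subgroup.closure {x : ρ.range | x ∈ Kb ∧ Odd (orderOf x)} = Kb := by
    refine le_antisymm ((Subgroup.closure_le _).2 fun x hx => hx.1) ?_
    rintro _ ⟨k, hk, rfl⟩
    set Cl := Subgroup.closure {x : ρ.range | x ∈ Kb ∧ Odd (orderOf x)} with hCl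
    have : K ≤ (Cl.comap ρ.rangeRestrict).map M.subtype := by
      conv_lhs => rw [← S.hK.1]
      refine (Subgroup.closure_le _).2 fun x hx => ?_
      refine ⟨⟨x, hKM hx.1⟩, Subgroup.subset_closure ⟨⟨_, hx.1, rfl⟩, ?_⟩, rfl⟩
      refine hx.2.of_dvd_nat ?_
      have h := orderOf_map_dvd ρ.rangeRestrict ⟨x, hKM hx.1⟩
      exact h.trans (dvd_of_eq (Subgroup.orderOf_mk x (hKM hx.1)))
    obtain ⟨k', hk', e⟩ := this hk
    rwa [M.subtype_injective e] at hk'
  set gb : ρ.range := ρ.rangeRestrict ⟨g, hKM hgK⟩ with hgb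
  have hgbK : gb ∈ Kb := ⟨_, (hgK : (⟨g, hKM hgK⟩ : M) ∈ K.subgroupOf M), rfl⟩
  have hsurj : ∀ w ∈ W, ∃ v ∈ W, g * v * g⁻¹ * v⁻¹ = w := by
    let f : W → W := fun v => ⟨g * v * g⁻¹ * (v : G)⁻¹, mul_mem (hg.norm v v.2) (inv_mem v.2)⟩
    have hf : Function.Injective f := by
      intro v v' e
      have e' : g * v * g⁻¹ * (v : G)⁻¹ = g * v' * g⁻¹ * (v' : G)⁻¹ := congrArg Subtype.val e
      have h := hg.fpf ((v' : G)⁻¹ * v) (mul_mem (inv_mem v'.2) v.2) ?_
      · exact Subtype.ext (inv_mul_eq_one.1 h).symm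
      · have hc := hUc _ (hWU v.2) _ (hWU (inv_mem v'.2))
        refine mul_inv_eq_iff_eq_mul.1 ?_
        calc g * ((v' : G)⁻¹ * v) * g⁻¹ = (g * v' * g⁻¹)⁻¹ * (g * v * g⁻¹ * (v : G)⁻¹) * v := by group
          _ = (v' : G)⁻¹ * v := by rw [e']; group
    intro w hw
    obtain ⟨v, hv⟩ := (Finite.injective_iff_surjective.1 hf) ⟨w, hw⟩
    exact ⟨v, v.2, congrArg Subtype.val hv⟩
  -- the 2-core of the image is trivial
  have hR : Cfsg.pCore 2 ρ.range = ⊥ := by
    set R := Cfsg.pCore 2 ρ.range with hR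
    haveI hRn : R.Normal := CfsgLib.Fitting.pCore_normal 2
    have hRp : IsPGroup 2 R := CfsgLib.Fitting.pCore_isPGroup 2
    have hRK : R ≤ Subgroup.normalizer (Kb : Set ρ.range) :=
      le_normalizer_of_subnormal (M := ⊤) le_top le_top (hKbs.comap _) hKb_gen hRp
        (fun x _ => by rw [Subgroup.normalizer_eq_top]; trivial)
    have hRW : ∀ r : ρ.range, r ∈ R → ∀ w : U₀, (w : G) ∈ W → (((r : MulAut U₀) w : U₀) : G) ∈ W := by
      intro r hr w hw
      obtain ⟨v, hv, e⟩ := hsurj w hw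
      have hw' : w = (gb : MulAut U₀) ⟨v, hWU₀ hv⟩ * (⟨v, hWU₀ hv⟩ : U₀)⁻¹ := Subtype.ext e.symm
      rw [hw', map_mul, map_inv]
      have h := hKb_mov _ ((Subgroup.mem_normalizer_iff.1 (hRK hr) gb).1 hgbK) ((r : MulAut U₀) ⟨v, hWU₀ hv⟩)
      simpa using h
    let act : MulAction R (W.subgroupOf U₀) :=
      { smul := fun r w => ⟨((r : ρ.range) : MulAut U₀) w, hRW r r.2 w w.2⟩
        one_smul := fun w => Subtype.ext rfl
        mul_smul := fun a b w => Subtype.ext rfl }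
    have h1 : (1 : W.subgroupOf U₀) ∈ MulAction.fixedPoints R (W.subgroupOf U₀) := fun r =>
      Subtype.ext (map_one ((r : ρ.range) : MulAut U₀))
    obtain ⟨w, hwfix, hw1⟩ := hRp.exists_fixed_point_of_prime_dvd_card_of_fixed_point (α := W.subgroupOf U₀)
      (by rw [Nat.card_congr (Subgroup.subgroupOfEquivOfLe hWU₀).toEquiv, S.card_W]; norm_num) h1
    let F : Subgroup U₀ :=
      { carrier := {x | ∀ r ∈ R, (r : MulAut U₀) x = x}
        mul_mem' := fun {x y} hx hy r hr => by rw [map_mul, hx r hr, hy r hr]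
        one_mem' := fun r _ => map_one _
        inv_mem' := fun {x} hx r hr => by rw [map_inv, hx r hr] }
    have hFconj : ∀ (m : ρ.range) (x : U₀), x ∈ F → (m : MulAut U₀) x ∈ F := by
      intro m x hx r hr
      have h := hx _ (hRn.conj_mem' r hr m)
      have h' := congrArg (m : MulAut U₀) h
      simp only [Subgroup.coe_mul, InvMemClass.coe_inv, MulAut.mul_apply, MulAut.apply_inv_self] at h'
      exact h'
    have hwF : (w : U₀) ∈ F := fun r hr => congrArg Subtype.val (hwfix ⟨r, hr⟩)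
    have hWF : W ≤ F.map U₀.subtype :=
      hg.le_of_mem S.card_W w.2 (fun e => hw1 (Subtype.ext (Subtype.ext e.symm))) ⟨_, hwF, rfl⟩
        ⟨_, hFconj gb _ hwF, rfl⟩
    have hall : U₀ ≤ F.map U₀.subtype := by
      refine (Subgroup.closure_le _).2 ?_
      rintro _ ⟨m, hm, v, hv, rfl⟩
      obtain ⟨x, hx, rfl⟩ := hWF hv
      exact ⟨_, hFconj (ρ.rangeRestrict ⟨m, hm⟩) x hx, rfl⟩
    refine (Subgroup.eq_bot_iff_forall _).2 fun r hr => Subtype.ext (MulEquiv.ext fun x => ?_)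
    obtain ⟨y, hy, e⟩ := hall x.2
    rw [U₀.subtype_injective e] at hy
    simpa using hy r hr
  -- elements of `K` centralizing `W` act trivially
  let Cw : Subgroup ρ.range :=
    { carrier := {x | ∀ w : U₀, (w : G) ∈ W → (x : MulAut U₀) w = w}
      mul_mem' := fun {x y} hx hy w hw => by rw [Subgroup.coe_mul, MulAut.mul_apply, hy w hw, hx w hw]
      one_mem' := fun w _ => rfl
      inv_mem' := fun {x} hx w hw => by
        conv_lhs => rw [← hx w hw]
        rw [InvMemClass.coe_inv, MulAut.inv_apply_self] }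
  have hX : Kb ⊓ Cw ≤ ⊥ := by
    rw [← hR]
    refine Layer.le_pCore_of_isSubnormal (Subgroup.IsSubnormal.step _ Kb inf_le_left hKbs ?_) ?_
    · refine (Subgroup.normal_subgroupOf_iff_le_normalizer inf_le_left).2 fun x hx => ?_
      refine mem_normalizer_of_le fun y hy => Subgroup.mem_inf.2
        ⟨Kb.mul_mem (Kb.mul_mem hx hy.1) (Kb.inv_mem hx), fun w hw => ?_⟩
      have hw' : ((((x⁻¹ : ρ.range) : MulAut U₀) w : U₀) : G) ∈ W := by
        have h := mul_mem (hKb_mov _ (inv_mem hx) w) hw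
        rwa [inv_mul_cancel_right] at h
      simp only [Subgroup.coe_mul, MulAut.mul_apply]
      rw [hy.2 _ hw', InvMemClass.coe_inv, MulAut.apply_inv_self]
    · rintro ⟨x, hx⟩
      refine ⟨1, Subtype.ext (Subtype.ext (MulEquiv.ext fun e => ?_))⟩
      simp only [pow_one, pow_two, Subgroup.coe_mul, MulAut.mul_apply, OneMemClass.coe_one, MulAut.one_apply]
      have hc := hKb_mov _ hx.1 e
      set c : U₀ := (x : MulAut U₀) e * e⁻¹ with hce
      have e1 : (x : MulAut U₀) e = c * e := by rw [hce, inv_mul_cancel_right]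
      rw [e1, map_mul, e1, hx.2 c hc, ← mul_assoc]
      have : c * c = 1 := Subtype.ext (hW2 _ hc)
      rw [this, one_mul]
  -- the image of `K` has exponent 3
  have hexp : ∀ x ∈ Kb, x ^ 3 = 1 := by
    rintro _ ⟨k, hk, rfl⟩
    haveI := Fintype.ofFinite (Pts K)
    let f : ↥(K ⊔ CfsgLib.Transfer.thompsonJ 2 T') →* ℤˣ := Equiv.Perm.sign.comp (phi S)
    have hK3 : K ≤ f.ker.map (K ⊔ CfsgLib.Transfer.thompsonJ 2 T').subtype := by
      conv_lhs => rw [← S.hK.1]
      refine (Subgroup.closure_le _).2 fun x hx => ⟨⟨x, Subgroup.mem_sup_left hx.1⟩, ?_, rfl⟩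
      rw [SetLike.mem_coe, MonoidHom.mem_ker]
      rcases Int.units_eq_one_or (f ⟨x, Subgroup.mem_sup_left hx.1⟩) with h | h
      · exact h
      · have h2 : f ⟨x, Subgroup.mem_sup_left hx.1⟩ ^ orderOf x = 1 := by
          rw [← map_pow, show (⟨x, Subgroup.mem_sup_left hx.1⟩ : ↥(K ⊔ CfsgLib.Transfer.thompsonJ 2 T')) ^ orderOf x = 1
            from Subtype.ext (by simp [pow_orderOf_eq_one]), map_one]
        rw [h, hx.2.neg_one_pow] at h2
        rw [h, h2]
    obtain ⟨k', hk', e⟩ := hK3 hk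
    have h3 : phi S k' ^ 3 = 1 := by
      haveI : Nontrivial (Pts K) := Finite.one_lt_card_iff_nontrivial.1 (by rw [S.card_pts]; norm_num)
      have hc : Nat.card (alternatingGroup (Pts K)) = 3 := by
        rw [nat_card_alternatingGroup, S.card_pts]; rfl
      have h := pow_card_eq_one' (G := alternatingGroup (Pts K))
        (x := ⟨phi S k', Equiv.Perm.mem_alternatingGroup.2 (MonoidHom.mem_ker.1 hk')⟩)
      rw [hc] at h
      exact congrArg Subtype.val h
    refine Subgroup.mem_bot.1 (hX ⟨Kb.pow_mem ⟨k, hk, rfl⟩ 3, fun w hw => Subtype.ext ?_⟩)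
    rw [← map_pow]
    show (((k ^ 3 : M) : G)) * w * (((k ^ 3 : M) : G))⁻¹ = w
    rw [← map_pow] at h3
    have h := (phi_eq_one_iff S _).1 h3 w hw
    rw [Subgroup.coe_pow, show (k' : G) = k from e] at h
    rw [Subgroup.coe_pow]
    exact mul_inv_eq_iff_eq_mul.2 h
  have hK3' : Kb ≤ Cfsg.pCore 3 ρ.range :=
    Layer.le_pCore_of_isSubnormal hKbs fun x => ⟨1, Subtype.ext (by simpa using hexp x x.2)⟩
  -- the pair argument
  intro a ha haW w hw
  haveI hPn : (Cfsg.pCore 3 ρ.range).Normal := CfsgLib.Fitting.pCore_normal 3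
  set P := (Cfsg.pCore 3 ρ.range).map ρ.range.subtype with hP
  have hPp : IsPGroup 3 P := (CfsgLib.Fitting.pCore_isPGroup 3).map _
  set ab : ρ.range := ρ.rangeRestrict ⟨a, ha⟩ with hab
  have hyP : (gb : MulAut U₀) ∈ P := ⟨gb, hK3' hgbK, rfl⟩
  have hxP : (ab : MulAut U₀) * gb * (ab : MulAut U₀)⁻¹ ∈ P :=
    ⟨ab * gb * ab⁻¹, hPn.conj_mem _ (hK3' hgbK) ab, rfl⟩
  have hmov : mov (gb : MulAut U₀) = W.subgroupOf U₀ := by
    refine le_antisymm ?_ ?_
    · rintro _ ⟨e, rfl⟩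
      exact hKb_mov gb hgbK e
    · intro x hx
      obtain ⟨v, hv, e⟩ := hsurj x hx
      exact ⟨⟨v, hWU₀ hv⟩, Subtype.ext e⟩
  have h4 : IsFour (gb : MulAut U₀) := by
    refine ⟨by rw [hmov, Nat.card_congr (Subgroup.subgroupOfEquivOfLe hWU₀).toEquiv, S.card_W], ?_⟩
    rw [hmov]
    intro u hu he
    exact Subtype.ext (hg.fpf u hu (mul_inv_eq_iff_eq_mul.1 (congrArg Subtype.val he)))
  have hinv := mov_invariant_pair P hPp hxP hyP (h4.conj _) h4
  rw [mov_conj, hmov] at hinv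
  have hga : ∀ v ∈ W, ∃ v' ∈ W, g * (a * v * a⁻¹) * g⁻¹ = a * v' * a⁻¹ := by
    intro v hv
    obtain ⟨v', hv', e⟩ := hinv.le ⟨_, ⟨⟨v, hWU₀ hv⟩, hv, rfl⟩, rfl⟩
    exact ⟨v', hv', (congrArg Subtype.val e).symm⟩
  -- the commutator lies in both
  by_contra hne
  set c := g * (a * w * a⁻¹) * g⁻¹ * (a * w * a⁻¹)⁻¹ with hc
  have hcW : c ∈ W := hUK g hgK _ (hU₀U (Subgroup.subset_closure ⟨a, ha, w, hw, rfl⟩))
  have hc1 : c ≠ 1 := fun h => hne (mul_inv_eq_iff_eq_mul.1 (mul_inv_eq_one.1 h))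
  set Wa := W.map (MulAut.conj a).toMonoidHom with hWa
  have hgWa : ∀ x ∈ Wa, g * x * g⁻¹ ∈ Wa := by
    rintro _ ⟨v, hv, rfl⟩
    obtain ⟨v', hv', e⟩ := hga v hv
    exact ⟨v', hv', e.symm⟩
  have hcWa : c ∈ Wa := Wa.mul_mem (hgWa _ ⟨w, hw, rfl⟩) (Wa.inv_mem ⟨w, hw, rfl⟩)
  have hle := hg.le_of_mem S.card_W hcW hc1 hcWa (hgWa c hcWa)
  have heq : W = Wa :=
    Subgroup.eq_of_le_of_card_ge hle (Subgroup.card_map_of_injective (MulAut.conj a).injective).le
  exact haW (mem_normalizer_of_le fun v hv => heq.ge ⟨v, hv, rfl⟩)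

/-- `J(T)` normalizes `W`. -/
theorem ZeroComp.thompsonJ_le_normalizer_W {T' K : Subgroup G} (Z : ZeroComp T' K) {T L : Subgroup G}
    (hLT : Cfsg.IsSylowTwoIn T L) (hKL : K ≤ L)
    (hsn : (K.subgroupOf (K ⊔ CfsgLib.Transfer.thompsonJ 2 T)).IsSubnormal) :
    CfsgLib.Transfer.thompsonJ 2 T ≤ Subgroup.normalizer (Cfsg.wOf K : Set G) := by
  set M := K ⊔ CfsgLib.Transfer.thompsonJ 2 T with hM
  obtain ⟨g, hgK, -, hg⟩ := Z.set.moves
  obtain ⟨hWU, hoth⟩ := centralizes_conjugates Z.set (le_sup_left : K ≤ M) hsn hgK hg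
  refine sSup_le fun A hA => ?_
  have hAM : A ≤ M := (le_sSup hA).trans le_sup_right
  have hML : M ≤ L := sup_le hKL ((CfsgLib.Transfer.thompsonJ_le 2 T).trans hLT.1)
  set U := Cfsg.omegaCenterOf (Cfsg.pCoreOf 2 M) with hU
  have hUe : CfsgLib.Transfer.IsAbExp 2 U :=
    ⟨⟨⟨fun x y => Subtype.ext (omegaCenterOf_comm y.2 (omegaCenterOf_le _ x.2))⟩⟩,
      fun a ha => by rw [pow_two]; exact omegaCenterOf_sq ha⟩
  refine orbit_le_normalizer hA.2.1 hUe ?_ hWU Z.set.card_W hg.fpf (fun a ha => hoth a (hAM ha))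
    fun B hB hBle => card_le_in hLT hA hB (hBle.trans (sup_le (hAM.trans hML) ?_))
  · exact hAM.trans ((CfsgLib.Signalizer.normalizer_le_normalizer_pCoreOf 2 Subgroup.le_normalizer).trans
      (normalizer_le_normalizer_omegaCenterOf _))
  · exact ((omegaCenterOf_le _).trans (CfsgLib.Signalizer.pCoreOf_le 2 M)).trans hML

end CfsgLib.JComp
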