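import Cfsg.Agent.Lib.JComp.Eigen
import Cfsg.Agent.Lib.JComp.ZeroConj

/-!
# A component outside `M`
-/

set_option autoImplicit false
set_option linter.style.haveILetI false

namespace CfsgLib.JComp

open scoped commutatorElement

universe u

variable {G : Type u} [Group G] [Finite G]

/-- A subgroup of index at most 2. -/
theorem card_le_two_mul {H H' : Subgroup G} (h : ∀ a ∈ H, ∀ b ∈ H, a ∉ H' → b ∉ H' → a * b ∈ H') :
    Nat.card H ≤ 2 * Nat.card H' := by
  classical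
  by_cases hle : H ≤ H'
  · exact (Subgroup.card_le_of_le hle).trans (Nat.le_mul_of_pos_left _ (by norm_num))
  obtain ⟨b, hb, hb'⟩ := SetLike.not_le_iff_exists.1 hle
  let f : H → H' × Bool := fun a => if ha : (a : G) ∈ H' then (⟨a, ha⟩, true)
    else (⟨a * b, h a a.2 b hb ha hb'⟩, false)
  have hf : Function.Injective f := by
    intro a a' e
    simp only [f] at e
    split_ifs at e with h1 h1' h1'
    · exact Subtype.ext (congrArg (fun x : H' × Bool => (x.1 : G)) e :)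
    · exact absurd (congrArg Prod.snd e) (by simp)
    · exact absurd (congrArg Prod.snd e) (by simp)
    · exact Subtype.ext (mul_right_cancel (congrArg (fun x : H' × Bool => (x.1 : G)) e :))
  have := Nat.card_le_card_of_injective f hf
  rwa [Nat.card_prod, Nat.card_eq_fintype_card (α := Bool), Fintype.card_bool, mul_comm] at this

/-- The maximality of `A` applied to `A₁ X`. -/
theorem card_mul_le_of_max {T A A₁ X : Subgroup G} (hA : A ∈ CfsgLib.Transfer.maxAbExp 2 T) (h1 : A₁ ≤ A)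
    (hXT : X ≤ T) (hX : CfsgLib.Transfer.IsAbExp 2 X) (hc : ∀ a ∈ A₁, ∀ x ∈ X, a * x = x * a) :
    Nat.card A₁ * Nat.card X ≤ Nat.card A * Nat.card (A₁ ⊓ X : Subgroup G) := by
  have hB : CfsgLib.Transfer.IsAbExp 2 (A₁ ⊔ X) := isAbExp_sup (isAbExp_mono hA.2.1 h1) hX hc
  have hBA := hA.2.2 _ (sup_le (h1.trans hA.1) hXT) hB
  have hlag : ∀ {H K : Subgroup G}, H ≤ K → Nat.card H * H.relIndex K = Nat.card K := fun {H K} h => by
    simpa using Subgroup.relIndex_mul_relIndex ⊥ H K bot_le h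
  have e1 : Nat.card (A₁ ⊓ X : Subgroup G) * A₁.relIndex X = Nat.card X := by
    rw [← Subgroup.inf_relIndex_right]; exact hlag inf_le_right
  have e3 : Nat.card A₁ * A₁.relIndex (A₁ ⊔ X) = Nat.card (A₁ ⊔ X : Subgroup G) := hlag le_sup_left
  have e2 : A₁.relIndex X ≤ A₁.relIndex (A₁ ⊔ X) :=
    Subgroup.relIndex_le_of_le_right le_sup_right (fun h => Nat.card_pos.ne' (by simpa [h] using e3.symm))
  calc Nat.card A₁ * Nat.card X = Nat.card (A₁ ⊓ X : Subgroup G) * (Nat.card A₁ * A₁.relIndex X) := by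
        rw [← e1]; ring
    _ ≤ Nat.card (A₁ ⊓ X : Subgroup G) * (Nat.card A₁ * A₁.relIndex (A₁ ⊔ X)) :=
        Nat.mul_le_mul_left _ (Nat.mul_le_mul_left _ e2)
    _ ≤ _ := by rw [e3, mul_comm (Nat.card A)]; exact Nat.mul_le_mul_left _ hBA

/-- A 2-group fixes a coset of a proper invariant subgroup of a 2-group. -/
theorem exists_fixed_coset {A W V₀ : Subgroup G} (hA : IsPGroup 2 A) (hW : IsPGroup 2 W) (hle : V₀ ≤ W)
    (hne : V₀ ≠ W) (hAW : A ≤ Subgroup.normalizer (W : Set G)) (hAV : A ≤ Subgroup.normalizer (V₀ : Set G))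
    (hWV : W ≤ Subgroup.normalizer (V₀ : Set G)) :
    ∃ v ∈ W, v ∉ V₀ ∧ ∀ a ∈ A, a * v * a⁻¹ * v⁻¹ ∈ V₀ := by
  haveI : Fact (Nat.Prime 2) := ⟨Nat.prime_two⟩
  set N := V₀.subgroupOf W with hN
  haveI : N.Normal := (Subgroup.normal_subgroupOf_iff_le_normalizer hle).2 hWV
  let c : ↥A → (↥W →* ↥W) := fun a =>
    { toFun := fun w => ⟨(a : G) * w * (a : G)⁻¹, (Subgroup.mem_normalizer_iff.1 (hAW a.2) _).1 w.2⟩
      map_one' := Subtype.ext (by simp)
      map_mul' := fun u v => Subtype.ext (by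
        show (a : G) * ((u : G) * v) * (a : G)⁻¹ = a * u * (a : G)⁻¹ * (a * v * (a : G)⁻¹)
        group) }
  have hc : ∀ a, N ≤ N.comap (c a) := fun a w hw => (Subgroup.mem_normalizer_iff.1 (hAV a.2) _).1 hw
  let act : MulAction ↥A (↥W ⧸ N) :=
    { smul := fun a q => QuotientGroup.map N N (c a) (hc a) q
      one_smul := fun q => by
        induction q using QuotientGroup.induction_on with
        | H w =>
          show QuotientGroup.map N N (c 1) (hc 1) (w : ↥W ⧸ N) = _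
          rw [QuotientGroup.map_mk]
          exact congrArg _ (Subtype.ext (by simp [c]))
      mul_smul := fun a b q => by
        induction q using QuotientGroup.induction_on with
        | H w =>
          show QuotientGroup.map N N (c (a * b)) (hc _) (w : ↥W ⧸ N) =
            QuotientGroup.map N N (c a) (hc a) (QuotientGroup.map N N (c b) (hc b) (w : ↥W ⧸ N))
          rw [QuotientGroup.map_mk, QuotientGroup.map_mk, QuotientGroup.map_mk]
          refine congrArg _ (Subtype.ext ?_)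
          show (a : G) * b * w * ((a : G) * b)⁻¹ = a * (b * w * (b : G)⁻¹) * (a : G)⁻¹
          group }
  have hdvd : 2 ∣ Nat.card (↥W ⧸ N) := by
    obtain ⟨n, hn⟩ := IsPGroup.iff_card.1 (hW.to_quotient N)
    rcases n with _ | n
    · exfalso
      rw [pow_zero, ← Subgroup.index_eq_card, Subgroup.index_eq_one] at hn
      exact hne (le_antisymm hle fun w hw => (hn ▸ Subgroup.mem_top (⟨w, hw⟩ : W) : (⟨w, hw⟩ : W) ∈ N))
    · rw [hn, pow_succ]; exact dvd_mul_left _ _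
  have h1 : (1 : ↥W ⧸ N) ∈ MulAction.fixedPoints ↥A (↥W ⧸ N) := fun a => map_one _
  obtain ⟨q, hq, hq1⟩ := hA.exists_fixed_point_of_prime_dvd_card_of_fixed_point (α := ↥W ⧸ N) hdvd h1
  obtain ⟨w, rfl⟩ := QuotientGroup.mk_surjective q
  refine ⟨w, w.2, fun h => hq1 ((QuotientGroup.eq_one_iff w).2 h).symm, fun a ha => ?_⟩
  have h := hq ⟨a, ha⟩
  have h' : QuotientGroup.map N N (c ⟨a, ha⟩) (hc _) (w : ↥W ⧸ N) = (w : ↥W ⧸ N) := h
  rw [QuotientGroup.map_mk] at h'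
  have h'' := inv_mem (QuotientGroup.eq.1 h'.symm)
  have h3 : (a * w * a⁻¹)⁻¹ * (w : G) ∈ V₀ := by
    have h4 : ((w : ↥W)⁻¹ * c ⟨a, ha⟩ w)⁻¹ ∈ N := h''
    have h5 : ((w : G)⁻¹ * (a * w * a⁻¹))⁻¹ ∈ V₀ := h4
    rwa [mul_inv_rev, inv_inv] at h5
  have h6 := (Subgroup.mem_normalizer_iff.1 (hWV w.2) _).1 (inv_mem h3)
  simpa [mul_assoc] using h6

variable {T L : Subgroup G}

/-- An element of odd order inverted by some element of `J` does not centralize `Ω₁(Z(R))`. -/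
theorem Over.eq_one_of_centralizes (O : Over T L) {y a : G} (hy : y ∈ L) (hodd : Odd (orderOf y))
    (ha : a ∈ CfsgLib.Transfer.thompsonJ 2 T) (hinv : a * y * a⁻¹ * y ∈ Cfsg.pCoreOf 2 L)
    (hc : ∀ u ∈ Cfsg.omegaCenterOf (Cfsg.pCoreOf 2 L), y * u = u * y) : y = 1 := by
  haveI : Fact (Nat.Prime 2) := ⟨Nat.prime_two⟩
  obtain ⟨hTL, -, hodd'⟩ := O.mem.1
  obtain ⟨S, hS⟩ := O.hT.exists_le_sylow
  have hle : Cfsg.omegaCenterOf (S : Subgroup G) ≤ Cfsg.omegaCenterOf (Cfsg.pCoreOf 2 L) := by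
    intro z hz
    have hR : z ∈ Cfsg.pCoreOf 2 L := O.mem.2.2 (Subgroup.mem_centralizer_iff.2 fun r hr =>
      omegaCenterOf_comm hz (hS (O.R_le_T hr)))
    exact mem_omegaCenterOf hR (fun r hr => omegaCenterOf_comm hz (hS (O.R_le_T hr))) (omegaCenterOf_sq hz)
  have hyS : y ∈ Subgroup.normalizer ((S : Subgroup G) : Set G) :=
    O.amb.cent S (Subgroup.mem_centralizer_iff.2 fun z hz => (hc z (hle hz)).symm)
  let P : Sylow 2 L := (O.hT.comap_of_injective L.subtype L.subtype_injective :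
    IsPGroup 2 (T.subgroupOf L)).toSylow (fun h => Nat.not_even_iff_odd.2 hodd' (even_iff_two_dvd.2 h))
  have hSL : ∀ x : G, x ∈ (S : Subgroup G) → x ∈ L → x ∈ T := by
    intro x hxS hxL
    have hp : IsPGroup 2 ((S : Subgroup G).subgroupOf L) := S.2.comap_of_injective L.subtype L.subtype_injective
    have h := P.3 hp (Subgroup.comap_mono hS)
    exact (h ▸ (show (⟨x, hxL⟩ : L) ∈ (S : Subgroup G).subgroupOf L from hxS) : (⟨x, hxL⟩ : L) ∈ (P : Subgroup L))
  have haT := CfsgLib.Transfer.thompsonJ_le 2 T ha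
  have hc1 : a * (y * a⁻¹ * y⁻¹) ∈ T := by
    refine mul_mem haT (hSL _ ((Subgroup.mem_normalizer_iff.1 hyS _).1 (inv_mem (hS haT))) ?_)
    exact mul_mem (mul_mem hy (inv_mem (O.J_le ha))) (inv_mem hy)
  have h2 : y * y ∈ T := by
    have h := mul_mem (inv_mem hc1) (O.R_le_T hinv)
    have e : (a * (y * a⁻¹ * y⁻¹))⁻¹ * (a * y * a⁻¹ * y) = y * y := by group
    rwa [e] at h
  obtain ⟨k, hk⟩ := O.hT ⟨_, h2⟩
  have h3 : y ^ (2 ^ (k + 1)) = 1 := by
    rw [pow_succ', pow_mul, pow_two]; exact congrArg Subtype.val hk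
  exact orderOf_eq_one_iff.1 (Nat.eq_one_of_dvd_coprimes (hodd.coprime_two_right.pow_right (k + 1)) dvd_rfl
    (orderOf_dvd_of_pow_eq_one h3))

/-- A `J(T)`-component outside `M`. -/
theorem Over.exists_component_of_local (O : Over T L) {M : Subgroup G} (hTM : T ≤ M)
    (hNJ : ∀ n, n ∈ Subgroup.normalizer (CfsgLib.Transfer.thompsonJ 2 T : Set G) → n ∈ L → n ∈ M)
    (hLM : ¬ L ≤ M)
    (huniq : ∀ S : Subgroup G, Cfsg.IsSylowTwoIn S L → CfsgLib.Transfer.thompsonJ 2 T ≤ S →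
      CfsgLib.Transfer.thompsonJ 2 S = CfsgLib.Transfer.thompsonJ 2 T) :
    ∃ K : Subgroup G, Cfsg.IsJComponent T K ∧ K ≤ L ∧ ¬ K ≤ M := by
  classical
  haveI : Fact (Nat.Prime 2) := ⟨Nat.prime_two⟩
  obtain ⟨Y, D⟩ := O.exists_local
  set R := Cfsg.pCoreOf 2 L with hR
  set J := CfsgLib.Transfer.thompsonJ 2 T with hJ
  have hRL : R ≤ L := CfsgLib.Signalizer.pCoreOf_le 2 L
  have hRp : IsPGroup 2 R := CfsgLib.PReduced.isPGroup_pCoreOf 2 L
  have hLR := O.L_le_normalizer_R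
  have hRM : R ≤ M := O.R_le_T.trans hTM
  have hJT : J ≤ T := CfsgLib.Transfer.thompsonJ_le 2 T
  have hYM : ¬ Y ≤ M := by
    intro hY
    refine hLM fun g hg => ?_
    obtain ⟨hTL, -, hodd⟩ := O.mem.1
    let P : Sylow 2 L := (O.hT.comap_of_injective L.subtype L.subtype_injective :
      IsPGroup 2 (T.subgroupOf L)).toSylow (fun h => Nat.not_even_iff_odd.2 hodd (even_iff_two_dvd.2 h))
    have hJmap := map_thompson_subgroupOf (T := T) (L := L) hTL
    have hconj : ∀ g ∈ L, ∀ j ∈ J, g * j * g⁻¹ ∈ M :=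
      D.gen M fun y hy j hj => mul_mem (mul_mem (hY hy) (hTM (hJT hj))) (inv_mem (hY hy))
    obtain ⟨m, hm, n, hn, e⟩ := frattini_J P (⟨g, hg⟩ : L)
    have hle : Subgroup.normalClosure (CfsgLib.Transfer.thompsonJ 2 (P : Subgroup L) : Set L) ≤ M.comap L.subtype := by
      refine (Subgroup.closure_le _).2 fun z hz => ?_
      obtain ⟨j, hj, hjz⟩ := Group.mem_conjugatesOfSet_iff.1 hz
      obtain ⟨c, rfl⟩ := isConj_iff.1 hjz
      exact hconj c c.2 j (hJmap.le ⟨j, hj, rfl⟩)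
    have hn' : (n : G) ∈ M := hNJ _ (by
      have h := Subgroup.le_normalizer_map L.subtype (H := CfsgLib.Transfer.thompsonJ 2 (P : Subgroup L)) ⟨n, hn, rfl⟩
      rw [show (CfsgLib.Transfer.thompsonJ 2 (P : Subgroup L)).map L.subtype = J from hJmap] at h
      exact h) n.2
    have e2 : g = (m : G) * n := congrArg Subtype.val e
    rw [e2]
    exact mul_mem (hle hm) hn'
  obtain ⟨x, hxY, hodd, hxM, hsign⟩ := O.exists_eigen D hRM hYM
  have hxL : x ∈ L := D.le hxY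
  have hxR : x ∉ R := fun h => hxM (hRM h)
  have hxnR : x ∈ Subgroup.normalizer (R : Set G) := hLR hxL
  -- some element of `J` inverts `x`
  obtain ⟨a₁, ha₁, hmove⟩ : ∃ j ∈ J, ⁅j, x⁆ ∉ R := by
    by_contra hno
    push Not at hno
    refine hxM (hNJ x ?_ hxL)
    have hJR : CfsgLib.Transfer.thompsonJ 2 (J ⊔ R) = J :=
      thompsonJ_mid rfl le_sup_left (sup_le hJT O.R_le_T)
    rw [← hJR]
    refine CfsgLib.Transfer.normalizer_le_normalizer_thompsonJ 2 _ (mem_normalizer_of_le ?_)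
    suffices J ⊔ R ≤ (J ⊔ R).comap (MulAut.conj x).toMonoidHom from fun w hw => this hw
    refine sup_le (fun j hj => ?_) fun r hr =>
      Subgroup.mem_sup_right ((Subgroup.mem_normalizer_iff.1 hxnR r).1 hr)
    show x * j * x⁻¹ ∈ J ⊔ R
    rw [show x * j * x⁻¹ = ⁅j, x⁆⁻¹ * j by simp only [commutatorElement_def]; group]
    exact mul_mem (Subgroup.mem_sup_right (inv_mem (hno j hj))) (Subgroup.mem_sup_left hj)
  obtain ⟨A, hA, a₀, ha₀, hmove₀⟩ : ∃ A ∈ CfsgLib.Transfer.maxAbExp 2 T, ∃ a ∈ A, ⁅a, x⁆ ∉ R := by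
    by_contra hno
    push Not at hno
    let Cx : Subgroup G :=
      { carrier := {j | j ∈ L ∧ ⁅j, x⁆ ∈ R}
        mul_mem' := fun {p q} hp hq => ⟨mul_mem hp.1 hq.1, by
          rw [show ⁅p * q, x⁆ = p * ⁅q, x⁆ * p⁻¹ * ⁅p, x⁆ by simp only [commutatorElement_def]; group]
          exact mul_mem ((Subgroup.mem_normalizer_iff.1 (hLR hp.1) _).1 hq.2) hp.2⟩
        one_mem' := ⟨one_mem _, by simp⟩
        inv_mem' := fun {p} hp => ⟨inv_mem hp.1, by
          rw [show ⁅p⁻¹, x⁆ = p⁻¹ * ⁅p, x⁆⁻¹ * p by simp only [commutatorElement_def]; group]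
          exact (Subgroup.mem_normalizer_iff''.1 (hLR hp.1) _).1 (inv_mem hp.2)⟩ }
    have hle : J ≤ Cx := sSup_le fun A hA a ha => ⟨O.J_le (le_sSup hA ha), hno A hA a ha⟩
    exact hmove (hle ha₁).2
  have hAJ : A ≤ J := le_sSup hA
  have hinv₀ : a₀ * x * a₀⁻¹ * x ∈ R := (hsign a₀ (hAJ ha₀)).resolve_left hmove₀
  -- the subgroup `K`
  set H := Subgroup.zpowers x ⊔ R with hH
  set K := Subgroup.closure {g : G | g ∈ H ∧ Odd (orderOf g)} with hK
  have hKH : K ≤ H := (Subgroup.closure_le _).2 fun g hg => hg.1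
  have hHL : H ≤ L := sup_le (Subgroup.zpowers_le.2 hxL) hRL
  have hKL : K ≤ L := hKH.trans hHL
  have hxK : x ∈ K := Subgroup.subset_closure ⟨Subgroup.mem_sup_left (Subgroup.mem_zpowers x), hodd⟩
  have hgen : Subgroup.closure {g : G | g ∈ K ∧ Odd (orderOf g)} = K :=
    le_antisymm ((Subgroup.closure_le _).2 fun g hg => hg.1)
      ((Subgroup.closure_le _).2 fun g hg => Subgroup.subset_closure ⟨Subgroup.subset_closure hg, hg.2⟩)
  have hNH : Subgroup.normalizer (H : Set G) ≤ Subgroup.normalizer (K : Set G) := by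
    intro n hn
    refine mem_normalizer_of_le ?_
    suffices K ≤ K.comap (MulAut.conj n).toMonoidHom from fun w hw => this hw
    refine (Subgroup.closure_le _).2 fun g hg => Subgroup.subset_closure ⟨(Subgroup.mem_normalizer_iff.1 hn g).1 hg.1, ?_⟩
    show Odd (orderOf (MulAut.conj n g))
    rw [MulEquiv.orderOf_eq]; exact hg.2
  have hRK : R ≤ Subgroup.normalizer (K : Set G) :=
    (le_sup_right.trans Subgroup.le_normalizer).trans hNH
  have hJK : J ≤ Subgroup.normalizer (K : Set G) := by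
    refine le_trans (fun j hj => mem_normalizer_of_le ?_) hNH
    suffices H ≤ H.comap (MulAut.conj j).toMonoidHom from fun w hw => this hw
    refine sup_le (Subgroup.zpowers_le.2 ?_) fun r hr =>
      Subgroup.mem_sup_right ((Subgroup.mem_normalizer_iff.1 (hLR (O.J_le hj)) r).1 hr)
    show j * x * j⁻¹ ∈ H
    rcases hsign j hj with h | h
    · rw [show j * x * j⁻¹ = ⁅j, x⁆ * x by simp only [commutatorElement_def]; group]
      exact mul_mem (Subgroup.mem_sup_right h) (Subgroup.mem_sup_left (Subgroup.mem_zpowers x))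
    · rw [show j * x * j⁻¹ = j * x * j⁻¹ * x * x⁻¹ by group]
      exact mul_mem (Subgroup.mem_sup_right h) (inv_mem (Subgroup.mem_sup_left (Subgroup.mem_zpowers x)))
  -- elements of `K`
  set Q := K ⊓ R with hQ
  have hdec : ∀ k ∈ K, ∃ (i : ℕ) (q : G), q ∈ Q ∧ k = x ^ i * q := by
    intro k hk
    have hk' : k ∈ ((Subgroup.zpowers x ⊔ R : Subgroup G) : Set G) := hKH hk
    rw [Subgroup.coe_mul_of_left_le_normalizer_right _ _ (Subgroup.zpowers_le.2 hxnR)] at hk'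
    obtain ⟨z, hz, r, hr, e⟩ := hk'
    rw [SetLike.mem_coe, ← mem_powers_iff_mem_zpowers] at hz
    obtain ⟨i, rfl⟩ := hz
    refine ⟨i, r, Subgroup.mem_inf.2 ⟨?_, hr⟩, e.symm⟩
    rw [show r = (x ^ i)⁻¹ * k by rw [show k = x ^ i * r from e.symm]; group]
    exact mul_mem (inv_mem (pow_mem hxK i)) hk
  have hKnR : K ≤ Subgroup.normalizer (R : Set G) := hKL.trans hLR
  have hcore : Cfsg.pCoreOf 2 K = Q := by
    refine le_antisymm ?_ ?_
    · intro k hk
      have hkK := CfsgLib.Signalizer.pCoreOf_le 2 K hk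
      obtain ⟨i, q, hq, rfl⟩ := hdec k hkK
      have hp : IsPGroup 2 ↥(R ⊔ Cfsg.pCoreOf 2 K) :=
        IsPGroup.to_sup_of_normal_right' hRp (CfsgLib.PReduced.isPGroup_pCoreOf 2 K)
          (hRK.trans (CfsgLib.Signalizer.normalizer_le_normalizer_pCoreOf 2 (le_refl _)))
      have hxi : x ^ i ∈ R ⊔ Cfsg.pCoreOf 2 K := by
        rw [show x ^ i = x ^ i * q * q⁻¹ by group]
        exact mul_mem (Subgroup.mem_sup_right hk) (Subgroup.mem_sup_left (inv_mem hq.2))
      obtain ⟨m, hm⟩ := hp ⟨_, hxi⟩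
      have h1 : orderOf (x ^ i) = 1 := Nat.eq_one_of_dvd_coprimes (hodd.coprime_two_right.pow_right m)
        (orderOf_pow_dvd i) (orderOf_dvd_of_pow_eq_one (congrArg Subtype.val hm))
      rw [orderOf_eq_one_iff.1 h1, one_mul]
      exact hq
    · have hn : (Q.subgroupOf K).Normal :=
        (Subgroup.normal_subgroupOf_iff_le_normalizer inf_le_left).2 fun k hk =>
          mem_normalizer_of_le fun w hw => Subgroup.mem_inf.2
            ⟨K.mul_mem (K.mul_mem hk hw.1) (K.inv_mem hk), (Subgroup.mem_normalizer_iff.1 (hKnR hk) w).1 hw.2⟩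
      have h := CfsgLib.Fitting.le_pCore (G := ↥K) hn
        ((hRp.to_le (inf_le_right : Q ≤ R)).comap_of_injective K.subtype K.subtype_injective)
      intro w hw
      exact ⟨⟨w, hw.1⟩, h hw, rfl⟩
  -- `[K, J] = K`
  have hKJ : ⁅K, J⁆ = K := by
    set C := ⁅K, J⁆ with hC
    have hCK : C ≤ K := by
      rw [hC, Subgroup.commutator_le]
      intro k hk j hj
      rw [show ⁅k, j⁆ = k * (j * k⁻¹ * j⁻¹) by simp only [commutatorElement_def]; group]
      exact mul_mem hk ((Subgroup.mem_normalizer_iff.1 (hJK hj) _).1 (inv_mem hk))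
    haveI hCn : (C.subgroupOf K).Normal := by
      refine (Subgroup.normal_subgroupOf_iff_le_normalizer hCK).2 fun k hk => mem_normalizer_of_le ?_
      suffices C ≤ C.comap (MulAut.conj k).toMonoidHom from fun w hw => this hw
      rw [hC, Subgroup.commutator_le]
      intro k' hk' j hj
      show k * ⁅k', j⁆ * k⁻¹ ∈ ⁅K, J⁆
      rw [show k * ⁅k', j⁆ * k⁻¹ = ⁅k * k', j⁆ * ⁅k, j⁆⁻¹ by simp only [commutatorElement_def]; group]
      exact mul_mem (Subgroup.commutator_mem_commutator (mul_mem hk hk') hj)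
        (inv_mem (Subgroup.commutator_mem_commutator hk hj))
    have hCQ : K ≤ C ⊔ Q := by
      have hq₀ : a₀ * x * a₀⁻¹ * x ∈ Q :=
        ⟨mul_mem ((Subgroup.mem_normalizer_iff.1 (hJK (hAJ ha₀)) x).1 hxK) hxK, hinv₀⟩
      have h2 : x * x ∈ C ⊔ Q := by
        rw [show x * x = ⁅x, a₀⁆ * (a₀ * x * a₀⁻¹ * x) by simp only [commutatorElement_def]; group]
        exact mul_mem (Subgroup.mem_sup_left (Subgroup.commutator_mem_commutator hxK (hAJ ha₀)))
          (Subgroup.mem_sup_right hq₀)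
      have hx' : x ∈ C ⊔ Q := by
        obtain ⟨k, hk⟩ := hodd
        rw [show x = (x * x) ^ (k + 1) by
          rw [← pow_two, ← pow_mul, show 2 * (k + 1) = 2 * k + 1 + 1 by ring, pow_succ, ← hk,
            pow_orderOf_eq_one, one_mul]]
        exact pow_mem h2 _
      intro k hk
      obtain ⟨i, q, hq, rfl⟩ := hdec k hk
      exact mul_mem (pow_mem hx' i) (Subgroup.mem_sup_right hq)
    refine le_antisymm hCK ?_
    conv_lhs => rw [← hgen]
    refine (Subgroup.closure_le _).2 fun g hg => ?_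
    have hgQ : g ∈ ((C ⊔ Q : Subgroup G) : Set G) := hCQ hg.1
    rw [Subgroup.coe_mul_of_right_le_normalizer_left _ _
      (((Subgroup.normal_subgroupOf_iff_le_normalizer hCK).1 hCn).trans' inf_le_left)] at hgQ
    obtain ⟨c, hc, q, hq, e⟩ := hgQ
    let π := QuotientGroup.mk' (C.subgroupOf K)
    have h1 : π ⟨g, hg.1⟩ = π ⟨q, hq.1⟩ := by
      refine (QuotientGroup.eq.2 ?_).symm
      show q⁻¹ * g ∈ C
      rw [show g = c * q from e.symm]
      have := (Subgroup.mem_normalizer_iff''.1 ((Subgroup.normal_subgroupOf_iff_le_normalizer hCK).1 hCn hq.1) c).1 hc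
      simpa [mul_assoc] using this
    have d1 : orderOf (π ⟨g, hg.1⟩) ∣ orderOf g :=
      (orderOf_map_dvd π (⟨g, hg.1⟩ : ↥K)).trans (dvd_of_eq (Subgroup.orderOf_mk g hg.1))
    obtain ⟨m, hm⟩ := hRp ⟨q, hq.2⟩
    have d2 : orderOf (π ⟨g, hg.1⟩) ∣ 2 ^ m := by
      refine orderOf_dvd_of_pow_eq_one ?_
      rw [h1, ← map_pow, show (⟨q, hq.1⟩ : ↥K) ^ 2 ^ m = 1 from Subtype.ext (by simpa using congrArg Subtype.val hm),
        map_one]
    have h3 := orderOf_eq_one_iff.1 (Nat.eq_one_of_dvd_coprimes (hg.2.coprime_two_right.pow_right m) d1 d2)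
    exact (QuotientGroup.eq_one_iff (N := C.subgroupOf K) _).1 h3
  -- the module `U`
  set U := Cfsg.omegaCenterOf Q with hU
  have hUQ : U ≤ Q := omegaCenterOf_le Q
  have hUc : ∀ u ∈ U, ∀ v ∈ U, u * v = v * u := fun u hu v hv => omegaCenterOf_comm hv (hUQ hu)
  have hU2 : ∀ u ∈ U, u * u = 1 := fun u hu => omegaCenterOf_sq hu
  have hKU : Subgroup.normalizer (K : Set G) ≤ Subgroup.normalizer (U : Set G) := by
    rw [hU, ← hcore]
    exact (CfsgLib.Signalizer.normalizer_le_normalizer_pCoreOf 2 (le_refl _)).trans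
      (normalizer_le_normalizer_omegaCenterOf _)
  have hxU : ∀ u ∈ U, x * u * x⁻¹ ∈ U := fun u hu =>
    (Subgroup.mem_normalizer_iff.1 (hKU (Subgroup.le_normalizer hxK)) u).1 hu
  have hQU : ∀ q ∈ Q, ∀ u ∈ U, q * u = u * q := fun q hq u hu => omegaCenterOf_comm hu hq
  let d : ↥U →* G :=
    { toFun := fun u => x * u * x⁻¹ * (u : G)⁻¹
      map_one' := by simp
      map_mul' := fun u v => by
        show x * ((u : G) * v) * x⁻¹ * ((u : G) * v)⁻¹ = x * u * x⁻¹ * (u : G)⁻¹ * (x * v * x⁻¹ * (v : G)⁻¹)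
        have h1 := hUc _ (inv_mem u.2) _ (mul_mem (hxU v v.2) (inv_mem v.2))
        calc x * ((u : G) * v) * x⁻¹ * ((u : G) * v)⁻¹
            = x * u * x⁻¹ * (x * v * x⁻¹ * (v : G)⁻¹ * (u : G)⁻¹) := by group
          _ = _ := by rw [← h1]; group }
  set W := d.range with hWd
  have hWU : W ≤ U := by rintro _ ⟨u, rfl⟩; exact mul_mem (hxU u u.2) (inv_mem u.2)
  have hxW : ∀ w ∈ W, x * w * x⁻¹ ∈ W := by
    rintro _ ⟨u, rfl⟩
    exact ⟨⟨x * u * x⁻¹, hxU u u.2⟩, by show x * (x * u * x⁻¹) * x⁻¹ * (x * u * x⁻¹)⁻¹ = x * (x * u * x⁻¹ * (u : G)⁻¹) * x⁻¹; group⟩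
  have hW : Cfsg.wOf K = W := by
    rw [Cfsg.wOf, hcore, ← hU]
    refine le_antisymm ?_ ?_
    · rw [Subgroup.commutator_le]
      intro u hu k hk
      obtain ⟨i, q, hq, rfl⟩ := hdec k hk
      have key : ∀ n : ℕ, ∀ u ∈ U, x ^ n * u * (x ^ n)⁻¹ ∈ U ∧ x ^ n * u * (x ^ n)⁻¹ * u⁻¹ ∈ W := by
        intro n
        induction n with
        | zero => intro u hu; exact ⟨by simpa using hu, by simp⟩
        | succ n ih =>
          intro u hu
          obtain ⟨h1, h2⟩ := ih u hu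
          refine ⟨?_, ?_⟩
          · rw [show x ^ (n + 1) * u * (x ^ (n + 1))⁻¹ = x * (x ^ n * u * (x ^ n)⁻¹) * x⁻¹ by rw [pow_succ']; group]
            exact hxU _ h1
          · rw [show x ^ (n + 1) * u * (x ^ (n + 1))⁻¹ * u⁻¹ =
              x * (x ^ n * u * (x ^ n)⁻¹ * u⁻¹) * x⁻¹ * (x * u * x⁻¹ * u⁻¹) by rw [pow_succ']; group]
            exact mul_mem (hxW _ h2) ⟨⟨u, hu⟩, rfl⟩
      have e : q * u⁻¹ * q⁻¹ = u⁻¹ := by rw [hQU q hq _ (inv_mem hu), mul_inv_cancel_right]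
      rw [show ⁅u, x ^ i * q⁆ = u * x ^ i * (q * u⁻¹ * q⁻¹) * (x ^ i)⁻¹ by simp only [commutatorElement_def]; group, e,
        show u * x ^ i * u⁻¹ * (x ^ i)⁻¹ = (x ^ i * u * (x ^ i)⁻¹ * u⁻¹)⁻¹ by group]
      exact inv_mem (key i u hu).2
    · rintro _ ⟨u, rfl⟩
      have h := inv_mem (Subgroup.commutator_mem_commutator u.2 hxK : ⁅(u : G), x⁆ ∈ ⁅U, K⁆)
      rw [show ⁅(u : G), x⁆⁻¹ = x * u * x⁻¹ * (u : G)⁻¹ by simp only [commutatorElement_def]; group] at h
      exact h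
  have hW2 : ∀ w ∈ W, w * w = 1 := fun w hw => hU2 w (hWU hw)
  have hWe : CfsgLib.Transfer.IsAbExp 2 W :=
    ⟨⟨⟨fun u v => Subtype.ext (hUc _ (hWU u.2) _ (hWU v.2))⟩⟩, fun w hw => by rw [pow_two]; exact hW2 w hw⟩
  have hWp : IsPGroup 2 W := fun w => ⟨1, Subtype.ext (by simpa [pow_two] using hW2 w w.2)⟩
  have hfpf : ∀ w ∈ W, x * w = w * x → w = 1 := by
    rintro _ ⟨u, rfl⟩ h
    have h1 : x * (x * u * x⁻¹ * (u : G)⁻¹) * x⁻¹ = x * u * x⁻¹ * (u : G)⁻¹ := mul_inv_eq_iff_eq_mul.2 h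
    set y := x * u * x⁻¹ with hy
    have hyU : y ∈ U := hxU u u.2
    have hui : (u : G)⁻¹ = u := inv_eq_of_mul_eq_one_right (hU2 u u.2)
    have hyi : y⁻¹ = y := inv_eq_of_mul_eq_one_right (hU2 y hyU)
    rw [show x * (y * (u : G)⁻¹) * x⁻¹ = x * y * x⁻¹ * y⁻¹ by rw [hy]; group, hyi, hui] at h1
    have h2 : x * y * x⁻¹ = u := by
      have h3 : x * y * x⁻¹ = y * (u : G) * y⁻¹ := by rw [← h1]; group
      rw [h3, hUc y hyU u u.2, mul_inv_cancel_right]
    have hsq : Commute (x ^ 2) (u : G) := by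
      show x ^ 2 * u = u * x ^ 2
      refine mul_inv_eq_iff_eq_mul.1 ?_
      conv_rhs => rw [← h2, hy]
      rw [pow_two]; group
    have hxu : Commute x (u : G) := by
      obtain ⟨k, hk⟩ := hodd
      have e : x = (x ^ 2) ^ (k + 1) := by
        rw [← pow_mul, show 2 * (k + 1) = 2 * k + 1 + 1 by ring, pow_succ, ← hk, pow_orderOf_eq_one, one_mul]
      rw [e]; exact hsq.pow_left _
    show x * u * x⁻¹ * (u : G)⁻¹ = 1
    rw [hxu.eq, mul_inv_cancel_right, mul_inv_cancel]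
  -- centralizing `U` is impossible
  have hext : ∀ y ∈ K, Odd (orderOf y) → (∀ v ∈ U, y * v = v * y) →
      ∀ u ∈ Cfsg.omegaCenterOf R, y * u = u * y := by
    intro y hyK hyodd hyU u hu
    have hur := omegaCenterOf_le R hu
    have huR : y * u * y⁻¹ ∈ Cfsg.omegaCenterOf R :=
      (Subgroup.mem_normalizer_iff.1 (normalizer_le_normalizer_omegaCenterOf R (hKnR hyK)) u).1 hu
    set c := u⁻¹ * (y * u * y⁻¹) with hc
    have hcR : c ∈ Cfsg.omegaCenterOf R := mul_mem (inv_mem hu) huR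
    have hcK : c ∈ K := by
      rw [show c = (u⁻¹ * y * u⁻¹⁻¹) * y⁻¹ by rw [hc]; group]
      exact mul_mem ((Subgroup.mem_normalizer_iff.1 (hRK (inv_mem hur)) y).1 hyK) (inv_mem hyK)
    have hcU : c ∈ U := mem_omegaCenterOf (Subgroup.mem_inf.2 ⟨hcK, omegaCenterOf_le R hcR⟩)
      (fun q hq => omegaCenterOf_comm hcR hq.2) (omegaCenterOf_sq hcR)
    exact commute_of_commutator_central hyodd (c := c) (by rw [hc]; group) (hyU c hcU) (omegaCenterOf_sq hcR)
  have hW1 : W ≠ ⊥ := by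
    intro h
    refine hxR ?_
    have : x = 1 := O.eq_one_of_centralizes hxL hodd (hAJ ha₀) hinv₀ (hext x hxK hodd fun v hv => by
      have h' := (Subgroup.eq_bot_iff_forall _).1 h _ ⟨⟨v, hv⟩, rfl⟩
      exact mul_inv_eq_iff_eq_mul.1 (mul_inv_eq_one.1 h'))
    rw [this]; exact one_mem _
  -- the action of `A` on `W`
  have hAW : A ≤ Subgroup.normalizer (W : Set G) := by
    rw [← hW]; exact (hAJ.trans hJK).trans (normalizer_le_normalizer_wOf K)
  have hAU : A ≤ Subgroup.normalizer (U : Set G) := (hAJ.trans hJK).trans hKU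
  let A₀ : Subgroup G :=
    { carrier := {a | a ∈ A ∧ ⁅a, x⁆ ∈ R}
      mul_mem' := fun {p q} hp hq => ⟨mul_mem hp.1 hq.1, by
        rw [show ⁅p * q, x⁆ = p * ⁅q, x⁆ * p⁻¹ * ⁅p, x⁆ by simp only [commutatorElement_def]; group]
        exact mul_mem ((Subgroup.mem_normalizer_iff.1 (hLR (O.J_le (hAJ hp.1))) _).1 hq.2) hp.2⟩
      one_mem' := ⟨one_mem _, by simp⟩
      inv_mem' := fun {p} hp => ⟨inv_mem hp.1, by
        rw [show ⁅p⁻¹, x⁆ = p⁻¹ * ⁅p, x⁆⁻¹ * p by simp only [commutatorElement_def]; group]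
        exact (Subgroup.mem_normalizer_iff''.1 (hLR (O.J_le (hAJ hp.1))) _).1 (inv_mem hp.2)⟩ }
  have hA₀A : A₀ ≤ A := fun a ha => ha.1
  have hcomm₀ : ∀ a ∈ A₀, ∀ v ∈ U, a * (x * v * x⁻¹) * a⁻¹ = x * (a * v * a⁻¹) * x⁻¹ := by
    intro a ha v hv
    set r := ⁅a, x⁆ with hr
    have hrQ : r ∈ Q := Subgroup.mem_inf.2 ⟨by
      rw [hr, commutatorElement_def]
      exact mul_mem ((Subgroup.mem_normalizer_iff.1 (hJK (hAJ ha.1)) x).1 hxK) (inv_mem hxK), ha.2⟩
    have hvU : a * v * a⁻¹ ∈ U := (Subgroup.mem_normalizer_iff.1 (hAU ha.1) v).1 hv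
    calc a * (x * v * x⁻¹) * a⁻¹ = r * (x * (a * v * a⁻¹) * x⁻¹) * r⁻¹ := by
          rw [hr, commutatorElement_def]; group
      _ = _ := mul_inv_eq_iff_eq_mul.2 (hQU r hrQ _ (hxU _ hvU))
  have hinvU : ∀ a ∈ A, a ∉ A₀ → ∀ v ∈ U, a * (x * v * x⁻¹) * a⁻¹ = x⁻¹ * (a * v * a⁻¹) * x := by
    intro a ha ha' v hv
    have hr := (hsign a (hAJ ha)).resolve_left fun h => ha' ⟨ha, h⟩
    set r := a * x * a⁻¹ * x with hrdef
    have hrQ : r ∈ Q := Subgroup.mem_inf.2
      ⟨mul_mem ((Subgroup.mem_normalizer_iff.1 (hJK (hAJ ha)) x).1 hxK) hxK, hr⟩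
    have hvU : a * v * a⁻¹ ∈ U := (Subgroup.mem_normalizer_iff.1 (hAU ha) v).1 hv
    have hvU' : x⁻¹ * (a * v * a⁻¹) * x ∈ U :=
      (Subgroup.mem_normalizer_iff''.1 (hKU (Subgroup.le_normalizer hxK)) _).1 hvU
    calc a * (x * v * x⁻¹) * a⁻¹ = r * (x⁻¹ * (a * v * a⁻¹) * x) * r⁻¹ := by rw [hrdef]; group
      _ = _ := mul_inv_eq_iff_eq_mul.2 (hQU r hrQ _ hvU')
  have hhalf : Nat.card A ≤ 2 * Nat.card A₀ := by
    refine card_le_two_mul fun a ha b hb ha' hb' => ⟨mul_mem ha hb, ?_⟩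
    have h1 := (hsign a (hAJ ha)).resolve_left fun h => ha' ⟨ha, h⟩
    have h2 := (hsign b (hAJ hb)).resolve_left fun h => hb' ⟨hb, h⟩
    have haL := hLR (O.J_le (hAJ ha))
    set r1 := a * x * a⁻¹ * x with hr1
    set r2 := b * x * b⁻¹ * x with hr2
    rw [show ⁅a * b, x⁆ = (a * r2 * a⁻¹) * (x * r1⁻¹ * x⁻¹) by simp only [hr1, hr2, commutatorElement_def]; group]
    exact mul_mem ((Subgroup.mem_normalizer_iff.1 haL _).1 h2)
      ((Subgroup.mem_normalizer_iff.1 hxnR _).1 (inv_mem h1))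
  have hAc : ∀ a ∈ A, ∀ b ∈ A, a * b = b * a := fun a ha b hb =>
    congrArg Subtype.val (hA.2.1.1.is_comm.comm ⟨a, ha⟩ ⟨b, hb⟩)
  have hA2 : ∀ a ∈ A, a * a = 1 := fun a ha => by rw [← pow_two]; exact hA.2.1.2 a ha
  have ha₀' : a₀ ∉ A₀ := fun h => hmove₀ h.2
  set V₀ := W ⊓ Subgroup.centralizer (A₀ : Set G) with hV₀
  set P := W ⊓ Subgroup.centralizer (A : Set G) with hP
  have hPV₀ : P ≤ V₀ := inf_le_inf_left _ (Subgroup.centralizer_le hA₀A)
  have hxV₀ : ∀ v ∈ V₀, x * v * x⁻¹ ∈ V₀ := fun v hv => Subgroup.mem_inf.2 ⟨hxW v hv.1,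
    Subgroup.mem_centralizer_iff.2 fun a ha => mul_inv_eq_iff_eq_mul.1 (by
      rw [hcomm₀ a ha v (hWU hv.1), mul_inv_eq_iff_eq_mul.2 (Subgroup.mem_centralizer_iff.1 hv.2 a ha)])⟩
  have hAV₀ : A ≤ Subgroup.normalizer (V₀ : Set G) := fun a ha => mem_normalizer_of_le fun v hv =>
    Subgroup.mem_inf.2 ⟨(Subgroup.mem_normalizer_iff.1 (hAW ha) v).1 hv.1,
      Subgroup.mem_centralizer_iff.2 fun b hb => by
        have h1 : Commute b a := hAc b (hA₀A hb) a ha
        have h2 : Commute b v := Subgroup.mem_centralizer_iff.1 hv.2 b hb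
        exact ((h1.mul_right h2).mul_right h1.inv_right).eq⟩
  -- the map `v ↦ a₀(v) v`
  let f : ↥V₀ →* ↥V₀ :=
    { toFun := fun v => ⟨a₀ * v * a₀⁻¹ * v,
        mul_mem ((Subgroup.mem_normalizer_iff.1 (hAV₀ ha₀) _).1 v.2) v.2⟩
      map_one' := Subtype.ext (by simp)
      map_mul' := fun u v => Subtype.ext (by
        show a₀ * ((u : G) * v) * a₀⁻¹ * ((u : G) * v) = a₀ * u * a₀⁻¹ * u * (a₀ * v * a₀⁻¹ * v)
        have h1 := hUc _ (hWU ((Subgroup.mem_normalizer_iff.1 (hAW ha₀) _).1 v.2.1)) _ (hWU u.2.1)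
        calc a₀ * ((u : G) * v) * a₀⁻¹ * ((u : G) * v) = a₀ * u * a₀⁻¹ * ((a₀ * v * a₀⁻¹) * u) * v := by group
          _ = _ := by rw [h1]; group) }
  have hfixA : ∀ v ∈ W, a₀ * v * a₀⁻¹ = v → (∀ a ∈ A₀, a * v = v * a) → v ∈ P := by
    intro v hv h0 h₀
    refine Subgroup.mem_inf.2 ⟨hv, Subgroup.mem_centralizer_iff.2 fun a ha => ?_⟩
    by_cases haA₀ : a ∈ A₀
    · exact h₀ a haA₀
    · have h := h₀ (a * a₀) ⟨mul_mem ha ha₀, by
        have h1 := (hsign a (hAJ ha)).resolve_left fun h => haA₀ ⟨ha, h⟩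
        set r1 := a * x * a⁻¹ * x with hr1
        set r2 := a₀ * x * a₀⁻¹ * x with hr2
        rw [show ⁅a * a₀, x⁆ = (a * r2 * a⁻¹) * (x * r1⁻¹ * x⁻¹) by simp only [hr1, hr2, commutatorElement_def]; group]
        exact mul_mem ((Subgroup.mem_normalizer_iff.1 (hLR (O.J_le (hAJ ha))) _).1 hinv₀)
          ((Subgroup.mem_normalizer_iff.1 hxnR _).1 (inv_mem h1))⟩
      have h0' : Commute a₀ v := mul_inv_eq_iff_eq_mul.1 h0
      have h' := (show Commute (a * a₀) v from h).mul_left h0'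
      rwa [mul_assoc, hA2 a₀ ha₀, mul_one] at h'
  have hfix2 : ∀ v ∈ W, a₀ * (a₀ * v * a₀⁻¹ * v) * a₀⁻¹ = a₀ * v * a₀⁻¹ * v := by
    intro v hv
    have hai : a₀⁻¹ = a₀ := inv_eq_of_mul_eq_one_right (hA2 a₀ ha₀)
    calc a₀ * (a₀ * v * a₀⁻¹ * v) * a₀⁻¹ = (a₀ * a₀) * v * (a₀⁻¹ * v * a₀⁻¹) := by group
      _ = v * (a₀ * v * a₀⁻¹) := by rw [hA2 a₀ ha₀, one_mul, hai]
      _ = _ := (hUc _ (hWU ((Subgroup.mem_normalizer_iff.1 (hAW ha₀) v).1 hv)) _ (hWU hv)).symm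
  have hrange : f.range ≤ P.subgroupOf V₀ := by
    rintro _ ⟨v, rfl⟩
    exact hfixA _ (f v).2.1 (hfix2 v v.2.1) fun a ha => Subgroup.mem_centralizer_iff.1 (f v).2.2 a ha
  have hker : f.ker ≤ P.subgroupOf V₀ := by
    intro v hv
    have h : a₀ * v * a₀⁻¹ * (v : G) = 1 := congrArg Subtype.val hv
    refine hfixA _ v.2.1 ?_ fun a ha => Subgroup.mem_centralizer_iff.1 v.2.2 a ha
    show a₀ * (v : G) * a₀⁻¹ = (v : G)
    rw [eq_inv_of_mul_eq_one_left h, inv_eq_of_mul_eq_one_right (hW2 v v.2.1)]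
  have hcardP : Nat.card (P.subgroupOf V₀) = Nat.card P :=
    Nat.card_congr (Subgroup.subgroupOfEquivOfLe hPV₀).toEquiv
  have hV₀le : Nat.card V₀ ≤ Nat.card P * Nat.card P := by
    rw [Subgroup.card_eq_card_quotient_mul_card_subgroup f.ker,
      Nat.card_congr (QuotientGroup.quotientKerEquivRange f).toEquiv, ← hcardP]
    exact Nat.mul_le_mul (Subgroup.card_le_of_le hrange) (Subgroup.card_le_of_le hker)
  have hPsq : Nat.card P * Nat.card P ≤ Nat.card V₀ := by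
    rw [← Nat.card_prod]
    refine Nat.card_le_card_of_injective
      (fun p => (⟨(p.1 : G) * (x * p.2 * x⁻¹), mul_mem (hPV₀ p.1.2) (hxV₀ _ (hPV₀ p.2.2))⟩ : V₀)) ?_
    intro p q e
    have e' : (p.1 : G) * (x * p.2 * x⁻¹) = q.1 * (x * q.2 * x⁻¹) := congrArg Subtype.val e
    set s := (p.2 : G) * (q.2 : G)⁻¹ with hs
    have hsP : s ∈ P := mul_mem p.2.2 (inv_mem q.2.2)
    have hxs : x * s * x⁻¹ ∈ P := by
      have h : x * s * x⁻¹ = (p.1 : G)⁻¹ * q.1 := by
        rw [hs, show x * ((p.2 : G) * (q.2 : G)⁻¹) * x⁻¹ = (p.1 : G)⁻¹ * ((p.1 : G) * (x * p.2 * x⁻¹)) * (x * q.2 * x⁻¹)⁻¹ by group, e']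
        group
      rw [h]; exact mul_mem (inv_mem p.1.2) q.1.2
    have hs1 : s = 1 := by
      have hsU := hWU hsP.1
      have h1 := hinvU a₀ ha₀ ha₀' s hsU
      rw [mul_inv_eq_iff_eq_mul.2 (Subgroup.mem_centralizer_iff.1 hxs.2 a₀ ha₀),
        mul_inv_eq_iff_eq_mul.2 (Subgroup.mem_centralizer_iff.1 hsP.2 a₀ ha₀)] at h1
      have hsq : Commute (x ^ 2) s := by
        show x ^ 2 * s = s * x ^ 2
        have h2 : x * (x * s * x⁻¹) * x = x * (x⁻¹ * s * x) * x := congrArg (fun z => x * z * x) h1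
        rw [pow_two]
        calc x * x * s = x * (x * s * x⁻¹) * x := by group
          _ = x * (x⁻¹ * s * x) * x := h2
          _ = s * (x * x) := by group
      have hxu : Commute x s := by
        obtain ⟨k, hk⟩ := hodd
        have e : x = (x ^ 2) ^ (k + 1) := by
          rw [← pow_mul, show 2 * (k + 1) = 2 * k + 1 + 1 by ring, pow_succ, ← hk, pow_orderOf_eq_one, one_mul]
        rw [e]; exact hsq.pow_left _
      exact hfpf s hsP.1 hxu
    have h2 : p.2 = q.2 := Subtype.ext (mul_inv_eq_one.1 hs1)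
    rw [h2] at e'
    exact Prod.ext (Subtype.ext (mul_right_cancel e')) h2
  have hP1 : P ≠ ⊥ := by
    intro h
    obtain ⟨v, hv, hv1, hfx⟩ := exists_fixed_coset (A := A) (V₀ := ⊥) ((O.hT.to_le hA.1)) hWp bot_le (Ne.symm hW1) hAW
      (by rw [Subgroup.normalizer_eq_top]; exact le_top) (by rw [Subgroup.normalizer_eq_top]; exact le_top)
    refine hv1 ((Subgroup.eq_bot_iff_forall _).1 h v ⟨hv, Subgroup.mem_centralizer_iff.2 fun a ha => ?_⟩)
    exact mul_inv_eq_iff_eq_mul.1 (mul_inv_eq_one.1 (Subgroup.mem_bot.1 (hfx a ha)))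
  have hWT : W ≤ T := hWU.trans (hUQ.trans (inf_le_right.trans O.R_le_T))
  have hinfP : ∀ {A₁ X : Subgroup G}, A₁ ≤ A → X ≤ W → A₁ ⊓ X ≤ P := fun {A₁ X} h1 hX v hv =>
    Subgroup.mem_inf.2 ⟨hX hv.2, Subgroup.mem_centralizer_iff.2 fun a ha => hAc a ha v (h1 hv.1)⟩
  have hP2 : Nat.card P = 2 ∧ Nat.card V₀ = 4 := by
    have h1 : Nat.card V₀ = Nat.card P * Nat.card P := le_antisymm hV₀le hPsq
    have h2 := card_mul_le_of_max hA hA₀A (inf_le_left.trans hWT) (isAbExp_mono hWe (inf_le_left : V₀ ≤ W))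
      fun a ha v hv => Subgroup.mem_centralizer_iff.1 hv.2 a ha
    have h3 : Nat.card A * Nat.card (A₀ ⊓ V₀ : Subgroup G) ≤ 2 * Nat.card A₀ * Nat.card P :=
      Nat.mul_le_mul hhalf (Subgroup.card_le_of_le (hinfP hA₀A inf_le_left))
    have h4 : Nat.card P ≤ 2 := by
      have hpos : 0 < Nat.card A₀ * Nat.card P := Nat.mul_pos Nat.card_pos Nat.card_pos
      refine Nat.le_of_mul_le_mul_left ?_ hpos
      calc Nat.card A₀ * Nat.card P * Nat.card P = Nat.card A₀ * Nat.card V₀ := by rw [h1]; ring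
        _ ≤ 2 * Nat.card A₀ * Nat.card P := h2.trans h3
        _ = Nat.card A₀ * Nat.card P * 2 := by ring
    have h5 : 2 ≤ Nat.card P := by
      haveI : Nontrivial P := (Subgroup.nontrivial_iff_ne_bot P).2 hP1
      exact Finite.one_lt_card_iff_nontrivial.2 inferInstance
    exact ⟨le_antisymm h4 h5, by rw [h1, le_antisymm h4 h5]⟩
  have hfull : f.range = P.subgroupOf V₀ := by
    refine Subgroup.eq_of_le_of_card_ge hrange ?_
    have h := Subgroup.card_eq_card_quotient_mul_card_subgroup f.ker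
    rw [Nat.card_congr (QuotientGroup.quotientKerEquivRange f).toEquiv, hP2.2] at h
    have h' := Subgroup.card_le_of_le hker
    rw [hcardP, hP2.1] at h' ⊢
    nlinarith
  have hW4 : Nat.card W = 4 := by
    by_contra hne
    have hne' : V₀ ≠ W := fun e => hne (e ▸ hP2.2)
    obtain ⟨v, hvW, hvV, hvA⟩ := exists_fixed_coset (O.hT.to_le hA.1) hWp inf_le_left hne' hAW hAV₀
      (fun w hw => mem_normalizer_of_le fun v hv => by
        rw [hUc w (hWU hw) v (hWU hv.1), mul_inv_cancel_right]; exact hv)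
    -- make it fixed by `a₀`
    have he : a₀ * v * a₀⁻¹ * v ∈ V₀ := by
      have h := hvA a₀ ha₀
      rwa [inv_eq_of_mul_eq_one_right (hW2 v hvW)] at h
    have heP : a₀ * v * a₀⁻¹ * v ∈ P :=
      hfixA _ he.1 (hfix2 v hvW) fun a ha => Subgroup.mem_centralizer_iff.1 he.2 a ha
    obtain ⟨v₀, hv₀⟩ := hfull.ge (show (⟨_, he⟩ : V₀) ∈ P.subgroupOf V₀ from heP)
    have hv₀' : a₀ * v₀ * a₀⁻¹ * (v₀ : G) = a₀ * v * a₀⁻¹ * v := congrArg Subtype.val hv₀
    set v' := v * (v₀ : G) with hv'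
    have hv'W : v' ∈ W := mul_mem hvW v₀.2.1
    have hv'V : v' ∉ V₀ := fun h => hvV (by
      have h2 := mul_mem h (inv_mem v₀.2)
      rwa [hv', mul_inv_cancel_right] at h2)
    have hfx : a₀ * v' * a₀⁻¹ = v' := by
      have hcU := hWU ((Subgroup.mem_normalizer_iff.1 (hAW ha₀) v).1 hvW)
      have h1 : a₀ * (v₀ : G) * a₀⁻¹ = a₀ * v * a₀⁻¹ * v * v₀ := by
        rw [← hv₀', mul_assoc _ (v₀ : G) (v₀ : G), hW2 _ v₀.2.1, mul_one]
      calc a₀ * v' * a₀⁻¹ = (a₀ * v * a₀⁻¹) * (a₀ * (v₀ : G) * a₀⁻¹) := by rw [hv']; group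
        _ = (a₀ * v * a₀⁻¹) * (a₀ * v * a₀⁻¹) * (v * v₀) := by rw [h1]; group
        _ = v' := by rw [hU2 _ hcU, one_mul]
    set A₁ := A₀ ⊓ Subgroup.centralizer ({v'} : Set G) with hA₁
    have hcz : ∀ a ∈ A₀, a * v' * a⁻¹ * v' ∈ P := by
      intro a ha
      have haA := hA₀A ha
      have hmem : a * v' * a⁻¹ * v' ∈ V₀ := by
        have h1 := hvA a haA
        rw [inv_eq_of_mul_eq_one_right (hW2 v hvW)] at h1
        have hcv := hUc _ (hWU ((Subgroup.mem_normalizer_iff.1 (hAW haA) _).1 v₀.2.1)) v (hWU hvW)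
        rw [show a * v' * a⁻¹ * v' = (a * v * a⁻¹) * ((a * (v₀ : G) * a⁻¹) * v) * v₀ by rw [hv']; group, hcv,
          show (a * v * a⁻¹) * (v * (a * (v₀ : G) * a⁻¹)) * (v₀ : G) = (a * v * a⁻¹ * v) * ((a * (v₀ : G) * a⁻¹) * v₀) by group]
        exact mul_mem h1 (mul_mem ((Subgroup.mem_normalizer_iff.1 (hAV₀ haA) _).1 v₀.2) v₀.2)
      refine hfixA _ hmem.1 ?_ fun b hb => Subgroup.mem_centralizer_iff.1 hmem.2 b hb
      calc a₀ * (a * v' * a⁻¹ * v') * a₀⁻¹ = (a₀ * a) * v' * (a₀ * a)⁻¹ * (a₀ * v' * a₀⁻¹) := by group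
        _ = (a * a₀) * v' * (a * a₀)⁻¹ * v' := by rw [hAc a₀ ha₀ a haA, hfx]
        _ = a * (a₀ * v' * a₀⁻¹) * a⁻¹ * v' := by group
        _ = a * v' * a⁻¹ * v' := by rw [hfx]
    have hA₁2 : Nat.card A₀ ≤ 2 * Nat.card A₁ := by
      refine card_le_two_mul fun a ha b hb ha' hb' => ?_
      refine Subgroup.mem_inf.2 ⟨mul_mem ha hb, Subgroup.mem_centralizer_singleton_iff.2 ?_⟩
      have hne : ∀ c ∈ A₀, c ∉ A₁ → c * v' * c⁻¹ * v' ≠ 1 := fun c hc hc' e =>
        hc' (Subgroup.mem_inf.2 ⟨hc, Subgroup.mem_centralizer_singleton_iff.2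
          (mul_inv_eq_iff_eq_mul.1 (by rw [eq_inv_of_mul_eq_one_left e, inv_eq_of_mul_eq_one_right (hW2 _ hv'W)]))⟩)
      have hone : ∀ p ∈ P, ∀ q ∈ P, p ≠ 1 → q ≠ 1 → p = q := by
        intro p hp q hq hp1 hq1
        by_contra hpq
        haveI := Fintype.ofFinite P
        have hc : ({1, ⟨p, hp⟩, ⟨q, hq⟩} : Finset P).card ≤ Nat.card P := by
          rw [Nat.card_eq_fintype_card]; exact Finset.card_le_univ _
        rw [Finset.card_insert_of_notMem, Finset.card_pair, hP2.1] at hc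
        · omega
        · simpa [Subtype.ext_iff] using hpq
        · simp [Subtype.ext_iff, Ne.symm hp1, Ne.symm hq1]
      have e := hone _ (hcz a ha) _ (hcz b hb) (hne a ha ha') (hne b hb hb')
      have e' : a * v' * a⁻¹ = b * v' * b⁻¹ := mul_right_cancel e
      refine mul_inv_eq_iff_eq_mul.1 ?_
      calc a * b * v' * (a * b)⁻¹ = a * (b * v' * b⁻¹) * a⁻¹ := by group
        _ = (a * a) * v' * (a * a)⁻¹ := by rw [← e']; group
        _ = v' := by rw [hA2 a (hA₀A ha)]; simp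
    set X := W ⊓ Subgroup.centralizer (A₁ : Set G) with hX
    have hV₀X : V₀ ≤ X := inf_le_inf_left _ (Subgroup.centralizer_le (inf_le_left : A₁ ≤ A₀))
    have hv'X : v' ∈ X := Subgroup.mem_inf.2 ⟨hv'W, Subgroup.mem_centralizer_iff.2 fun a ha =>
      (Subgroup.mem_centralizer_singleton_iff.1 ha.2)⟩
    have hxv'X : x * v' * x⁻¹ ∈ X := Subgroup.mem_inf.2 ⟨hxW _ hv'W, Subgroup.mem_centralizer_iff.2 fun a ha =>
      mul_inv_eq_iff_eq_mul.1 (by
        rw [hcomm₀ a ha.1 v' (hWU hv'W), mul_inv_eq_iff_eq_mul.2 (Subgroup.mem_centralizer_singleton_iff.1 ha.2)])⟩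
    have hxv'V : x * v' * x⁻¹ * v' ∉ V₀ := by
      intro h
      let g : V₀ → V₀ := fun u => ⟨x * u * x⁻¹ * u, mul_mem (hxV₀ u u.2) u.2⟩
      have hg : Function.Injective g := by
        intro u w e
        have e' : x * u * x⁻¹ * (u : G) = x * w * x⁻¹ * w := congrArg Subtype.val e
        have h1 := hUc _ (hWU (hxW _ w.2.1)) _ (hWU u.2.1)
        have hwi : (w : G)⁻¹ = w := inv_eq_of_mul_eq_one_right (hW2 w w.2.1)
        refine Subtype.ext (mul_inv_eq_one.1 (hfpf _ (mul_mem u.2.1 (inv_mem w.2.1)) ?_))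
        refine mul_inv_eq_iff_eq_mul.1 ?_
        rw [hwi]
        calc x * ((u : G) * w) * x⁻¹ = x * u * x⁻¹ * u * ((u : G) * (x * w * x⁻¹)) := by
              rw [show x * u * x⁻¹ * (u : G) * ((u : G) * (x * w * x⁻¹)) = x * u * x⁻¹ * ((u : G) * u) * (x * w * x⁻¹) by group,
                hW2 u u.2.1]
              group
          _ = x * w * x⁻¹ * w * ((x * w * x⁻¹) * u) := by rw [e', h1]
          _ = (x * w * x⁻¹) * (x * w * x⁻¹) * ((u : G) * w) := by
            have h2 := hUc _ (hWU (hxW _ w.2.1)) _ (hWU w.2.1)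
            calc x * w * x⁻¹ * w * (x * w * x⁻¹ * u) = x * w * x⁻¹ * ((w : G) * (x * w * x⁻¹)) * u := by group
              _ = x * w * x⁻¹ * ((x * w * x⁻¹) * w) * u := by rw [h2]
              _ = (x * w * x⁻¹) * (x * w * x⁻¹) * ((w : G) * u) := by group
              _ = _ := by rw [hUc _ (hWU w.2.1) _ (hWU u.2.1)]
          _ = (u : G) * w := by rw [hW2 _ (hxW _ w.2.1), one_mul]
      obtain ⟨u, hu⟩ := Finite.surjective_of_injective hg ⟨_, h⟩
      have hu' : x * u * x⁻¹ * (u : G) = x * v' * x⁻¹ * v' := congrArg Subtype.val hu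
      have h1 : v' * (u : G) = 1 := by
        refine hfpf _ (mul_mem hv'W u.2.1) (mul_inv_eq_iff_eq_mul.1 ?_)
        calc x * (v' * (u : G)) * x⁻¹ = x * v' * x⁻¹ * v' * (v' * (x * u * x⁻¹)) := by
              rw [show x * v' * x⁻¹ * v' * (v' * (x * u * x⁻¹)) = x * v' * x⁻¹ * (v' * v') * (x * u * x⁻¹) by group, hW2 v' hv'W]
              group
          _ = x * u * x⁻¹ * u * ((x * u * x⁻¹) * v') := by rw [hu', hUc _ (hWU hv'W) _ (hWU (hxW _ u.2.1))]
          _ = x * u * x⁻¹ * ((u : G) * (x * u * x⁻¹)) * v' := by group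
          _ = x * u * x⁻¹ * ((x * u * x⁻¹) * u) * v' := by rw [hUc _ (hWU u.2.1) _ (hWU (hxW _ u.2.1))]
          _ = (x * u * x⁻¹) * (x * u * x⁻¹) * ((u : G) * v') := by group
          _ = v' * (u : G) := by rw [hW2 _ (hxW _ u.2.1), one_mul, hUc _ (hWU u.2.1) _ (hWU hv'W)]
      refine hv'V ?_
      rw [eq_inv_of_mul_eq_one_left h1]; exact inv_mem u.2
    have h16 : 16 ≤ Nat.card X := by
      have hlag : Nat.card V₀ * V₀.relIndex X = Nat.card X := by
        simpa using Subgroup.relIndex_mul_relIndex ⊥ V₀ X bot_le hV₀X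
      have hXp : IsPGroup 2 X := hWp.to_le inf_le_left
      obtain ⟨n, hn⟩ := IsPGroup.iff_card.1 hXp
      rw [hP2.2] at hlag
      have hd : V₀.relIndex X ∣ 2 ^ n := ⟨4, by rw [← hn, ← hlag]; ring⟩
      obtain ⟨m, -, hm⟩ := (Nat.dvd_prime_pow Nat.prime_two).1 hd
      rcases m with _ | _ | m
      · rw [pow_zero, Subgroup.relIndex_eq_one] at hm
        exact absurd (hm hv'X) hv'V
      · rw [zero_add, pow_one, Subgroup.relIndex_eq_two_iff] at hm
        obtain ⟨c, hc, hall⟩ := hm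
        have hmem : ∀ b ∈ X, b ∉ V₀ → b * c ∈ V₀ := fun b hb hb' =>
          (hall b hb).elim (fun h => h.1) (fun h => absurd h.1 hb')
        have h1 := hmem v' hv'X hv'V
        have h2 := hmem _ hxv'X fun h => hv'V (by
          have h' : v' = x⁻¹ * (x * v' * x⁻¹) * x := by group
          obtain ⟨u, hu⟩ := Finite.surjective_of_injective (f := fun u : V₀ => (⟨x * u * x⁻¹, hxV₀ u u.2⟩ : V₀))
            (fun p q e => Subtype.ext (mul_left_cancel (mul_right_cancel (congrArg Subtype.val e :)))) ⟨_, h⟩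
          have hu' : x * u * x⁻¹ = x * v' * x⁻¹ := congrArg Subtype.val hu
          rw [← mul_left_cancel (mul_right_cancel hu')]; exact u.2)
        refine absurd ?_ hxv'V
        have h3 := mul_mem h2 h1
        have hcc : c * c = 1 := hW2 c hc.1
        have hcv : v' * c = c * v' := hUc _ (hWU hv'W) _ (hWU hc.1)
        rwa [hcv, show x * v' * x⁻¹ * c * (c * v') = x * v' * x⁻¹ * (c * c) * v' by group, hcc, mul_one] at h3
      · rw [← hlag, hm, pow_succ, pow_succ]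
        have : 1 ≤ 2 ^ m := Nat.one_le_pow _ _ (by norm_num)
        omega
    have h2 := card_mul_le_of_max hA ((inf_le_left : A₁ ≤ A₀).trans hA₀A) (inf_le_left.trans hWT)
      (isAbExp_mono hWe (inf_le_left : X ≤ W)) fun a ha v hv => Subgroup.mem_centralizer_iff.1 hv.2 a ha
    have h3 := Subgroup.card_le_of_le (hinfP ((inf_le_left : A₁ ≤ A₀).trans hA₀A) (inf_le_left : X ≤ W))
    rw [hP2.1] at h3
    have h4 : Nat.card A₁ * 16 ≤ Nat.card A₁ * 8 :=
      calc Nat.card A₁ * 16 ≤ Nat.card A₁ * Nat.card X := Nat.mul_le_mul_left _ h16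
        _ ≤ Nat.card A * Nat.card (A₁ ⊓ X : Subgroup G) := h2
        _ ≤ 2 * (2 * Nat.card A₁) * 2 := Nat.mul_le_mul (hhalf.trans (Nat.mul_le_mul_left _ hA₁2)) h3
        _ = Nat.card A₁ * 8 := by ring
    have : 0 < Nat.card A₁ := Nat.card_pos
    omega
  -- `x` has order 3 modulo `R`
  have hx3 : x ^ 3 ∈ R := by
    have hp3 : ∀ w ∈ W, x * (x * w * x⁻¹) * x⁻¹ * (x * w * x⁻¹) * w = 1 := by
      intro w hw
      by_contra hne
      rcases eq_or_ne w 1 with rfl | hw1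
      · simp at hne
      set w₁ := x * w * x⁻¹ with hw₁
      set w₂ := x * w₁ * x⁻¹ with hw₂
      have hn1 : w₁ ≠ w := fun e => hw1 (hfpf w hw (mul_inv_eq_iff_eq_mul.1 e))
      have hn2 : w₂ ≠ w₁ := fun e => hn1 (mul_left_cancel (mul_right_cancel (show x * w₁ * x⁻¹ = x * w * x⁻¹ from e)))
      have hn3 : w₂ ≠ w := by
        intro e
        have hsq : Commute (x ^ 2) w := by
          show x ^ 2 * w = w * x ^ 2
          refine mul_inv_eq_iff_eq_mul.1 ?_
          conv_rhs => rw [← e, hw₂, hw₁]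
          rw [pow_two]; group
        refine hw1 (hfpf w hw ?_)
        obtain ⟨k, hk⟩ := hodd
        have e' : x = (x ^ 2) ^ (k + 1) := by
          rw [← pow_mul, show 2 * (k + 1) = 2 * k + 1 + 1 by ring, pow_succ, ← hk, pow_orderOf_eq_one, one_mul]
        rw [e']; exact hsq.pow_left _
      have hw₁1 : w₁ ≠ 1 := fun e => hw1 (conj_eq_one_iff.1 e)
      have hw₂1 : w₂ ≠ 1 := fun e => hw₁1 (conj_eq_one_iff.1 e)
      have hwi : w⁻¹ = w := inv_eq_of_mul_eq_one_right (hW2 w hw)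
      haveI := Fintype.ofFinite W
      have hc : ({1, ⟨w, hw⟩, ⟨w₁, hxW w hw⟩, ⟨w₂, hxW _ (hxW w hw)⟩, ⟨w₁ * w, mul_mem (hxW w hw) hw⟩} : Finset W).card ≤
          Nat.card W := by
        rw [Nat.card_eq_fintype_card]; exact Finset.card_le_univ _
      rw [Finset.card_insert_of_notMem, Finset.card_insert_of_notMem, Finset.card_insert_of_notMem, Finset.card_pair,
        hW4] at hc
      · omega
      · intro e
        have e' : w₂ = w₁ * w := congrArg Subtype.val e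
        refine hne ?_
        rw [e', show w₁ * w * w₁ * w = w₁ * (w * w₁) * w by group, hUc w (hWU hw) w₁ (hWU (hxW w hw)),
          show w₁ * (w₁ * w) * w = (w₁ * w₁) * (w * w) by group, hW2 _ (hxW w hw), hW2 _ hw, one_mul]
      · simp only [Finset.mem_insert, Finset.mem_singleton, Subtype.ext_iff, not_or]
        exact ⟨Ne.symm hn2, fun e => hw1 (mul_eq_left.1 e.symm)⟩
      · simp only [Finset.mem_insert, Finset.mem_singleton, Subtype.ext_iff, not_or]
        exact ⟨Ne.symm hn1, Ne.symm hn3, fun e => hw₁1 (mul_eq_right.1 e.symm)⟩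
      · simp only [Finset.mem_insert, Finset.mem_singleton, Subtype.ext_iff, OneMemClass.coe_one, not_or]
        refine ⟨Ne.symm hw1, Ne.symm hw₁1, Ne.symm hw₂1, fun e => hn1 ?_⟩
        rw [eq_inv_of_mul_eq_one_left e.symm, hwi]
    have hcU : ∀ u ∈ U, x ^ 3 * u = u * x ^ 3 := by
      intro u hu
      set c := x * u * x⁻¹ * u⁻¹ with hc
      have h := hp3 c ⟨⟨u, hu⟩, rfl⟩
      refine mul_inv_eq_iff_eq_mul.1 ?_
      calc x ^ 3 * u * (x ^ 3)⁻¹ = x * (x * c * x⁻¹) * x⁻¹ * (x * c * x⁻¹) * c * u := by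
            rw [hc, pow_succ, pow_two]; group
        _ = u := by rw [h, one_mul]
    have hinv3 : a₀ * x ^ 3 * a₀⁻¹ * x ^ 3 ∈ R := by
      set r := a₀ * x * a₀⁻¹ * x with hr
      rw [show a₀ * x ^ 3 * a₀⁻¹ * x ^ 3 = r * (x⁻¹ * r * x) * ((x ^ 2)⁻¹ * r * x ^ 2) by rw [hr, pow_succ x 2, pow_two]; group]
      exact mul_mem (mul_mem hinv₀ ((Subgroup.mem_normalizer_iff''.1 hxnR _).1 hinv₀))
        ((Subgroup.mem_normalizer_iff''.1 (pow_mem hxnR 2) _).1 hinv₀)
    have hodd3 : Odd (orderOf (x ^ 3)) := hodd.of_dvd_nat (orderOf_pow_dvd 3)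
    rw [O.eq_one_of_centralizes (pow_mem hxL 3) hodd3 (hAJ ha₀) hinv3 (hext _ (pow_mem hxK 3) hodd3 hcU)]
    exact one_mem _
  have hidx : (Cfsg.pCoreOf 2 K).relIndex K = 3 := by
    rw [hcore, hQ, Subgroup.inf_relIndex_left, ← Subgroup.relIndex_subgroupOf hKL]
    haveI : (R.subgroupOf L).Normal := (Subgroup.normal_subgroupOf_iff_le_normalizer hRL).2 hLR
    let π := QuotientGroup.mk' (R.subgroupOf L)
    have hker' : π.ker = R.subgroupOf L := QuotientGroup.ker_mk' _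
    rw [← hker', Subgroup.relIndex_ker]
    have hmap : (K.subgroupOf L).map π = Subgroup.zpowers (π ⟨x, hxL⟩) := by
      refine le_antisymm ?_ (Subgroup.zpowers_le.2 ⟨⟨x, hxL⟩, hxK, rfl⟩)
      rintro _ ⟨k, hk, rfl⟩
      obtain ⟨i, q, hq, e⟩ := hdec k hk
      refine Subgroup.mem_zpowers_iff.2 ⟨i, ?_⟩
      rw [zpow_natCast, ← map_pow]
      refine QuotientGroup.eq.2 ?_
      show (x ^ i)⁻¹ * (k : G) ∈ R
      rw [e, inv_mul_cancel_left]; exact hq.2
    rw [hmap, Nat.card_zpowers]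
    haveI : Fact (Nat.Prime 3) := ⟨Nat.prime_three⟩
    refine orderOf_eq_prime ?_ fun h => hxR ((QuotientGroup.eq_one_iff (N := R.subgroupOf L) _).1 h)
    rw [← map_pow]
    exact (QuotientGroup.eq_one_iff (N := R.subgroupOf L) _).2 hx3
  refine ⟨K, ⟨hgen, by rw [CfsgLib.Transfer.thompsonSubgroupOf_eq]; exact hKJ, hidx, ?_, by rw [hW]; exact hW4,
    by rw [hW]; exact hW2⟩, hKL, fun h => hxM (h hxK)⟩
  intro S hS hle
  rw [CfsgLib.Transfer.thompsonSubgroupOf_eq] at hS hle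
  rw [CfsgLib.Transfer.thompsonSubgroupOf_eq, CfsgLib.Transfer.thompsonSubgroupOf_eq]
  have hSL : S ≤ L := hS.1.trans (sup_le hKL O.J_le)
  obtain ⟨P₁, hP₁⟩ := (hS.2.1.comap_of_injective L.subtype L.subtype_injective :
    IsPGroup 2 (S.subgroupOf L)).exists_le_sylow
  set S₁ := (P₁ : Subgroup L).map L.subtype with hS₁
  have hSS₁ : S ≤ S₁ := fun s hs => ⟨⟨s, hSL hs⟩, hP₁ hs, rfl⟩
  have hsy : Cfsg.IsSylowTwoIn S₁ L := by
    refine ⟨Subgroup.map_subtype_le _, P₁.2.map _, ?_⟩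
    rw [hS₁, Subgroup.relIndex, ← Subgroup.comap_subtype,
      Subgroup.comap_map_eq_self_of_injective (Subgroup.subtype_injective _)]
    rw [← Nat.not_even_iff_odd, even_iff_two_dvd]
    exact Sylow.not_dvd_index P₁
  exact thompsonJ_mid (huniq S₁ hsy (hle.trans hSS₁)).symm hle hSS₁

/-- A `J(T)`-component outside `M`, when `M` contains the normalizer of `J(T)`. -/
theorem Over.exists_component (O : Over T L) {M : Subgroup G} (hTM : T ≤ M)
    (hNJ : Subgroup.normalizer (CfsgLib.Transfer.thompsonJ 2 T : Set G) ≤ M) (hLM : ¬ L ≤ M)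
    (huniq : ∀ S : Subgroup G, Cfsg.IsSylowTwoIn S L → CfsgLib.Transfer.thompsonJ 2 T ≤ S →
      CfsgLib.Transfer.thompsonJ 2 S = CfsgLib.Transfer.thompsonJ 2 T) :
    ∃ K : Subgroup G, Cfsg.IsJComponent T K ∧ K ≤ L ∧ ¬ K ≤ M :=
  O.exists_component_of_local hTM (fun _ hn _ => hNJ hn) hLM huniq

end CfsgLib.JComp
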