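import Cfsg.Agent.Lib.JComp.Core

/-!
# Elements acting fixed-point-freely on a four-group
-/

set_option autoImplicit false

namespace CfsgLib.JComp

open scoped commutatorElement

variable {G : Type*} [Group G]

/-- `g` normalizes `W` and fixes no non-trivial element of it. -/
structure Moves (g : G) (W : Subgroup G) : Prop where
  norm : ∀ w ∈ W, g * w * g⁻¹ ∈ W
  fpf : ∀ w ∈ W, g * w = w * g → w = 1

/-- Two different images generate a four-group. -/
theorem Moves.le_of_mem [Finite G] {g : G} {W X : Subgroup G} (hg : Moves g W) (h4 : Nat.card W = 4)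
    {w : G} (hw : w ∈ W) (hw1 : w ≠ 1) (hX : w ∈ X) (hgX : g * w * g⁻¹ ∈ X) : W ≤ X := by
  classical
  have hle : W ⊓ X ≤ W := inf_le_left
  haveI := Fintype.ofFinite (W ⊓ X : Subgroup G)
  have h3 : 3 ≤ Nat.card (W ⊓ X : Subgroup G) := by
    have hc : ({1, ⟨w, hw, hX⟩, ⟨g * w * g⁻¹, hg.norm w hw, hgX⟩} : Finset (W ⊓ X : Subgroup G)).card ≤
        Nat.card (W ⊓ X : Subgroup G) := by
      rw [Nat.card_eq_fintype_card]; exact Finset.card_le_univ _
    rwa [Finset.card_insert_of_notMem, Finset.card_pair] at hc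
    · simp only [ne_eq, Subtype.ext_iff]
      exact fun e => hw1 (hg.fpf w hw (mul_inv_eq_iff_eq_mul.1 e.symm))
    · simp only [Finset.mem_insert, Finset.mem_singleton, Subtype.ext_iff, OneMemClass.coe_one, not_or]
      exact ⟨Ne.symm hw1, fun e => hw1 (conj_eq_one_iff.1 e.symm)⟩
  have hd := Subgroup.card_dvd_of_le hle
  rw [h4] at hd
  have h44 := Nat.le_of_dvd (by norm_num) hd
  have : Nat.card (W ⊓ X : Subgroup G) = 4 := by
    generalize Nat.card (W ⊓ X : Subgroup G) = n at h3 hd h44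
    interval_cases n <;> simp_all
  exact (Subgroup.eq_of_le_of_card_ge hle (by rw [this, h4])).symm.le.trans inf_le_right

/-- A 2-group on `W` whose set of fixed points is preserved by a fixed-point-free element is trivial. -/
theorem Moves.centralizes [Finite G] {g : G} {W Q : Subgroup G} (hg : Moves g W) (h4 : Nat.card W = 4)
    (hQ : IsPGroup 2 Q) (hQW : ∀ q ∈ Q, ∀ w ∈ W, q * w * q⁻¹ ∈ W)
    (hcompat : ∀ w ∈ W, (∀ q ∈ Q, q * w = w * q) → ∀ q ∈ Q, q * (g * w * g⁻¹) = (g * w * g⁻¹) * q) :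
    ∀ q ∈ Q, ∀ w ∈ W, q * w = w * q := by
  classical
  haveI : Fact (Nat.Prime 2) := ⟨Nat.prime_two⟩
  let act : MulAction Q (W : Type _) :=
    { smul := fun q w => ⟨(q : G) * w * (q : G)⁻¹, hQW q q.2 w w.2⟩
      one_smul := fun w => Subtype.ext (by show (1 : G) * w * (1 : G)⁻¹ = w; simp)
      mul_smul := fun a b w => Subtype.ext (by
        show (a : G) * b * w * ((a : G) * b)⁻¹ = (a : G) * ((b : G) * w * (b : G)⁻¹) * (a : G)⁻¹
        group) }
  have h1 : (1 : W) ∈ MulAction.fixedPoints Q W := fun q => Subtype.ext (by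
    show (q : G) * (1 : G) * (q : G)⁻¹ = 1; group)
  obtain ⟨w, hw, hw1⟩ := hQ.exists_fixed_point_of_prime_dvd_card_of_fixed_point (α := W)
    (by rw [h4]; norm_num) h1
  have hfix : ∀ q ∈ Q, q * (w : G) = (w : G) * q := fun q hq =>
    mul_inv_eq_iff_eq_mul.1 (congrArg Subtype.val (hw ⟨q, hq⟩))
  have hgw := hcompat w w.2 hfix
  let F : Subgroup G := Subgroup.centralizer (Q : Set G)
  have hle : W ≤ F := hg.le_of_mem h4 w.2 (fun e => hw1 (Subtype.ext e.symm))
    (Subgroup.mem_centralizer_iff.2 hfix) (Subgroup.mem_centralizer_iff.2 hgw)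
  intro q hq x hx
  exact Subgroup.mem_centralizer_iff.1 (hle hx) q hq

/-- A 2-group normalized by `g` centralizes `W`. -/
theorem Moves.centralizes_of_normalizes [Finite G] {g : G} {W Q : Subgroup G} (hg : Moves g W)
    (h4 : Nat.card W = 4) (hQ : IsPGroup 2 Q) (hQW : ∀ q ∈ Q, ∀ w ∈ W, q * w * q⁻¹ ∈ W)
    (hgQ : ∀ q ∈ Q, g⁻¹ * q * g ∈ Q) : ∀ q ∈ Q, ∀ w ∈ W, q * w = w * q := by
  refine hg.centralizes h4 hQ hQW fun w _ hfix q hq => ?_
  have h := hfix _ (hgQ q hq)
  have h' := congrArg (fun z => g * z * g⁻¹) h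
  simpa [mul_assoc] using h'

/-- An element of 2-power order commuting with `g` on `W` centralizes `W`. -/
theorem Moves.centralizes_of_commute [Finite G] {g j : G} {W : Subgroup G} (hg : Moves g W)
    (h4 : Nat.card W = 4) (hj : IsPGroup 2 (Subgroup.zpowers j)) (hjW : ∀ w ∈ W, j * w * j⁻¹ ∈ W)
    (hjW' : ∀ w ∈ W, j⁻¹ * w * j ∈ W)
    (hc : ∀ w ∈ W, j * (g * w * g⁻¹) * j⁻¹ = g * (j * w * j⁻¹) * g⁻¹) :
    ∀ w ∈ W, j * w = w * j := by
  have hn : ∀ q ∈ Subgroup.zpowers j, ∀ w ∈ W, q * w * q⁻¹ ∈ W := by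
    intro q hq w hw
    have hjn : j ∈ Subgroup.normalizer (W : Set G) := Subgroup.mem_normalizer_iff.2 fun x => ⟨hjW x, fun hx => by
      simpa [mul_assoc] using hjW' _ hx⟩
    exact (Subgroup.mem_normalizer_iff.1 (Subgroup.zpowers_le.2 hjn hq) w).1 hw
  intro w hw
  refine hg.centralizes h4 hj hn (fun v hv hfix => ?_) j (Subgroup.mem_zpowers j) w hw
  have h1 : j * (g * v * g⁻¹) = (g * v * g⁻¹) * j := by
    refine mul_inv_eq_iff_eq_mul.1 ?_
    rw [hc v hv, mul_inv_eq_iff_eq_mul.2 (hfix j (Subgroup.mem_zpowers j))]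
  have h2 : Subgroup.zpowers j ≤ Subgroup.centralizer ({g * v * g⁻¹} : Set G) :=
    Subgroup.zpowers_le.2 (Subgroup.mem_centralizer_singleton_iff.2 h1)
  exact fun q hq => Subgroup.mem_centralizer_singleton_iff.1 (h2 hq)

/-- An odd order element of a component moving `W` does so fixed-point-freely. -/
theorem Setting.moves [Finite G] {T K : Subgroup G} (S : Setting T K) :
    ∃ g ∈ K, Odd (orderOf g) ∧ Moves g (Cfsg.wOf K) := by
  classical
  obtain ⟨g, hg, hodd, x, hx, hne⟩ := S.exists_odd_moves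
  refine ⟨g, hg, hodd, fun w hw => S.normalizes_W (Subgroup.mem_sup_left hg) hw, fun w hw hgw => ?_⟩
  by_contra hw1
  -- an element of odd order fixing two points of a four-group fixes everything
  have hx1 : x ≠ 1 := fun h => hne (by rw [h, mul_one, one_mul])
  let φ := phi S ⟨g, Subgroup.mem_sup_left hg⟩
  have hfix : φ ⟨w, hw, hw1⟩ = ⟨w, hw, hw1⟩ := Subtype.ext (mul_inv_eq_iff_eq_mul.2 hgw)
  have h3 : orderOf φ ∣ orderOf g := by
    rw [← Subgroup.orderOf_mk g (Subgroup.mem_sup_left hg : g ∈ K ⊔ CfsgLib.Transfer.thompsonJ 2 T)]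
    exact orderOf_map_dvd _ _
  haveI := Fintype.ofFinite (Pts K)
  have hsupp : φ.support.card ≤ 2 := by
    have hsub : φ.support ⊆ Finset.univ.erase ⟨w, hw, hw1⟩ := fun y hy =>
      Finset.mem_erase.2 ⟨fun e => Equiv.Perm.mem_support.1 hy (by rw [e, hfix]), Finset.mem_univ _⟩
    refine (Finset.card_le_card hsub).trans ?_
    rw [Finset.card_erase_of_mem (Finset.mem_univ _), Finset.card_univ, ← Nat.card_eq_fintype_card, S.card_pts]
  have hsq : φ * φ = 1 := by
    rcases Nat.lt_or_ge φ.support.card 2 with h | h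
    · have h1 : φ = 1 := Equiv.Perm.card_support_le_one.1 (by omega)
      rw [h1, mul_one]
    · obtain ⟨a, b, hab, e⟩ := Equiv.Perm.card_support_eq_two.1 (le_antisymm hsupp h)
      rw [e, Equiv.swap_mul_self]
  have h1 : φ = 1 := by
    have h2 := orderOf_dvd_of_pow_eq_one (x := φ) (n := 2) (by rw [pow_two]; exact hsq)
    exact orderOf_eq_one_iff.1 (Nat.eq_one_of_dvd_coprimes hodd.coprime_two_right h3 h2)
  exact hne ((phi_eq_one_iff S _).1 h1 x hx)

end CfsgLib.JComp
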