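import Cfsg.Agent.Lib.FFPair.Structure

/-!
# The odd part of a group generated by offenders over `F₂`
-/

set_option autoImplicit false
set_option linter.style.haveILetI false

namespace Cfsg.Agent.FFPair

open Cfsg CfsgLib
open scoped commutatorElement MatrixGroups Pointwise

universe u

variable {G : Type u} [Group G] [Finite G] {V K H A B : Subgroup G}

/-- The subgroup generated by the `[K, A]`. -/
abbrev oddPart (V K H : Subgroup G) : Subgroup G :=
  ⨆ A : {A : Subgroup G // Tv 2 V H A}, ⁅K, (A : Subgroup G)⁆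

theorem card_sl2_two : Nat.card SL(2, ZMod 2) = 6 := by
  rw [Nat.card_eq_fintype_card]; decide

theorem card_line (hS : Setting 2 V K H) (hA : Tv 2 V H A) : Nat.card ↥⁅K, A⁆ = 3 := by
  have D := compData hS hA
  obtain ⟨e⟩ := D.sl2
  have h := D.card
  rw [Nat.card_congr e.toEquiv, card_sl2_two] at h
  omega

theorem odd_of_mem (hS : Setting 2 V K H) {g : G} (hg : g ∈ K) : Odd (orderOf g) := by
  have h : Odd (Nat.card K) := Nat.coprime_two_right.1 hS.cop
  have hd := orderOf_dvd_natCard (⟨g, hg⟩ : K)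
  rw [Subgroup.orderOf_mk] at hd
  exact h.of_dvd_nat hd

theorem comp_inf (hS : Setting 2 V K H) (hA : Tv 2 V H A) : comp K A ⊓ K = ⁅K, A⁆ := by
  have D := compData hS hA
  refine (Subgroup.eq_of_le_of_card_ge (le_inf le_sup_left (comm_le hS hA)) ?_).symm
  rw [card_line hS hA]
  have hd := Subgroup.card_dvd_of_le (inf_le_left : comp K A ⊓ K ≤ comp K A)
  rw [D.card, card_line hS hA] at hd
  have h3 : Nat.card (comp K A ⊓ K : Subgroup G) ∣ 3 := by
    refine (Nat.Coprime.dvd_of_dvd_mul_right ?_ hd)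
    exact hS.cop.coprime_dvd_left (Subgroup.card_dvd_of_le inf_le_right)
  exact Nat.le_of_dvd (by norm_num) h3

theorem line_eq_of_comp_eq (hS : Setting 2 V K H) (hA : Tv 2 V H A) (hB : Tv 2 V H B)
    (h : comp K A = comp K B) : ⁅K, A⁆ = ⁅K, B⁆ := by
  rw [← comp_inf hS hA, ← comp_inf hS hB, h]

theorem commute_of_line_ne (hS : Setting 2 V K H) (hA : Tv 2 V H A) (hB : Tv 2 V H B)
    (h : comp K A ≠ comp K B) : ∀ x ∈ comp K A, ∀ y ∈ comp K B, x * y = y * x := by
  have hne : modl V K A ≠ modl V K B := fun e => h (comp_eq_of_eq hS hA hB e)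
  intro x hx y hy
  have := Subgroup.commutator_mem_commutator hx hy
  rw [(commute_of_ne hS hA hB hne).2, Subgroup.mem_bot] at this
  exact commutatorElement_eq_one_iff_mul_comm.1 this

theorem line_cyclic (hS : Setting 2 V K H) (hA : Tv 2 V H A) {x : G} (hx : x ∈ ⁅K, A⁆) (hx1 : x ≠ 1) :
    Subgroup.zpowers x = ⁅K, A⁆ := by
  refine Subgroup.eq_of_le_of_card_ge (Subgroup.zpowers_le.2 hx) ?_
  have hd := orderOf_dvd_natCard (⟨x, hx⟩ : ↥⁅K, A⁆)
  rw [Subgroup.orderOf_mk, card_line hS hA] at hd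
  rw [card_line hS hA, Nat.card_zpowers]
  rcases (Nat.dvd_prime Nat.prime_three).1 hd with h | h
  · exact absurd (orderOf_eq_one_iff.1 h) hx1
  · exact h.ge

theorem line_commute (hS : Setting 2 V K H) (hA : Tv 2 V H A) (hB : Tv 2 V H B)
    {x y : G} (hx : x ∈ ⁅K, A⁆) (hy : y ∈ ⁅K, B⁆) : x * y = y * x := by
  by_cases h : comp K A = comp K B
  · rw [← line_eq_of_comp_eq hS hA hB h] at hy
    by_cases hx1 : x = 1
    · rw [hx1, one_mul, mul_one]
    · rw [← line_cyclic hS hA hx hx1] at hy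
      obtain ⟨k, rfl⟩ := Subgroup.mem_zpowers_iff.1 hy
      exact (Commute.self_zpow x k).eq
  · exact commute_of_line_ne hS hA hB h x (le_sup_left (b := A) hx) y (le_sup_left (b := B) hy)

theorem oddPart_le (hS : Setting 2 V K H) : oddPart V K H ≤ K := iSup_le fun A => comm_le hS A.2

theorem oddPart_comm (hS : Setting 2 V K H) : ∀ x ∈ oddPart V K H, ∀ y ∈ oddPart V K H, x * y = y * x := by
  have h : oddPart V K H ≤ Subgroup.centralizer (oddPart V K H : Set G) := by
    refine iSup_le fun A => Subgroup.le_centralizer_iff.1 (iSup_le fun B => ?_)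
    intro y hy
    exact Subgroup.mem_centralizer_iff.2 fun x hx => line_commute hS A.2 B.2 hx hy
  intro x hx y hy
  exact (Subgroup.mem_centralizer_iff.1 (h hx) y hy).symm

theorem le_normalizer_line (hS : Setting 2 V K H)
    (hS3 : H = ⨆ A : {A : Subgroup G // A ≤ H ∧ IsBestOffenderOn 2 V A}, (A : Subgroup G))
    (hA : Tv 2 V H A) : H ≤ Subgroup.normalizer ((⁅K, A⁆ : Subgroup G) : Set G) := by
  rw [← comp_inf hS hA]
  exact Coprime.le_normalizer_inf_of_le (normalizes_comp hS hS3 hA) hS.knorm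

theorem le_normalizer_oddPart (hS : Setting 2 V K H)
    (hS3 : H = ⨆ A : {A : Subgroup G // A ≤ H ∧ IsBestOffenderOn 2 V A}, (A : Subgroup G)) :
    H ≤ Subgroup.normalizer (oddPart V K H : Set G) := by
  have key : ∀ h ∈ H, ∀ x ∈ oddPart V K H, h * x * h⁻¹ ∈ oddPart V K H := by
    intro h hh
    suffices oddPart V K H ≤ (oddPart V K H).comap (MulAut.conj h).toMonoidHom from fun x hx => this hx
    refine iSup_le fun A x hx => ?_
    exact Subgroup.mem_iSup_of_mem A ((Subgroup.mem_normalizer_iff.1 (le_normalizer_line hS hS3 A.2 hh) x).1 hx)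
  intro h hh
  refine Subgroup.mem_normalizer_iff.2 fun x => ⟨key h hh x, fun hx => ?_⟩
  simpa [mul_assoc] using key h⁻¹ (inv_mem hh) _ hx

/-- Modulo the odd part the group is an elementary abelian 2-group. -/
theorem sq_mem_oddPart (hS : Setting 2 V K H)
    (hS3 : H = ⨆ A : {A : Subgroup G // A ≤ H ∧ IsBestOffenderOn 2 V A}, (A : Subgroup G)) :
    ∀ h ∈ H, h * h ∈ oddPart V K H := by
  set X := oddPart V K H with hX
  have hXH : X ≤ H := (oddPart_le hS).trans hS.le
  haveI : (X.subgroupOf H).Normal :=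
    (Subgroup.normal_subgroupOf_iff_le_normalizer hXH).2 (le_normalizer_oddPart hS hS3)
  let π := QuotientGroup.mk' (X.subgroupOf H)
  let gens : Set (↥H ⧸ X.subgroupOf H) := π '' {a : H | ∃ A, Tv 2 V H A ∧ (a : G) ∈ A}
  have hg : ∀ s ∈ gens, s * s = 1 ∧ ∀ s' ∈ gens, s * s' = s' * s := by
    rintro _ ⟨a, ⟨A, hA, ha⟩, rfl⟩
    have haa : (a : G) * a = 1 := by
      have h := orderOf_dvd_natCard (⟨(a : G), ha⟩ : A)
      rw [hA.card] at h
      have h2 := congrArg Subtype.val (orderOf_dvd_iff_pow_eq_one.1 h)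
      simpa [pow_two] using h2
    refine ⟨by rw [← map_mul, show a * a = 1 from Subtype.ext haa, map_one], ?_⟩
    rintro _ ⟨b, ⟨B, hB, hb⟩, rfl⟩
    rw [← map_mul, ← map_mul]
    refine QuotientGroup.eq.2 ?_
    show ((a : G) * b)⁻¹ * ((b : G) * a) ∈ X
    have hbb : (b : G) * b = 1 := by
      have h := orderOf_dvd_natCard (⟨(b : G), hb⟩ : B)
      rw [hB.card] at h
      have h2 := congrArg Subtype.val (orderOf_dvd_iff_pow_eq_one.1 h)
      simpa [pow_two] using h2
    by_cases h : comp K A = comp K B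
    · -- the commutator lies in the line
      have hn : (comp K A) ≤ Subgroup.normalizer ((⁅K, A⁆ : Subgroup G) : Set G) :=
        (compData hS hA).le.trans (le_normalizer_line hS hS3 hA)
      have hbm : (b : G) ∈ comp K A := h ▸ (le_sup_right : B ≤ comp K B) hb
      have hAn : A ≤ Subgroup.normalizer ((⁅K, A⁆ : Subgroup G) : Set G) := le_sup_right.trans hn
      have hbm' : (b : G) ∈ ((⁅K, A⁆ : Subgroup G) : Set G) * (A : Set G) := by
        rw [← Subgroup.coe_mul_of_right_le_normalizer_left _ _ hAn]; exact hbm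
      obtain ⟨x, hx, a', ha', hxa⟩ := hbm'
      have hx1 : x ∈ ⁅K, A⁆ := hx
      have haa' : (a : G) * a' = a' * a := by
        rcases eq_or_ne (a : G) 1 with h1 | h1
        · rw [h1, one_mul, mul_one]
        · have hz : Subgroup.zpowers (a : G) = A := by
            refine Subgroup.eq_of_le_of_card_ge (Subgroup.zpowers_le.2 ha) ?_
            rw [hA.card, Nat.card_zpowers, orderOf_eq_prime (p := 2) (by rw [pow_two]; exact haa) h1]
          have hm : a' ∈ Subgroup.zpowers (a : G) := by rw [hz]; exact ha'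
          obtain ⟨k, rfl⟩ := Subgroup.mem_zpowers_iff.1 hm
          exact (Commute.self_zpow _ k).eq
      have e : ((a : G) * b)⁻¹ * ((b : G) * a) = a'⁻¹ * (x⁻¹ * ((a : G)⁻¹ * x * a)) * a' := by
        rw [← hxa]
        calc ((a : G) * (x * a'))⁻¹ * (x * a' * a) = a'⁻¹ * x⁻¹ * (a : G)⁻¹ * x * (a' * a) := by group
          _ = a'⁻¹ * x⁻¹ * (a : G)⁻¹ * x * (a * a') := by rw [haa']
          _ = _ := by group
      rw [e]
      refine Subgroup.mem_iSup_of_mem ⟨A, hA⟩ ?_
      exact (Subgroup.mem_normalizer_iff''.1 (hAn ha') _).1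
        (mul_mem (inv_mem hx1) ((Subgroup.mem_normalizer_iff''.1 (hAn ha) x).1 hx1))
    · rw [commute_of_line_ne hS hA hB h a (le_sup_right (a := ⁅K, A⁆) ha) b (le_sup_right (a := ⁅K, B⁆) hb),
        inv_mul_cancel]
      exact one_mem _
  have hcl : Subgroup.closure gens = ⊤ := by
    rw [show gens = π '' {a : H | ∃ A, Tv 2 V H A ∧ (a : G) ∈ A} from rfl, ← MonoidHom.map_closure, eq_top_iff]
    rintro q -
    obtain ⟨h, rfl⟩ := QuotientGroup.mk'_surjective _ q
    refine ⟨h, ?_, rfl⟩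
    have hle : H ≤ (Subgroup.closure {a : H | ∃ A, Tv 2 V H A ∧ (a : G) ∈ A}).map H.subtype := by
      conv_lhs => rw [le_iSup_tv hS hS3]
      exact iSup_le fun A x hx => ⟨⟨x, A.2.le hx⟩, Subgroup.subset_closure ⟨A.1, A.2, hx⟩, rfl⟩
    obtain ⟨h', hh', e⟩ := hle h.2
    rwa [Subtype.ext e] at hh'
  have hcen : ∀ q : ↥H ⧸ X.subgroupOf H, ∀ s ∈ gens, s * q = q * s := by
    intro q s hs
    have hle : Subgroup.closure gens ≤ Subgroup.centralizer ({s} : Set _) :=
      (Subgroup.closure_le _).2 fun s' hs' => Subgroup.mem_centralizer_singleton_iff.2 ((hg s' hs').2 s hs)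
    exact (Subgroup.mem_centralizer_singleton_iff.1 (hle (by rw [hcl]; trivial))).symm
  have hcomm : ∀ p q : ↥H ⧸ X.subgroupOf H, p * q = q * p := by
    intro p q
    have hle : Subgroup.closure gens ≤ Subgroup.centralizer ({q} : Set _) :=
      (Subgroup.closure_le _).2 fun s hs => Subgroup.mem_centralizer_singleton_iff.2 (hcen q s hs)
    exact Subgroup.mem_centralizer_singleton_iff.1 (hle (by rw [hcl]; trivial))
  intro h hh
  have hq : ∀ q ∈ Subgroup.closure gens, q * q = 1 := by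
    intro q hq
    induction hq using Subgroup.closure_induction with
    | mem s hs => exact (hg s hs).1
    | one => exact one_mul 1
    | mul a b _ _ iha ihb => rw [mul_assoc, ← mul_assoc b, hcomm b a, mul_assoc a b, ihb, mul_one, iha]
    | inv a _ iha => rw [← mul_inv_rev, iha, inv_one]
  have := hq (π ⟨h, hh⟩) (by rw [hcl]; trivial)
  rw [← map_mul] at this
  exact (QuotientGroup.eq_one_iff (N := X.subgroupOf H) _).1 this

/-- Elements of odd order lie in the odd part. -/
theorem odd_mem_oddPart (hS : Setting 2 V K H)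
    (hS3 : H = ⨆ A : {A : Subgroup G // A ≤ H ∧ IsBestOffenderOn 2 V A}, (A : Subgroup G))
    {h : G} (hh : h ∈ H) (hodd : Odd (orderOf h)) : h ∈ oddPart V K H := by
  obtain ⟨k, hk⟩ := hodd
  have h1 : h = (h * h) ^ (k + 1) := by
    rw [← pow_two, ← pow_mul, show 2 * (k + 1) = 2 * k + 1 + 1 by ring, pow_succ, ← hk,
      pow_orderOf_eq_one, one_mul]
  rw [h1]
  exact pow_mem (sq_mem_oddPart hS hS3 h hh) _

/-- Two transvection groups in a 2-subgroup with the same component are equal. -/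
theorem eq_of_comp_eq (hS : Setting 2 V K H) (hA : Tv 2 V H A) (hB : Tv 2 V H B) {P : Subgroup G}
    (hP : IsPGroup 2 P) (hAP : A ≤ P) (hBP : B ≤ P) (h : comp K A = comp K B) : A = B := by
  have D := compData hS hA
  have hle : P ⊓ comp K A ≤ comp K A := inf_le_right
  have hd := Subgroup.card_dvd_of_le hle
  rw [D.card, card_line hS hA] at hd
  obtain ⟨n, hn⟩ := IsPGroup.iff_card.1 (hP.to_le (inf_le_left : P ⊓ comp K A ≤ P))
  rw [hn] at hd
  have h2 : 2 ^ n ∣ 2 := Nat.Coprime.dvd_of_dvd_mul_left (Nat.Coprime.pow_left n (by norm_num)) hd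
  have key : ∀ Y : Subgroup G, Y ≤ P ⊓ comp K A → Nat.card Y = 2 → Y = P ⊓ comp K A := fun Y hY hc =>
    Subgroup.eq_of_le_of_card_ge hY (by rw [hn, hc]; exact Nat.le_of_dvd (by norm_num) h2)
  rw [key A (le_inf hAP le_sup_right) hA.card,
    key B (le_inf hBP (h ▸ le_sup_right)) hB.card]

end Cfsg.Agent.FFPair
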