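import Cfsg.Agent.Lib.JComp.Lines
import Cfsg.Agent.Lib.FFPair.Thompson
import Cfsg.Agent.Lib.Transfer.ThompsonJ

/-!
# A solvable group of characteristic 2 in which `J(T)` is not in the 2-core
-/

set_option autoImplicit false
set_option linter.style.haveILetI false

namespace CfsgLib.JComp

open Cfsg Cfsg.Agent.FFPair
open scoped commutatorElement Pointwise IsMulCommutative

universe u

variable {L : Type u} [Group L] [Finite L]

theorem pPrimeCore_eq_bot_of_centralizer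
    (hC : Subgroup.centralizer (Cfsg.pCore 2 L : Set L) ≤ Cfsg.pCore 2 L) : pPrimeCore 2 L = ⊥ := by
  haveI : Fact (Nat.Prime 2) := ⟨Nat.prime_two⟩
  have hn : (pPrimeCore 2 L).Normal := CfsgLib.Transfer.pPrimeCore_normal 2 L
  have hcop : (Nat.card (pPrimeCore 2 L)).Coprime 2 := CfsgLib.Transfer.pPrimeCore_coprime 2
  obtain ⟨k, hk⟩ := IsPGroup.iff_card.1 (CfsgLib.Fitting.pCore_isPGroup (G := L) 2)
  have hcop2 : (Nat.card (pPrimeCore 2 L)).Coprime (Nat.card (Cfsg.pCore 2 L)) := by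
    rw [hk]; exact hcop.pow_right k
  have hinf : pPrimeCore 2 L ⊓ Cfsg.pCore 2 L = ⊥ := Subgroup.inf_eq_bot_of_coprime hcop2
  have hle : pPrimeCore 2 L ≤ Cfsg.pCore 2 L := by
    refine le_trans ?_ hC
    intro x hx
    refine Subgroup.mem_centralizer_iff.2 fun y hy => ?_
    exact (Subgroup.commute_of_normal_of_disjoint _ _ hn (CfsgLib.Fitting.pCore_normal 2)
      (disjoint_iff.2 hinf) x y hx hy).symm
  rwa [inf_eq_left.2 hle] at hinf

theorem thompsonJ_mid {J T₀ T : Subgroup L} (hJ : J = CfsgLib.Transfer.thompsonJ 2 T)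
    (h1 : J ≤ T₀) (h2 : T₀ ≤ T) : CfsgLib.Transfer.thompsonJ 2 T₀ = J := by
  subst hJ
  obtain ⟨A, hA⟩ := CfsgLib.Transfer.thompsonJ_nonempty 2 T
  refine le_antisymm (sSup_le fun B hB => le_sSup ⟨hB.1.trans h2, hB.2.1, fun C hC hCe => ?_⟩)
    (sSup_le fun B hB => le_sSup ⟨(le_sSup hB).trans h1, hB.2.1, fun C hC hCe => hB.2.2 C (hC.trans h2) hCe⟩)
  exact (hA.2.2 C hC hCe).trans (hB.2.2 A ((le_sSup hA).trans h1) hA.2.1)

/-- Maximal elementary abelian subgroups of a Sylow subgroup are maximal in the group. -/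
theorem card_le_of_sylow (T : Sylow 2 L) {A : Subgroup L} (hA : A ∈ CfsgLib.Transfer.maxAbExp 2 (T : Subgroup L))
    {B : Subgroup L} (hB : CfsgLib.Transfer.IsAbExp 2 B) : Nat.card B ≤ Nat.card A := by
  haveI : Fact (Nat.Prime 2) := ⟨Nat.prime_two⟩
  have hp : IsPGroup 2 B := fun b => ⟨1, Subtype.ext (by simpa using hB.2 b b.2)⟩
  obtain ⟨P, hP⟩ := hp.exists_le_sylow
  obtain ⟨g, rfl⟩ := MulAction.exists_smul_eq L T P
  let f : L →* L := (MulAut.conj g⁻¹).toMonoidHom
  have hinj : Function.Injective f := (MulAut.conj g⁻¹).injective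
  have h1 : B.map f ≤ (T : Subgroup L) := by
    rintro _ ⟨b, hb, rfl⟩
    obtain ⟨t, ht, htb⟩ := Subgroup.mem_map.1 (hP hb)
    show g⁻¹ * b * g⁻¹⁻¹ ∈ (T : Subgroup L)
    rw [← htb]
    simpa [mul_assoc] using ht
  have := hA.2.2 _ h1 ((CfsgLib.Transfer.isAbExp_map_iff 2 f hinj.injOn).2 hB)
  rwa [CfsgLib.Transfer.card_map_of_injOn f hinj.injOn] at this

/-- The structure of `⟨J^L⟩ R / R`. -/
theorem local_structure (hsol : Group.IsSolvable L)
    (hC : Subgroup.centralizer (Cfsg.pCore 2 L : Set L) ≤ Cfsg.pCore 2 L) (T : Sylow 2 L)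
    (hJ : ¬ CfsgLib.Transfer.thompsonJ 2 (T : Subgroup L) ≤ Cfsg.pCore 2 L)
    (hcent : ∀ c : L, (∀ v ∈ omegaOne 2 ((T : Subgroup L) ⊓ Subgroup.centralizer ((T : Subgroup L) : Set L)),
      c * v = v * c) → c ∈ Subgroup.normalizer ((T : Subgroup L) : Set L)) :
    ∃ Y : Subgroup L, Y.Normal ∧ Cfsg.pCore 2 L ≤ Y ∧
      (∀ x ∈ Y, ∀ y ∈ Y, ⁅x, y⁆ ∈ Cfsg.pCore 2 L) ∧
      (∀ g ∈ Subgroup.normalClosure (CfsgLib.Transfer.thompsonJ 2 (T : Subgroup L) : Set L),
        Odd (orderOf g) → g ∈ Y) ∧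
      (∀ a ∈ CfsgLib.Transfer.thompsonJ 2 (T : Subgroup L), ∀ b ∈ CfsgLib.Transfer.thompsonJ 2 (T : Subgroup L),
        ⁅a, b⁆ ∈ Cfsg.pCore 2 L) ∧
      (∀ N : Subgroup L, (∀ y ∈ Y, ∀ j ∈ CfsgLib.Transfer.thompsonJ 2 (T : Subgroup L), y * j * y⁻¹ ∈ N) →
        Subgroup.normalClosure (CfsgLib.Transfer.thompsonJ 2 (T : Subgroup L) : Set L) ≤ N) ∧
      (∀ x ∈ Y, ∀ x' ∈ Y, x ∉ Cfsg.pCore 2 L → x' ∉ Cfsg.pCore 2 L →
        (∀ j ∈ CfsgLib.Transfer.thompsonJ 2 (T : Subgroup L),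
          (⁅j, x⁆ ∈ Cfsg.pCore 2 L ∨ j * x * j⁻¹ * x ∈ Cfsg.pCore 2 L) ∧
          (⁅j, x'⁆ ∈ Cfsg.pCore 2 L ∨ j * x' * j⁻¹ * x' ∈ Cfsg.pCore 2 L) ∧
          (⁅j, x⁆ ∈ Cfsg.pCore 2 L ↔ ⁅j, x'⁆ ∈ Cfsg.pCore 2 L)) →
        (∃ j ∈ CfsgLib.Transfer.thompsonJ 2 (T : Subgroup L), ⁅j, x⁆ ∉ Cfsg.pCore 2 L) →
        x' ∈ Subgroup.zpowers x ⊔ Cfsg.pCore 2 L) := by
  classical
  haveI : Fact (Nat.Prime 2) := ⟨Nat.prime_two⟩
  set R := Cfsg.pCore 2 L with hR
  haveI hRn : R.Normal := CfsgLib.Fitting.pCore_normal 2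
  set J := CfsgLib.Transfer.thompsonJ 2 (T : Subgroup L) with hJdef
  have hJT : J ≤ (T : Subgroup L) := CfsgLib.Transfer.thompsonJ_le 2 _
  have hRS : ∀ S : Sylow 2 L, R ≤ (S : Subgroup L) := fun S =>
    IsPGroup.le_sylow_of_normal (CfsgLib.Fitting.pCore_isPGroup 2) S
  have hsep : IsPSolvable 2 L := CfsgLib.PSolvable.isPSolvable_of_isSolvable hsol
  have hO := pPrimeCore_eq_bot_of_centralizer hC
  set V := omegaV 2 L with hVdef
  have hV : IsElementaryAbelian 2 V := omegaV_elem hsep hO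
  haveI : V.Normal := inferInstance
  set C := Subgroup.centralizer (V : Set L) with hCdef
  haveI : C.Normal := inferInstance
  have hRC : R ≤ C := by
    rw [hCdef, Subgroup.le_centralizer_iff]
    refine iSup_le fun S => ?_
    exact ((ZJ.omegaOne_le 2 _).trans inf_le_right).trans (Subgroup.centralizer_le (hRS S))
  have hCT : ∀ c ∈ C, c ∈ Subgroup.normalizer ((T : Subgroup L) : Set L) := fun c hc =>
    hcent c fun v hv => (Subgroup.mem_centralizer_iff.1 hc v (le_iSup (fun S : Sylow 2 L =>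
      omegaOne 2 ((S : Subgroup L) ⊓ Subgroup.centralizer ((S : Subgroup L) : Set L))) T hv)).symm
  -- `C ∩ T = R`
  have hTC : (T : Subgroup L) ⊓ C = R := by
    refine le_antisymm ?_ (le_inf (hRS T) hRC)
    have hp : IsPGroup 2 ((T : Subgroup L) ⊓ C : Subgroup L) := T.2.to_le inf_le_left
    have hCn : C ≤ Subgroup.normalizer (((T : Subgroup L) ⊓ C : Subgroup L) : Set L) :=
      Coprime.le_normalizer_inf_of_le (fun c hc => hCT c hc) Subgroup.le_normalizer
    let P₀ : Subgroup C := ((T : Subgroup L) ⊓ C).subgroupOf C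
    have hidx : ¬ 2 ∣ P₀.index := by
      intro h
      refine T.not_dvd_index ?_
      have h1 : P₀.index = (T : Subgroup L).relIndex C := by
        show ((T : Subgroup L) ⊓ C).relIndex C = _
        rw [Subgroup.inf_relIndex_right]
      have h2 := h.trans (h1 ▸ dvd_refl P₀.index : P₀.index ∣ (T : Subgroup L).relIndex C)
      exact h2.trans (Fitting.relIndex_dvd_index_of_normal_right _ C)
    let P : Sylow 2 C := (hp.comap_of_injective C.subtype C.subtype_injective : IsPGroup 2 P₀).toSylow hidx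
    have hsup := Sylow.normalizer_sup_eq_top P
    have hmap : ((P : Subgroup C).map C.subtype) = (T : Subgroup L) ⊓ C :=
      Subgroup.map_subgroupOf_eq_of_le inf_le_right
    rw [hmap, sup_eq_left.2 hCn] at hsup
    haveI := Subgroup.normalizer_eq_top_iff.1 hsup
    exact CfsgLib.Fitting.le_pCore inferInstance hp
  -- the model
  obtain ⟨M, iM, iF, ⟨D⟩⟩ := exists_model V C le_rfl
  letI := iM
  haveI := iF
  haveI := thompsonSubgroup_normal (G := L) (p := 2)
  set Rp := thompsonSubgroup 2 L ⊔ C with hRp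
  have hS := setting_top D (R := Rp) hV le_sup_right hsep (fun N hN hCN ⟨n, hn⟩ => by
    haveI := hN
    exact eq_centralizer_of_relIndex hCN hn)
  have hS3 := iSup_offenders hV D
  set H := Rp.map D.hom with hH
  set K := (pPrimeCore 2 ↥H).map H.subtype with hK
  set X := oddPart D.img K H with hX
  have hmaxA : ∀ A ∈ CfsgLib.Transfer.maxAbExp 2 (T : Subgroup L),
      A ∈ maxElementaryAbelianSubgroups 2 L := fun A hA =>
    ⟨⟨hA.2.1.1, hA.2.1.2⟩, fun B hB => card_le_of_sylow T hA ⟨hB.1, hB.2⟩⟩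
  have hJle : J ≤ thompsonSubgroup 2 L := sSup_le fun A hA => le_sSup (hmaxA A hA)
  set NC := Subgroup.normalClosure (J : Set L) with hNC
  haveI hNCn : NC.Normal := Subgroup.normalClosure_normal
  have hNCle : NC ≤ thompsonSubgroup 2 L := Subgroup.normalClosure_le_normal hJle
  have hCker : ∀ {g : L}, D.hom g = 1 ↔ g ∈ C := fun {g} => D.mem_ker_iff
  -- the transvection groups inside the image of `J`
  let TB := {B : Subgroup M // Tv 2 D.img H B ∧ B ≤ J.map D.hom}
  have hJgen : J.map D.hom ≤ ⨆ B : TB, (B.1 : Subgroup M) := by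
    refine le_of_eq_of_le (congrArg (Subgroup.map D.hom) (show J = _ from sSup_eq_iSup' _)) ?_
    rw [Subgroup.map_iSup]
    refine iSup_le fun A => ?_
    have hA := hmaxA A.1 A.2
    have hle : A.1.map D.hom ≤ H := Subgroup.map_mono (le_sup_of_le_left (le_sSup hA))
    have hb := D.offender (Cfsg.Agent.S0606.result V hV A.1 hA)
    obtain ⟨k, B, hB, -, hsup⟩ := exists_minimal_product hS hle hb
    rw [← hsup]
    refine iSup_le fun i => ?_
    obtain ⟨h1, h2, h3, h4⟩ := hB i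
    refine le_iSup (fun B : TB => (B.1 : Subgroup M)) ⟨B i, Tv.of_minimal hS (h1.trans hle) h2 h3 h4, ?_⟩
    exact h1.trans (Subgroup.map_mono (le_sSup A.2))
  have hJp : IsPGroup 2 (J.map D.hom) := (T.2.to_le hJT).map _
  -- the subgroup `Y`
  have hXK : X ≤ K := oddPart_le hS
  have hXH : X ≤ H := hXK.trans hS.le
  set N₁ := NC ⊔ R with hN₁
  haveI : N₁.Normal := inferInstance
  have hN₁H : ∀ g ∈ N₁, D.hom g ∈ H := by
    intro g hg
    refine ⟨g, ?_, rfl⟩
    exact sup_le_sup hNCle hRC hg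
  set Y := X.comap D.hom ⊓ N₁ with hY
  have hXconj : ∀ g : L, ∀ x ∈ X, D.hom g * x * (D.hom g)⁻¹ ∈ X := by
    intro g x hx
    have hxH : D.hom g * x * (D.hom g)⁻¹ ∈ H := by
      obtain ⟨r, hr, rfl⟩ := hXH hx
      exact ⟨g * r * g⁻¹, (inferInstance : Rp.Normal).conj_mem r hr g, by simp⟩
    refine odd_mem_oddPart hS hS3 hxH ?_
    have : SemiconjBy (D.hom g) x (D.hom g * x * (D.hom g)⁻¹) := by simp [SemiconjBy]
    rw [← this.orderOf_eq]
    exact odd_of_mem hS (hXK hx)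
  haveI hXc : (X.comap D.hom).Normal := ⟨fun x hx g => by
    rw [Subgroup.mem_comap, map_mul, map_mul, map_inv]
    exact hXconj g _ hx⟩
  haveI hYn : Y.Normal := inferInstance
  have hRY : R ≤ Y := le_inf (fun r hr => by
    rw [Subgroup.mem_comap, hCker.2 (hRC hr)]; exact one_mem _) le_sup_right
  have hsq : ∀ g ∈ N₁, g * g ∈ Y := fun g hg => ⟨by
    show D.hom (g * g) ∈ X
    rw [map_mul]; exact sq_mem_oddPart hS hS3 _ (hN₁H g hg), mul_mem hg hg⟩
  -- `C` centralises `N₁` modulo `R`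
  set π := QuotientGroup.mk' R with hπ
  have hcentral : ∀ c ∈ C, ∀ g ∈ N₁, π c * π g = π g * π c := by
    intro c hc g hg
    have hker : ∀ t ∈ (T : Subgroup L), π c * π t = π t * π c := by
      intro t ht
      rw [← map_mul, ← map_mul]
      refine QuotientGroup.eq.2 ?_
      rw [← hTC]
      refine ⟨?_, ?_⟩
      · show (c * t)⁻¹ * (t * c) ∈ (T : Subgroup L)
        rw [show (c * t)⁻¹ * (t * c) = t⁻¹ * (c⁻¹ * t * c) by group]
        exact mul_mem (inv_mem ht) ((Subgroup.mem_normalizer_iff''.1 (hCT c hc) t).1 ht)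
      · show (c * t)⁻¹ * (t * c) ∈ C
        rw [show (c * t)⁻¹ * (t * c) = t⁻¹ * c⁻¹ * t * c by group]
        refine mul_mem ?_ hc
        simpa using (inferInstance : C.Normal).conj_mem _ (inv_mem hc) t⁻¹
    let Cn : Subgroup L := (Subgroup.centralizer (π '' (C : Set L))).comap π
    have hCn : Cn.Normal := by
      refine ⟨fun x hx a => ?_⟩
      rw [Subgroup.mem_comap, Subgroup.mem_centralizer_iff]
      rintro _ ⟨d, hd, rfl⟩
      have hd' : a⁻¹ * d * a ∈ C := by simpa using (inferInstance : C.Normal).conj_mem d hd a⁻¹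
      have h := congrArg (fun z => π a * z * (π a)⁻¹) (Subgroup.mem_centralizer_iff.1 hx _ ⟨_, hd', rfl⟩)
      simpa [mul_assoc] using h
    have hle : N₁ ≤ Cn := by
      haveI := hCn
      refine sup_le (Subgroup.normalClosure_le_normal ?_) ?_
      · intro t ht
        rw [SetLike.mem_coe, Subgroup.mem_comap, Subgroup.mem_centralizer_iff]
        rintro _ ⟨d, hd, rfl⟩
        have hd' := hCT d hd
        rw [← map_mul, ← map_mul]
        refine QuotientGroup.eq.2 ?_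
        rw [← hTC]
        refine ⟨?_, ?_⟩
        · show (d * t)⁻¹ * (t * d) ∈ (T : Subgroup L)
          rw [show (d * t)⁻¹ * (t * d) = t⁻¹ * (d⁻¹ * t * d) by group]
          exact mul_mem (inv_mem (hJT ht)) ((Subgroup.mem_normalizer_iff''.1 hd' t).1 (hJT ht))
        · show (d * t)⁻¹ * (t * d) ∈ C
          rw [show (d * t)⁻¹ * (t * d) = t⁻¹ * d⁻¹ * t * d by group]
          refine mul_mem ?_ hd
          simpa using (inferInstance : C.Normal).conj_mem _ (inv_mem hd) t⁻¹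
      · intro r hr
        rw [Subgroup.mem_comap, show π r = 1 from (QuotientGroup.eq_one_iff r).2 hr]
        exact one_mem _
    exact Subgroup.mem_centralizer_iff.1 (hle hg) _ ⟨c, hc, rfl⟩
  -- odd order of `Y / R`
  have hoddC : ∀ c ∈ C, π c * π c = 1 → π c = 1 := by
    intro c hc h2
    obtain ⟨S, hS'⟩ : ∃ S : Sylow 2 L, ∃ d : L, π d = π c ∧ d ∈ (S : Subgroup L) := by
      have h4 : c * c ∈ R := by rw [← map_mul] at h2; exact (QuotientGroup.eq_one_iff _).1 h2
      have hp : IsPGroup 2 (Subgroup.zpowers c) := by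
        obtain ⟨k, hk⟩ := CfsgLib.Fitting.pCore_isPGroup (G := L) 2 ⟨_, h4⟩
        have hk' : (c * c) ^ 2 ^ k = 1 := congrArg Subtype.val hk
        rw [IsPGroup.iff_card, Nat.card_zpowers]
        obtain ⟨m, -, hm⟩ := (Nat.dvd_prime_pow Nat.prime_two).1
          (orderOf_dvd_of_pow_eq_one (x := c) (n := 2 ^ (k + 1)) (by rw [pow_succ', pow_mul, pow_two, hk']))
        exact ⟨m, hm⟩
      obtain ⟨S, hle⟩ := hp.exists_le_sylow
      exact ⟨S, c, rfl, hle (Subgroup.mem_zpowers c)⟩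
    obtain ⟨d, hd, hdS⟩ := hS'
    have hdC : d ∈ C := by
      have := QuotientGroup.eq.1 hd
      have h2 : d = c * (d⁻¹ * c)⁻¹ := by group
      rw [h2]; exact mul_mem hc (inv_mem (hRC this))
    obtain ⟨g, rfl⟩ := MulAction.exists_smul_eq L T S
    obtain ⟨t, ht, htd⟩ := Subgroup.mem_map.1 hdS
    have htd' : g * t * g⁻¹ = d := htd
    have htC : t ∈ C := by
      rw [show t = g⁻¹ * d * g by rw [← htd']; group]
      simpa using (inferInstance : C.Normal).conj_mem d hdC g⁻¹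
    have htR : t ∈ R := by rw [← hTC]; exact ⟨ht, htC⟩
    rw [← hd, ← htd']
    exact (QuotientGroup.eq_one_iff _).2 (hRn.conj_mem t htR g)
  have hoddY : ∀ y ∈ Y, π y * π y = 1 → π y = 1 := by
    intro y hy h2
    refine hoddC y (hCker.1 ?_) h2
    rw [← map_mul] at h2
    have h4 : D.hom y * D.hom y = 1 := by
      rw [← map_mul]; exact hCker.2 (hRC ((QuotientGroup.eq_one_iff _).1 h2))
    have h5 := orderOf_dvd_of_pow_eq_one (x := D.hom y) (n := 2) (by rw [pow_two]; exact h4)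
    exact orderOf_eq_one_iff.1 (Nat.eq_one_of_dvd_coprimes
      (odd_of_mem hS (hXK hy.1)).coprime_two_right dvd_rfl h5)
  -- the involutions
  have hlift : ∀ B : TB, ∃ j ∈ J, D.hom j ∈ B.1 ∧ D.hom j ≠ 1 := by
    intro B
    have hne : B.1 ≠ ⊥ := B.2.1.ne_bot
    obtain ⟨⟨b, hb⟩, hb1⟩ := Subgroup.ne_bot_iff_exists_ne_one.1 hne
    obtain ⟨j, hj, rfl⟩ := B.2.2 hb
    exact ⟨j, hj, hb, fun e => hb1 (Subtype.ext e)⟩
  choose jb hjbJ hjbB hjb1 using hlift
  have hJC : ∀ j ∈ J, j ∈ C → π j = 1 := fun j hj hjc =>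
    (QuotientGroup.eq_one_iff _).2 (by rw [← hTC]; exact ⟨hJT hj, hjc⟩)
  have hline_zp : ∀ B : TB, Subgroup.zpowers (D.hom (jb B)) = B.1 := by
    intro B
    refine Subgroup.eq_of_le_of_card_ge (Subgroup.zpowers_le.2 (hjbB B)) ?_
    rw [B.2.1.card, Nat.card_zpowers]
    have hd := orderOf_dvd_natCard (⟨_, hjbB B⟩ : B.1)
    rw [Subgroup.orderOf_mk, B.2.1.card] at hd
    rcases (Nat.dvd_prime Nat.prime_two).1 hd with h | h
    · exact absurd (orderOf_eq_one_iff.1 h) (hjb1 B)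
    · exact h.ge
  have hJcomm : ∀ a ∈ J.map D.hom, ∀ b ∈ J.map D.hom, a * b = b * a := by
    have h : (⨆ B : TB, (B.1 : Subgroup M)) ≤ Subgroup.centralizer ((⨆ B : TB, (B.1 : Subgroup M) : Subgroup M) : Set M) := by
      refine iSup_le fun B => Subgroup.le_centralizer_iff.1 (iSup_le fun B' b' hb' => ?_)
      refine Subgroup.mem_centralizer_iff.2 fun b hb => ?_
      by_cases h : comp K B.1 = comp K B'.1
      · have e := eq_of_comp_eq hS B.2.1 B'.2.1 hJp B.2.2 B'.2.2 h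
        rw [← e, ← hline_zp B] at hb'
        have hb2 : b ∈ Subgroup.zpowers (D.hom (jb B)) := by rw [hline_zp B]; exact hb
        obtain ⟨k, rfl⟩ := Subgroup.mem_zpowers_iff.1 hb'
        obtain ⟨l, rfl⟩ := Subgroup.mem_zpowers_iff.1 hb2
        exact (Commute.zpow_zpow_self _ l k).eq
      · exact commute_of_line_ne hS B.2.1 B'.2.1 h b (le_sup_right (a := ⁅K, B.1⁆) hb) b'
          (le_sup_right (a := ⁅K, B'.1⁆) hb')
    intro a ha b hb
    exact (Subgroup.mem_centralizer_iff.1 (h (hJgen ha)) b (hJgen hb)).symm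
  have hJ'comm : ∀ a ∈ J, ∀ b ∈ J, π a * π b = π b * π a := by
    intro a ha b hb
    rw [← map_mul, ← map_mul]
    refine QuotientGroup.eq.2 ?_
    rw [← hTC]
    refine ⟨hJT (mul_mem (inv_mem (mul_mem ha hb)) (mul_mem hb ha)), hCker.1 ?_⟩
    rw [map_mul, map_inv, map_mul, map_mul, hJcomm _ ⟨a, ha, rfl⟩ _ ⟨b, hb, rfl⟩, inv_mul_cancel]
  have hjb2 : ∀ B : TB, π (jb B) * π (jb B) = 1 := fun B => by
    rw [← map_mul]
    refine hJC _ (mul_mem (hjbJ B) (hjbJ B)) (hCker.1 ?_)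
    rw [map_mul]
    have h := orderOf_dvd_natCard (⟨_, hjbB B⟩ : B.1)
    rw [B.2.1.card] at h
    have h2 := congrArg Subtype.val (orderOf_dvd_iff_pow_eq_one.1 h)
    simpa [pow_two] using h2
  have hjbgen : J.map π ≤ Subgroup.closure (Set.range fun B => π (jb B)) := by
    rintro _ ⟨j, hj, rfl⟩
    have h1 : D.hom j ∈ (Subgroup.closure (Set.range jb)).map D.hom := by
      have hle : (⨆ B : TB, (B.1 : Subgroup M)) ≤ (Subgroup.closure (Set.range jb)).map D.hom := by
        refine iSup_le fun B => ?_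
        rw [← hline_zp B, Subgroup.zpowers_le]
        exact ⟨jb B, Subgroup.subset_closure ⟨B, rfl⟩, rfl⟩
      exact hle (hJgen ⟨j, hj, rfl⟩)
    obtain ⟨j', hj', e⟩ := h1
    have hj'J : j' ∈ J := (Subgroup.closure_le J).2 (by rintro _ ⟨B, rfl⟩; exact hjbJ B) hj'
    have h2 : π (j'⁻¹ * j) = 1 := hJC _ (mul_mem (inv_mem hj'J) hj) (hCker.1 (by rw [map_mul, map_inv, e, inv_mul_cancel]))
    rw [map_mul, map_inv, inv_mul_eq_one] at h2
    rw [← h2, show (Set.range fun B => π (jb B)) = π '' Set.range jb from Set.range_comp π jb,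
      ← MonoidHom.map_closure]
    exact ⟨j', hj', rfl⟩
  -- the commutators with the involutions
  set ub : TB → L → L ⧸ R := fun B y => π y * π (jb B) * (π y)⁻¹ * (π (jb B))⁻¹ with hub
  have hub_inv : ∀ B, ∀ y, π (jb B) * ub B y * (π (jb B))⁻¹ = (ub B y)⁻¹ := by
    intro B y
    have hinv : (π (jb B))⁻¹ = π (jb B) := inv_eq_of_mul_eq_one_right (hjb2 B)
    simp only [hub, mul_inv_rev, inv_inv, hinv, mul_assoc, hjb2, mul_one]
  have hub_mem : ∀ B, ∀ y ∈ Y, ∃ u ∈ Y, π u = ub B y ∧ D.hom u ∈ ⁅K, B.1⁆ := by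
    intro B y hy
    refine ⟨y * jb B * y⁻¹ * (jb B)⁻¹, ?_, by simp [hub], ?_⟩
    · have h1 : jb B * y⁻¹ * (jb B)⁻¹ ∈ Y := hYn.conj_mem _ (inv_mem hy) _
      simpa [mul_assoc] using mul_mem hy h1
    · have := Subgroup.commutator_mem_commutator (hXK hy.1) (hjbB B)
      simpa [commutatorElement_def] using this
  have hcomm_ub : ∀ B B', ∀ y ∈ Y, ∀ y' ∈ Y, ub B y * ub B' y' = ub B' y' * ub B y := by
    intro B B' y hy y' hy'
    obtain ⟨u, huY, hu, huX⟩ := hub_mem B y hy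
    obtain ⟨u', hu'Y, hu', hu'X⟩ := hub_mem B' y' hy'
    by_cases h : comp K B.1 = comp K B'.1
    · rcases eq_or_ne (D.hom u) 1 with hu1 | hu1
      · rw [← hu, ← hu']
        exact hcentral u (hCker.1 hu1) u' hu'Y.2
      · rw [← line_eq_of_comp_eq hS B.2.1 B'.2.1 h, ← line_cyclic hS B.2.1 huX hu1] at hu'X
        obtain ⟨k, hk⟩ := Subgroup.mem_zpowers_iff.1 hu'X
        have hc : (u ^ k)⁻¹ * u' ∈ C := hCker.1 (by rw [map_mul, map_inv, map_zpow, hk, inv_mul_cancel])
        have e : u' = u ^ k * ((u ^ k)⁻¹ * u') := by group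
        rw [← hu, ← hu', e, map_mul, ← mul_assoc, map_zpow, (Commute.self_zpow (π u) k).eq, mul_assoc,
          ← hcentral _ hc u huY.2, ← mul_assoc]
    · set j := jb B with hj
      set z := u'⁻¹ * (j * u' * j⁻¹) with hz
      have hzC : z ∈ C := hCker.1 (by
        rw [hz, map_mul, map_inv, map_mul, map_mul, map_inv,
          commute_of_line_ne hS B.2.1 B'.2.1 h _ (le_sup_right (a := ⁅K, B.1⁆) (hjbB B)) _
            (le_sup_left (b := B'.1) hu'X), mul_inv_cancel_right, inv_mul_cancel])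
      set cc := ⁅u, u'⁆ with hcc
      have hccC : cc ∈ C := hCker.1 (by
        rw [hcc, map_commutatorElement, commutatorElement_eq_one_iff_mul_comm]
        exact oddPart_comm hS _ huY.1 _ hu'Y.1)
      have hjN : j ∈ N₁ := Subgroup.mem_sup_left (Subgroup.subset_normalClosure (hjbJ B))
      have hcfix : π j * π cc * (π j)⁻¹ = π cc := by
        rw [← hcentral cc hccC j hjN, mul_inv_cancel_right]
      have hju : π j * π u * (π j)⁻¹ = (π u)⁻¹ := by rw [hu]; exact hub_inv B y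
      have hju' : π j * π u' * (π j)⁻¹ = π u' * π z := by
        rw [hz, map_mul, map_inv, map_mul, map_mul, map_inv, mul_inv_cancel_left]
      have hzc : ∀ g ∈ N₁, π z * π g = π g * π z := fun g hg => hcentral z hzC g hg
      have e1 : π cc = ⁅(π u)⁻¹, π u'⁆ := by
        conv_lhs => rw [← hcfix, hcc, map_commutatorElement]
        rw [← MulAut.conj_apply, map_commutatorElement, MulAut.conj_apply, MulAut.conj_apply, hju, hju']
        have k1 : π z * π u = π u * π z := hzc u huY.2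
        simp only [commutatorElement_def, mul_inv_rev, inv_inv, mul_assoc]
        congr 2
        rw [← mul_assoc (π z), k1]; group
      have e2 : ⁅(π u)⁻¹, π u'⁆ = (π cc)⁻¹ := by
        have hcu : Commute (π cc) (π u) := hcentral cc hccC u huY.2
        calc ⁅(π u)⁻¹, π u'⁆ = (π u)⁻¹ * (⁅π u, π u'⁆⁻¹ * π u) := by
              simp only [commutatorElement_def]; group
          _ = (π cc)⁻¹ := by
            rw [← map_commutatorElement π u u', ← hcc, hcu.inv_left.eq, inv_mul_cancel_left]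
      have hsq : π cc * π cc = 1 := by
        nth_rewrite 2 [e1]; rw [e2, mul_inv_cancel]
      have h1 : π cc = 1 := hoddC cc hccC hsq
      rw [hcc, map_commutatorElement, commutatorElement_eq_one_iff_mul_comm, hu, hu'] at h1
      exact h1
  -- `C ∩ N₁ = R`
  set Qs := Subgroup.closure {q | ∃ B, ∃ y ∈ Y, q = ub B y} with hQs
  have hQcomm : ∀ a ∈ Qs, ∀ b ∈ Qs, a * b = b * a := by
    have h : Qs ≤ Subgroup.centralizer (Qs : Set (L ⧸ R)) := by
      rw [hQs]
      refine (Subgroup.closure_le _).2 ?_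
      rintro _ ⟨B, y, hy, rfl⟩
      rw [SetLike.mem_coe, Subgroup.centralizer_closure, Subgroup.mem_centralizer_iff]
      rintro _ ⟨B', y', hy', rfl⟩
      exact hcomm_ub B' B y' hy' y hy
    intro a ha b hb
    exact (Subgroup.mem_centralizer_iff.1 (h ha) b hb).symm
  have hQY : Qs ≤ Y.map π := by
    rw [hQs]
    refine (Subgroup.closure_le _).2 ?_
    rintro _ ⟨B, y, hy, rfl⟩
    obtain ⟨u, huY, hu, -⟩ := hub_mem B y hy
    exact ⟨u, huY, hu⟩
  have hQJ : ∀ j ∈ J, π j ∈ Subgroup.normalizer (Qs : Set (L ⧸ R)) := by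
    have key : ∀ j ∈ J, ∀ q ∈ Qs, π j * q * (π j)⁻¹ ∈ Qs := by
      intro j hj
      suffices Qs ≤ Qs.comap (MulAut.conj (π j)).toMonoidHom from fun q hq => this hq
      rw [hQs]
      refine (Subgroup.closure_le _).2 ?_
      rintro _ ⟨B, y, hy, rfl⟩
      refine Subgroup.subset_closure ⟨B, j * y * j⁻¹, hYn.conj_mem y hy j, ?_⟩
      show π j * ub B y * (π j)⁻¹ = ub B (j * y * j⁻¹)
      have hc := hJ'comm j hj _ (hjbJ B)
      simp only [hub, map_mul, map_inv]
      have hj' : (π j)⁻¹ * π (jb B) * π j = π (jb B) := by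
        rw [mul_assoc, ← hc, inv_mul_cancel_left]
      have hcomm' : (π (jb B))⁻¹ * (π j)⁻¹ = (π j)⁻¹ * (π (jb B))⁻¹ := by
        rw [← mul_inv_rev, ← mul_inv_rev, hc]
      calc π j * (π y * π (jb B) * (π y)⁻¹ * (π (jb B))⁻¹) * (π j)⁻¹
          = π j * π y * ((π j)⁻¹ * π (jb B) * π j) * (π y)⁻¹ * ((π (jb B))⁻¹ * (π j)⁻¹) := by rw [hj']; group
        _ = π j * π y * ((π j)⁻¹ * π (jb B) * π j) * (π y)⁻¹ * ((π j)⁻¹ * (π (jb B))⁻¹) := by rw [hcomm']
        _ = _ := by group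
    intro j hj
    refine Subgroup.mem_normalizer_iff.2 fun x => ⟨key j hj x, fun hx => ?_⟩
    simpa [mul_assoc] using key j⁻¹ (inv_mem hj) _ hx
  -- conjugates of `J`
  have hgenN : ∀ N : Subgroup L, (∀ y ∈ Y, ∀ j ∈ J, y * j * y⁻¹ ∈ N) → NC ≤ N := by
    intro N hN
    let T₀ := (T : Subgroup L) ⊓ N₁
    have hJN₁ : J ≤ N₁ := le_sup_of_le_left Subgroup.subset_normalClosure
    have hT₀J : CfsgLib.Transfer.thompsonJ 2 T₀ = J := thompsonJ_mid rfl (le_inf hJT hJN₁) inf_le_left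
    have hp : IsPGroup 2 T₀ := T.2.to_le inf_le_left
    let P₀ : Subgroup N₁ := T₀.subgroupOf N₁
    have hrel : ¬ 2 ∣ T₀.relIndex N₁ := by
      intro h
      rw [Subgroup.inf_relIndex_right] at h
      exact T.not_dvd_index (h.trans (Fitting.relIndex_dvd_index_of_normal_right _ N₁))
    let P : Sylow 2 N₁ := (hp.comap_of_injective N₁.subtype N₁.subtype_injective : IsPGroup 2 P₀).toSylow hrel
    have hfr := Sylow.normalizer_sup_eq_top P
    have hmap : ((P : Subgroup N₁).map N₁.subtype) = T₀ := Subgroup.map_subgroupOf_eq_of_le inf_le_right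
    rw [hmap] at hfr
    have hN₁eq : N₁ ≤ Y ⊔ T₀ := by
      rw [← Subgroup.relIndex_eq_one]
      have hp2 : IsPGroup 2 (↥N₁ ⧸ Y.subgroupOf N₁) := by
        intro q
        obtain ⟨g, rfl⟩ := QuotientGroup.mk'_surjective _ q
        refine ⟨1, ?_⟩
        rw [pow_one, pow_two, ← map_mul]
        exact (QuotientGroup.eq_one_iff _).2 (hsq g g.2)
      obtain ⟨m, hm⟩ := IsPGroup.iff_card.1 hp2
      refine Nat.eq_one_of_dvd_coprimes (Nat.Coprime.pow_left m (Nat.prime_two.coprime_iff_not_dvd.2 hrel)) ?_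
        (Subgroup.relIndex_dvd_of_le_left N₁ le_sup_right)
      refine dvd_trans (Subgroup.relIndex_dvd_of_le_left N₁ (le_sup_left : Y ≤ Y ⊔ T₀)) ?_
      exact dvd_of_eq hm
    refine Subgroup.closure_le _ |>.2 ?_
    intro x hx
    obtain ⟨j, hj, hjx⟩ := Group.mem_conjugatesOfSet_iff.1 hx
    obtain ⟨g, rfl⟩ := isConj_iff.1 hjx
    have hg : g ∈ ((N₁ ⊔ Subgroup.normalizer (T₀ : Set L) : Subgroup L) : Set L) := by
      rw [sup_comm, hfr]; trivial
    rw [Subgroup.normal_mul] at hg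
    obtain ⟨m, hm, n, hn, rfl⟩ := hg
    have hm' : m ∈ ((Y ⊔ T₀ : Subgroup L) : Set L) := hN₁eq hm
    rw [Subgroup.normal_mul] at hm'
    obtain ⟨y, hy, t, ht, rfl⟩ := hm'
    have hn' : n ∈ Subgroup.normalizer (J : Set L) := by
      rw [← hT₀J]; exact CfsgLib.Transfer.normalizer_le_normalizer_thompsonJ 2 T₀ hn
    have ht' : t ∈ Subgroup.normalizer (J : Set L) :=
      CfsgLib.Transfer.normalizer_le_normalizer_thompsonJ 2 (T : Subgroup L) (Subgroup.le_normalizer ht.1)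
    rw [show y * t * n * j * (y * t * n)⁻¹ = y * (t * (n * j * n⁻¹) * t⁻¹) * y⁻¹ by group]
    exact hN y hy _ ((Subgroup.mem_normalizer_iff.1 ht' _).1 ((Subgroup.mem_normalizer_iff.1 hn' j).1 hj))
  have hNCQ : NC ≤ (Qs ⊔ J.map π).comap π := by
    refine hgenN _ fun y hy j hj => ?_
    have hle : (J.map π) ≤ (Qs ⊔ J.map π).comap (MulAut.conj (π y)).toMonoidHom := by
      refine hjbgen.trans ((Subgroup.closure_le _).2 ?_)
      rintro _ ⟨B, rfl⟩
      show π y * π (jb B) * (π y)⁻¹ ∈ Qs ⊔ J.map π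
      rw [show π y * π (jb B) * (π y)⁻¹ = ub B y * π (jb B) by simp [hub]]
      exact mul_mem (Subgroup.mem_sup_left (Subgroup.subset_closure ⟨B, y, hy, rfl⟩))
        (Subgroup.mem_sup_right ⟨_, hjbJ B, rfl⟩)
    rw [Subgroup.mem_comap, map_mul, map_mul, map_inv]
    exact hle ⟨j, hj, rfl⟩
  have hCN₁ : ∀ c ∈ C, c ∈ N₁ → π c = 1 := by
    intro c hc hcN
    have hcN' : π c ∈ ((Qs ⊔ J.map π : Subgroup (L ⧸ R)) : Set (L ⧸ R)) := by
      have hle : N₁ ≤ (Qs ⊔ J.map π).comap π := sup_le hNCQ fun r hr => by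
        rw [Subgroup.mem_comap, show π r = 1 from (QuotientGroup.eq_one_iff r).2 hr]; exact one_mem _
      exact hle hcN
    have hJn : J.map π ≤ Subgroup.normalizer (Qs : Set (L ⧸ R)) := by
      rintro _ ⟨j, hj, rfl⟩; exact hQJ j hj
    rw [Subgroup.coe_mul_of_right_le_normalizer_left _ _ hJn] at hcN'
    obtain ⟨q, hq, _, ⟨j, hj, rfl⟩, hqj⟩ := hcN'
    have hqj' : q * π j = π c := hqj
    obtain ⟨u, huY, rfl⟩ := hQY hq
    have hjC : j ∈ C := by
      have h1 : (u * j)⁻¹ * c ∈ R := QuotientGroup.eq.1 (show π (u * j) = π c by rw [map_mul, hqj'])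
      have h2 : D.hom u * D.hom j = 1 := by
        rw [← map_mul, show u * j = c * ((u * j)⁻¹ * c)⁻¹ by group, map_mul, hCker.2 hc, one_mul,
          hCker.2 (inv_mem (hRC h1))]
      refine hCker.1 (orderOf_eq_one_iff.1 ?_)
      obtain ⟨k, hk⟩ := hJp ⟨_, j, hj, rfl⟩
      refine Nat.eq_one_of_dvd_coprimes ((odd_of_mem hS (hXK huY.1)).coprime_two_right.pow_right k) ?_
        (orderOf_dvd_of_pow_eq_one (congrArg Subtype.val hk))
      rw [← orderOf_inv (D.hom j), ← eq_inv_of_mul_eq_one_left h2]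
    rw [hJC j hj hjC, mul_one] at hqj'
    rw [hqj'] at hq
    -- `c` is fixed by the involutions, and the product of its conjugates is trivial
    haveI := Fintype.ofFinite (J.map π)
    haveI : IsMulCommutative Qs := ⟨⟨fun a b => Subtype.ext (hQcomm a a.2 b b.2)⟩⟩
    let F : Qs →* Qs :=
      { toFun := fun q => ∏ t : J.map π, ⟨(t : L ⧸ R) * q * (t : L ⧸ R)⁻¹,
          (Subgroup.mem_normalizer_iff.1 (hJn t.2) _).1 q.2⟩
        map_one' := Finset.prod_eq_one fun t _ => Subtype.ext (by simp)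
        map_mul' := fun a b => by
          rw [← Finset.prod_mul_distrib]
          refine Finset.prod_congr rfl fun t _ => Subtype.ext ?_
          show (t : L ⧸ R) * ((a : L ⧸ R) * b) * (t : L ⧸ R)⁻¹ = (t : L ⧸ R) * a * (t : L ⧸ R)⁻¹ * ((t : L ⧸ R) * b * (t : L ⧸ R)⁻¹)
          group }
    have hF : ∀ q : Qs, F q = 1 := by
      rintro ⟨q, hq'⟩
      induction hq' using Subgroup.closure_induction with
      | one => exact map_one F
      | mul a b ha hb iha ihb =>
        rw [show (⟨a * b, _⟩ : Qs) = ⟨a, ha⟩ * ⟨b, hb⟩ from rfl, map_mul, iha, ihb, one_mul]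
      | inv a ha iha => rw [show (⟨a⁻¹, _⟩ : Qs) = (⟨a, ha⟩ : Qs)⁻¹ from rfl, map_inv, iha, inv_one]
      | mem q hq'' =>
        obtain ⟨B, y, hy, rfl⟩ := hq''
        have hs : π (jb B) ∈ J.map π := ⟨_, hjbJ B, rfl⟩
        have hsne : π (jb B) ≠ 1 := fun e => hjb1 B (hCker.2 (hRC ((QuotientGroup.eq_one_iff _).1 e)))
        refine Finset.prod_involution (fun t _ => t * ⟨_, hs⟩) (fun t _ => Subtype.ext ?_)
          (fun t _ _ e => hsne (congrArg Subtype.val (mul_eq_left.1 e))) (fun t _ => Finset.mem_univ _)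
          (fun t _ => Subtype.ext (by show (t : L ⧸ R) * π (jb B) * π (jb B) = t; rw [mul_assoc, hjb2, mul_one]))
        show (t : L ⧸ R) * ub B y * (t : L ⧸ R)⁻¹ *
          ((t : L ⧸ R) * π (jb B) * ub B y * ((t : L ⧸ R) * π (jb B))⁻¹) = 1
        rw [show (t : L ⧸ R) * π (jb B) * ub B y * ((t : L ⧸ R) * π (jb B))⁻¹ =
          (t : L ⧸ R) * (π (jb B) * ub B y * (π (jb B))⁻¹) * (t : L ⧸ R)⁻¹ by group, hub_inv]
        group
    have hfix : F ⟨π c, hq⟩ = (⟨π c, hq⟩ : Qs) ^ Nat.card (J.map π) := by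
      rw [Nat.card_eq_fintype_card, ← Finset.card_univ, ← Finset.prod_const]
      refine Finset.prod_congr rfl fun t _ => Subtype.ext ?_
      show (t : L ⧸ R) * π c * (t : L ⧸ R)⁻¹ = π c
      obtain ⟨j', hj', e⟩ := t.2
      rw [← e, ← hcentral c hc j' (Subgroup.mem_sup_left (Subgroup.subset_normalClosure hj')),
        mul_inv_cancel_right]
    rw [hF] at hfix
    obtain ⟨n, hn⟩ := IsPGroup.iff_card.1 ((T.2.to_le hJT).map π)
    rw [hn] at hfix
    have h2 : ∀ m : ℕ, (π c) ^ (2 ^ m) = 1 → π c = 1 := by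
      intro m
      induction m with
      | zero => intro h; simpa using h
      | succ m ih =>
        intro h
        refine ih ?_
        rw [← map_pow]
        refine hoddC _ (pow_mem hc _) ?_
        rw [← map_mul, ← pow_add, map_pow, ← two_mul, ← pow_succ']
        exact h
    exact h2 n (congrArg Subtype.val hfix.symm)
  refine ⟨Y, hYn, hRY, ?_, ?_, fun a ha b hb => (QuotientGroup.eq_one_iff _).1 ?_, hgenN, ?_⟩
  · intro x hx y hy
    refine (QuotientGroup.eq_one_iff _).1 (hCN₁ _ (hCker.1 ?_) ?_)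
    · rw [map_commutatorElement, commutatorElement_eq_one_iff_mul_comm]
      exact oddPart_comm hS _ hx.1 _ hy.1
    · exact mul_mem (mul_mem (mul_mem hx.2 hy.2) (inv_mem hx.2)) (inv_mem hy.2)
  · intro g hg hodd
    refine ⟨odd_mem_oddPart hS hS3 (hN₁H g (Subgroup.mem_sup_left hg)) ?_, Subgroup.mem_sup_left hg⟩
    exact hodd.of_dvd_nat (orderOf_map_dvd D.hom g)
  · show π ⁅a, b⁆ = 1
    rw [map_commutatorElement, commutatorElement_eq_one_iff_mul_comm]
    exact hJ'comm a ha b hb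
  · intro x hx x' hx' hxR hx'R hall hmove
    have hnC : ∀ y ∈ Y, y ∉ R → D.hom y ≠ 1 := fun y hy hyR e =>
      hyR ((QuotientGroup.eq_one_iff _).1 (hCN₁ y (hCker.1 e) hy.2))
    -- some involution moves `x`
    obtain ⟨B, hB⟩ : ∃ B, ⁅jb B, x⁆ ∉ R := by
      by_contra hno
      push Not at hno
      obtain ⟨j, hj, hjx⟩ := hmove
      refine hjx ((QuotientGroup.eq_one_iff _).1 ?_)
      have hle : J.map π ≤ Subgroup.centralizer ({π x} : Set (L ⧸ R)) := by
        refine hjbgen.trans ((Subgroup.closure_le _).2 ?_)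
        rintro _ ⟨B, rfl⟩
        rw [SetLike.mem_coe, Subgroup.mem_centralizer_singleton_iff]
        have h : π ⁅jb B, x⁆ = 1 := (QuotientGroup.eq_one_iff _).2 (hno B)
        rw [map_commutatorElement, commutatorElement_eq_one_iff_mul_comm] at h
        exact h
      show π ⁅j, x⁆ = 1
      rw [map_commutatorElement, commutatorElement_eq_one_iff_mul_comm]
      exact Subgroup.mem_centralizer_singleton_iff.1 (hle ⟨j, hj, rfl⟩)
    obtain ⟨hd1, hd2, hiff⟩ := hall _ (hjbJ B)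
    have key : ∀ y ∈ Y, y ∉ R → ⁅jb B, y⁆ ∉ R → (⁅jb B, y⁆ ∈ R ∨ jb B * y * (jb B)⁻¹ * y ∈ R) →
        Subgroup.zpowers (D.hom y) = ⁅K, B.1⁆ := by
      intro y hy hyR hne hor
      have hinv := hor.resolve_left hne
      have h0 : D.hom (jb B) * D.hom y * (D.hom (jb B))⁻¹ * D.hom y = 1 := by
        rw [← map_inv, ← map_mul, ← map_mul, ← map_mul]
        exact hCker.2 (hRC hinv)
      have hc := Subgroup.commutator_mem_commutator (hXK hy.1) (hjbB B)
      have e : ⁅D.hom y, D.hom (jb B)⁆ = D.hom y * D.hom y := by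
        have h1 := eq_inv_of_mul_eq_one_left h0
        calc ⁅D.hom y, D.hom (jb B)⁆ = D.hom y * (D.hom (jb B) * D.hom y * (D.hom (jb B))⁻¹)⁻¹ := by
              simp only [commutatorElement_def]; group
          _ = _ := by rw [h1, inv_inv]
      rw [e] at hc
      obtain ⟨k, hk⟩ := odd_of_mem hS (hXK hy.1)
      have hyl : D.hom y ∈ ⁅K, B.1⁆ := by
        have : D.hom y = (D.hom y * D.hom y) ^ (k + 1) := by
          rw [← pow_two, ← pow_mul, show 2 * (k + 1) = 2 * k + 1 + 1 by ring, pow_succ, ← hk,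
            pow_orderOf_eq_one, one_mul]
        rw [this]; exact pow_mem hc _
      exact line_cyclic hS B.2.1 hyl (hnC y hy hyR)
    have h1 := key x hx hxR hB hd1
    have h2 := key x' hx' hx'R (fun h => hB (hiff.2 h)) hd2
    have hmem : D.hom x' ∈ Subgroup.zpowers (D.hom x) := by rw [h1, ← h2]; exact Subgroup.mem_zpowers _
    obtain ⟨k, hk⟩ := Subgroup.mem_zpowers_iff.1 hmem
    have hin : (x ^ k)⁻¹ * x' ∈ R := by
      refine (QuotientGroup.eq_one_iff _).1 (hCN₁ _ (hCker.1 ?_) (N₁.mul_mem (N₁.inv_mem (N₁.zpow_mem hx.2 k)) hx'.2))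
      rw [map_mul, map_inv, map_zpow, hk, inv_mul_cancel]
    rw [show x' = x ^ k * ((x ^ k)⁻¹ * x') by group]
    exact mul_mem (Subgroup.mem_sup_left (Subgroup.zpow_mem_zpowers x k)) (Subgroup.mem_sup_right hin)

end CfsgLib.JComp
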