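import Cfsg.Prelude.Def_CaseTheorems
import Cfsg.Agent.Lib.JComp.Local
import Cfsg.Agent.Lib.JComp.Subnormal
import Cfsg.Agent.Lib.JComp.Fpf
import Cfsg.Agent.S2941

/-!
# `J(T)`-components inside a member of `ℒ(T)`
-/

set_option autoImplicit false
set_option linter.style.haveILetI false

namespace CfsgLib.JComp

open scoped commutatorElement

universe u

variable {G : Type u} [Group G] [Finite G]

/-- The overall hypotheses. -/
structure Ambient (G : Type u) [Group G] : Prop where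
  char2 : Cfsg.IsCharacteristicTwoType G
  solv : ∀ N : Subgroup G, Cfsg.IsTwoLocal N → Group.IsSolvable ↥N
  cent : ∀ S : Sylow 2 G, Subgroup.centralizer (Cfsg.omegaCenterOf (S : Subgroup G) : Set G) ≤
    Subgroup.normalizer ((S : Subgroup G) : Set G)

/-- A pair `(T, L)` with `L` in `ℒ(T)`. -/
structure Over (T L : Subgroup G) : Prop where
  amb : Ambient G
  hT : IsPGroup 2 T
  hT1 : T ≠ ⊥
  mem : L ∈ Cfsg.jOvergroups T

variable {T L : Subgroup G}

theorem Over.R_le_T (O : Over T L) : Cfsg.pCoreOf 2 L ≤ T := by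
  haveI : Fact (Nat.Prime 2) := ⟨Nat.prime_two⟩
  obtain ⟨hTL, -, hodd⟩ := O.mem.1
  have hTp : IsPGroup 2 (T.subgroupOf L) := O.hT.comap_of_injective L.subtype L.subtype_injective
  let P : Sylow 2 L := hTp.toSylow (fun h => Nat.not_even_iff_odd.2 hodd (even_iff_two_dvd.2 h))
  rintro _ ⟨x, hx, rfl⟩
  haveI : (Cfsg.pCore 2 L).Normal := CfsgLib.Fitting.pCore_normal 2
  exact IsPGroup.le_sylow_of_normal (CfsgLib.Fitting.pCore_isPGroup 2) P hx

theorem Over.solvable (O : Over T L) : Group.IsSolvable ↥L := by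
  have hp : IsPGroup 2 (Cfsg.pCoreOf 2 L) := CfsgLib.PReduced.isPGroup_pCoreOf 2 L
  have hne : Cfsg.pCoreOf 2 L ≠ ⊥ := by
    intro h
    refine O.hT1 (le_bot_iff.1 fun x _ => ?_)
    rw [← h]
    refine O.mem.2.2 ?_
    rw [h, Subgroup.mem_centralizer_iff]
    intro y hy
    rw [SetLike.mem_coe, Subgroup.mem_bot] at hy
    rw [hy, one_mul, mul_one]
  haveI : Group.IsSolvable ↥(Subgroup.normalizer (Cfsg.pCoreOf 2 L : Set G)) :=
    O.amb.solv _ ⟨_, hp, hne, rfl⟩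
  exact solvable_of_solvable_injective (f := Subgroup.inclusion
    (CfsgLib.Signalizer.normalizer_le_normalizer_pCoreOf 2 Subgroup.le_normalizer : L ≤ _))
    (Subgroup.inclusion_injective _)

theorem Over.J_le (O : Over T L) : CfsgLib.Transfer.thompsonJ 2 T ≤ L :=
  (CfsgLib.Transfer.thompsonJ_le 2 T).trans O.mem.1.1

theorem Over.R_le_normalizer_J (O : Over T L) :
    Cfsg.pCoreOf 2 L ≤ Subgroup.normalizer (CfsgLib.Transfer.thompsonJ 2 T : Set G) :=
  (O.R_le_T.trans Subgroup.le_normalizer).trans (CfsgLib.Transfer.normalizer_le_normalizer_thompsonJ 2 T)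

theorem Over.L_le_normalizer_R (_O : Over T L) : L ≤ Subgroup.normalizer (Cfsg.pCoreOf 2 L : Set G) :=
  CfsgLib.Signalizer.normalizer_le_normalizer_pCoreOf 2 Subgroup.le_normalizer

/-- The structure of `L`, in the ambient group. -/
structure LocalData (T L Y : Subgroup G) : Prop where
  le : Y ≤ L
  norm : L ≤ Subgroup.normalizer (Y : Set G)
  core : Cfsg.pCoreOf 2 L ≤ Y
  comm : ∀ x ∈ Y, ∀ y ∈ Y, ⁅x, y⁆ ∈ Cfsg.pCoreOf 2 L
  odd : ∀ K : Subgroup G, K ≤ L → ⁅K, CfsgLib.Transfer.thompsonJ 2 T⁆ = K →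
    Subgroup.closure {g : G | g ∈ K ∧ Odd (orderOf g)} = K → K ≤ Y
  jcomm : ∀ a ∈ CfsgLib.Transfer.thompsonJ 2 T, ∀ b ∈ CfsgLib.Transfer.thompsonJ 2 T,
    ⁅a, b⁆ ∈ Cfsg.pCoreOf 2 L
  gen : ∀ N : Subgroup G, (∀ y ∈ Y, ∀ j ∈ CfsgLib.Transfer.thompsonJ 2 T, y * j * y⁻¹ ∈ N) →
    ∀ g ∈ L, ∀ j ∈ CfsgLib.Transfer.thompsonJ 2 T, g * j * g⁻¹ ∈ N
  sign : ∀ x ∈ Y, ∀ x' ∈ Y, x ∉ Cfsg.pCoreOf 2 L → x' ∉ Cfsg.pCoreOf 2 L →
    (∀ j ∈ CfsgLib.Transfer.thompsonJ 2 T,
      (⁅j, x⁆ ∈ Cfsg.pCoreOf 2 L ∨ j * x * j⁻¹ * x ∈ Cfsg.pCoreOf 2 L) ∧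
      (⁅j, x'⁆ ∈ Cfsg.pCoreOf 2 L ∨ j * x' * j⁻¹ * x' ∈ Cfsg.pCoreOf 2 L) ∧
      (⁅j, x⁆ ∈ Cfsg.pCoreOf 2 L ↔ ⁅j, x'⁆ ∈ Cfsg.pCoreOf 2 L)) →
    (∃ j ∈ CfsgLib.Transfer.thompsonJ 2 T, ⁅j, x⁆ ∉ Cfsg.pCoreOf 2 L) →
    x' ∈ Subgroup.zpowers x ⊔ Cfsg.pCoreOf 2 L

theorem map_thompson_subgroupOf (hTL : T ≤ L) :
    (CfsgLib.Transfer.thompsonJ 2 (T.subgroupOf L)).map L.subtype = CfsgLib.Transfer.thompsonJ 2 T := by
  rw [CfsgLib.Transfer.map_thompsonJ 2 L.subtype L.subtype_injective.injOn,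
    Subgroup.map_subgroupOf_eq_of_le hTL]

theorem Over.exists_local (O : Over T L) : ∃ Y, LocalData T L Y := by
  haveI : Fact (Nat.Prime 2) := ⟨Nat.prime_two⟩
  obtain ⟨hTL, -, hodd⟩ := O.mem.1
  have hTp : IsPGroup 2 (T.subgroupOf L) := O.hT.comap_of_injective L.subtype L.subtype_injective
  let P : Sylow 2 L := hTp.toSylow (fun h => Nat.not_even_iff_odd.2 hodd (even_iff_two_dvd.2 h))
  set R := Cfsg.pCoreOf 2 L with hR
  have hRmem : ∀ {x : L}, (x : G) ∈ R ↔ x ∈ Cfsg.pCore 2 L := fun {x} =>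
    ⟨fun ⟨y, hy, e⟩ => Subtype.ext e ▸ hy, fun hx => ⟨x, hx, rfl⟩⟩
  set J := CfsgLib.Transfer.thompsonJ 2 T with hJ
  have hJmap : (CfsgLib.Transfer.thompsonJ 2 (P : Subgroup L)).map L.subtype = J := map_thompson_subgroupOf hTL
  have hJmem : ∀ {x : L}, x ∈ CfsgLib.Transfer.thompsonJ 2 (P : Subgroup L) ↔ (x : G) ∈ J := fun {x} => by
    rw [← hJmap]
    exact ⟨fun hx => ⟨x, hx, rfl⟩, fun ⟨y, hy, e⟩ => Subtype.ext e ▸ hy⟩
  obtain ⟨Y, hYn, hRY, hcomm, hoddY, hjcomm, hgen, hsign⟩ := local_structure O.solvable (by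
      intro c hc
      refine hRmem.1 (O.mem.2.2 (Subgroup.mem_centralizer_iff.2 ?_))
      rintro _ ⟨r, hr, rfl⟩
      exact congrArg Subtype.val (Subgroup.mem_centralizer_iff.1 hc r hr)) P
    (fun h => O.mem.2.1 (by
      rw [CfsgLib.Transfer.thompsonSubgroupOf_eq, ← hJ, ← hJmap]
      exact Subgroup.map_mono h))
    (by
      intro c hc
      obtain ⟨S, hS⟩ := O.hT.exists_le_sylow
      have hZ : Cfsg.omegaCenterOf (S : Subgroup G) ≤ Subgroup.centralizer ({(c : G)} : Set G) := by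
        rw [Cfsg.omegaCenterOf, Cfsg.omegaOne, Subgroup.closure_le]
        rintro z ⟨⟨hzS, hzc⟩, hz2⟩
        have hzR : z ∈ R := O.mem.2.2 (Subgroup.mem_centralizer_iff.2 fun r hr =>
          Subgroup.mem_centralizer_iff.1 hzc r (hS (O.R_le_T hr)))
        have hzT : z ∈ T := O.R_le_T hzR
        have hzL : z ∈ L := hTL hzT
        have hmem : (⟨z, hzL⟩ : L) ∈ Cfsg.omegaOne 2
            ((P : Subgroup L) ⊓ Subgroup.centralizer ((P : Subgroup L) : Set L)) :=
          Subgroup.subset_closure ⟨⟨hzT, Subgroup.mem_centralizer_iff.2 fun t ht =>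
            Subtype.ext (Subgroup.mem_centralizer_iff.1 hzc t (hS ht))⟩, Subtype.ext (by simpa using hz2)⟩
        exact Subgroup.mem_centralizer_singleton_iff.2 (congrArg Subtype.val (hc _ hmem)).symm
      have hcS : (c : G) ∈ Subgroup.normalizer ((S : Subgroup G) : Set G) :=
        O.amb.cent S (Subgroup.mem_centralizer_iff.2 fun z hz =>
          (Subgroup.mem_centralizer_singleton_iff.1 (hZ hz)))
      have hSL : ∀ x : G, x ∈ (S : Subgroup G) → x ∈ L → x ∈ T := by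
        intro x hxS hxL
        have hp : IsPGroup 2 ((S : Subgroup G).subgroupOf L) := S.2.comap_of_injective L.subtype L.subtype_injective
        have h := P.3 hp (Subgroup.comap_mono hS)
        exact (h ▸ (show (⟨x, hxL⟩ : L) ∈ (S : Subgroup G).subgroupOf L from hxS) : (⟨x, hxL⟩ : L) ∈ (P : Subgroup L))
      refine Subgroup.mem_normalizer_iff.2 fun x => ⟨fun hx => ?_, fun hx => ?_⟩
      · exact hSL _ ((Subgroup.mem_normalizer_iff.1 hcS x).1 (hS hx)) (c * x * c⁻¹).2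
      · exact hSL _ ((Subgroup.mem_normalizer_iff.1 hcS x).2 (hS hx)) x.2)
  refine ⟨Y.map L.subtype, ⟨Subgroup.map_subtype_le Y, ?_, Subgroup.map_mono hRY, ?_, ?_, ?_, ?_, ?_⟩⟩
  · intro g hg
    have key : ∀ g ∈ L, ∀ y ∈ Y.map L.subtype, g * y * g⁻¹ ∈ Y.map L.subtype := by
      rintro g hg _ ⟨y, hy, rfl⟩
      exact ⟨⟨g, hg⟩ * y * ⟨g, hg⟩⁻¹, hYn.conj_mem y hy _, rfl⟩
    refine Subgroup.mem_normalizer_iff.2 fun y => ⟨key g hg y, fun hy => ?_⟩
    simpa [mul_assoc] using key g⁻¹ (inv_mem hg) _ hy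
  · rintro _ ⟨x, hx, rfl⟩ _ ⟨y, hy, rfl⟩
    exact ⟨⁅x, y⁆, hcomm x hx y hy, map_commutatorElement L.subtype x y⟩
  · intro K hKL hKJ hgenK
    rw [← hgenK, Subgroup.closure_le]
    rintro g ⟨hg, hgodd⟩
    refine ⟨⟨g, hKL hg⟩, hoddY _ ?_ (by rwa [Subgroup.orderOf_mk]), rfl⟩
    have hle : K ≤ (Subgroup.normalClosure (CfsgLib.Transfer.thompsonJ 2 (P : Subgroup L) : Set L)).map L.subtype := by
      conv_lhs => rw [← hKJ]
      rw [Subgroup.commutator_le]
      intro k hk j hj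
      have hj' : (⟨j, O.J_le hj⟩ : L) ∈ CfsgLib.Transfer.thompsonJ 2 (P : Subgroup L) := hJmem.2 hj
      refine ⟨⁅(⟨k, hKL hk⟩ : L), ⟨j, O.J_le hj⟩⁆, ?_, map_commutatorElement L.subtype _ _⟩
      rw [commutatorElement_def]
      exact mul_mem (Subgroup.normalClosure_normal.conj_mem _ (Subgroup.subset_normalClosure hj') _)
        (inv_mem (Subgroup.subset_normalClosure hj'))
    obtain ⟨g', hg', e⟩ := hle hg
    rwa [show (⟨g, hKL hg⟩ : L) = g' from Subtype.ext e.symm]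
  · intro a ha b hb
    exact ⟨⁅(⟨a, O.J_le ha⟩ : L), ⟨b, O.J_le hb⟩⁆, hjcomm _ (hJmem.2 ha) _ (hJmem.2 hb),
      map_commutatorElement L.subtype _ _⟩
  · intro N hN g hg j hj
    have h := hgen (N.comap L.subtype) (fun y hy j' hj' => hN _ ⟨y, hy, rfl⟩ _ (hJmem.1 hj'))
    have h' := h (Subgroup.normalClosure_normal.conj_mem (⟨j, O.J_le hj⟩ : L)
      (Subgroup.subset_normalClosure (hJmem.2 hj)) ⟨g, hg⟩)
    exact h'
  · rintro _ ⟨x, hx, rfl⟩ _ ⟨x', hx', rfl⟩ hxR hx'R hall ⟨j, hj, hjx⟩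
    have h := hsign x hx x' hx' (fun h => hxR (hRmem.2 h)) (fun h => hx'R (hRmem.2 h))
      (fun j hj => by
        obtain ⟨h1, h2, h3⟩ := hall j (hJmem.1 hj)
        exact ⟨h1.imp (hRmem (x := ⁅j, x⁆)).1 (hRmem (x := j * x * j⁻¹ * x)).1,
          h2.imp (hRmem (x := ⁅j, x'⁆)).1 (hRmem (x := j * x' * j⁻¹ * x')).1,
          (hRmem (x := ⁅j, x⁆)).symm.trans (h3.trans (hRmem (x := ⁅j, x'⁆)))⟩)
      ⟨⟨j, O.J_le hj⟩, hJmem.2 hj, fun h => hjx ((hRmem (x := ⁅(⟨j, O.J_le hj⟩ : L), x⁆)).2 h)⟩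
    have hm := Subgroup.mem_map_of_mem L.subtype h
    rw [Subgroup.map_sup, MonoidHom.map_zpowers] at hm
    exact hm

/-- What is used about a component `K`, with a chosen element of odd order. -/
structure Comp (T L Y K : Subgroup G) (g : G) : Prop where
  le : K ≤ Y
  gmem : g ∈ K
  gen : Subgroup.closure {x : G | x ∈ K ∧ Odd (orderOf x)} = K
  span : K ≤ Subgroup.zpowers g ⊔ Cfsg.pCoreOf 2 L
  odd : Odd (orderOf g)
  moves : Moves g (Cfsg.wOf K)
  card : Nat.card (Cfsg.wOf K) = 4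
  normR : Cfsg.pCoreOf 2 L ≤ Subgroup.normalizer (K : Set G)
  normJ : CfsgLib.Transfer.thompsonJ 2 T ≤ Subgroup.normalizer (K : Set G)
  sign : ∀ j ∈ CfsgLib.Transfer.thompsonJ 2 T,
    ⁅j, g⁆ ∈ Cfsg.pCoreOf 2 L ∨ j * g * j⁻¹ * g ∈ Cfsg.pCoreOf 2 L
  moved : ∃ j ∈ CfsgLib.Transfer.thompsonJ 2 T, ⁅j, g⁆ ∉ Cfsg.pCoreOf 2 L

theorem normalizer_le_normalizer_wOf (K : Subgroup G) :
    Subgroup.normalizer (K : Set G) ≤ Subgroup.normalizer (Cfsg.wOf K : Set G) := by
  have key : ∀ h ∈ Subgroup.normalizer (K : Set G), ∀ x ∈ Cfsg.wOf K, h * x * h⁻¹ ∈ Cfsg.wOf K := by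
    intro h hn
    have hΩ : h ∈ Subgroup.normalizer (Cfsg.omegaCenterOf (Cfsg.pCoreOf 2 K) : Set G) :=
      normalizer_le_normalizer_omegaCenterOf _
        (CfsgLib.Signalizer.normalizer_le_normalizer_pCoreOf 2 (le_refl _) hn)
    suffices Cfsg.wOf K ≤ (Cfsg.wOf K).comap (MulAut.conj h).toMonoidHom from fun x hx => this hx
    conv_lhs => rw [Cfsg.wOf]
    rw [Subgroup.commutator_le]
    intro a ha b hb
    show h * ⁅a, b⁆ * h⁻¹ ∈ Cfsg.wOf K
    rw [show h * ⁅a, b⁆ * h⁻¹ = ⁅h * a * h⁻¹, h * b * h⁻¹⁆ by simp only [commutatorElement_def]; group]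
    exact Subgroup.commutator_mem_commutator ((Subgroup.mem_normalizer_iff.1 hΩ a).1 ha)
      ((Subgroup.mem_normalizer_iff.1 hn b).1 hb)
  intro h hn
  refine Subgroup.mem_normalizer_iff.2 fun x => ⟨key h hn x, fun hx => ?_⟩
  simpa [mul_assoc] using key h⁻¹ (inv_mem hn) _ hx

theorem wOf_map {K : Subgroup G} (h : G) (hcore : Cfsg.pCoreOf 2 (K.map (MulAut.conj h).toMonoidHom) =
    (Cfsg.pCoreOf 2 K).map (MulAut.conj h).toMonoidHom) :
    Cfsg.wOf (K.map (MulAut.conj h).toMonoidHom) = (Cfsg.wOf K).map (MulAut.conj h).toMonoidHom := by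
  rw [Cfsg.wOf, Cfsg.wOf, hcore, Subgroup.map_commutator]
  congr 1
  rw [Cfsg.omegaCenterOf, Cfsg.omegaCenterOf, ZJ.map_omegaOne 2 _ (MulAut.conj h).injective.injOn,
    Subgroup.map_inf_eq _ _ _ (MulAut.conj h).injective]
  congr 1
  congr 1
  ext x
  rw [Subgroup.mem_centralizer_iff]
  constructor
  · intro hx
    refine ⟨(MulAut.conj h).symm x, Subgroup.mem_centralizer_iff.2 fun q hq => (MulAut.conj h).injective ?_,
      (MulAut.conj h).apply_symm_apply x⟩
    rw [map_mul, map_mul, MulEquiv.apply_symm_apply]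
    exact hx _ ⟨q, hq, rfl⟩
  · rintro ⟨y, hy, rfl⟩ _ ⟨q, hq, rfl⟩
    rw [← map_mul, ← map_mul, Subgroup.mem_centralizer_iff.1 hy q hq]

theorem pCoreOf_map (K : Subgroup G) (h : G) :
    Cfsg.pCoreOf 2 (K.map (MulAut.conj h).toMonoidHom) =
      (Cfsg.pCoreOf 2 K).map (MulAut.conj h).toMonoidHom := by
  have key : ∀ (K : Subgroup G) (h : G), (Cfsg.pCoreOf 2 K).map (MulAut.conj h).toMonoidHom ≤
      Cfsg.pCoreOf 2 (K.map (MulAut.conj h).toMonoidHom) := by
    intro K h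
    set K' := K.map (MulAut.conj h).toMonoidHom
    have hle : (Cfsg.pCoreOf 2 K).map (MulAut.conj h).toMonoidHom ≤ K' :=
      Subgroup.map_mono (CfsgLib.Signalizer.pCoreOf_le 2 K)
    have hn : ((Cfsg.pCoreOf 2 K).map (MulAut.conj h).toMonoidHom |>.subgroupOf K').Normal := by
      refine (Subgroup.normal_subgroupOf_iff_le_normalizer hle).2 ?_
      refine le_trans ?_ (Subgroup.le_normalizer_map _)
      exact Subgroup.map_mono (CfsgLib.Signalizer.normalizer_le_normalizer_pCoreOf 2 Subgroup.le_normalizer)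
    have hp : IsPGroup 2 ((Cfsg.pCoreOf 2 K).map (MulAut.conj h).toMonoidHom |>.subgroupOf K') :=
      ((CfsgLib.PReduced.isPGroup_pCoreOf 2 K).map _).comap_of_injective K'.subtype K'.subtype_injective
    have := CfsgLib.Fitting.le_pCore hn hp
    intro x hx
    exact ⟨⟨x, hle hx⟩, this hx, rfl⟩
  refine le_antisymm ?_ (key K h)
  have h2 := key (K.map (MulAut.conj h).toMonoidHom) h⁻¹
  rw [Subgroup.map_map, show (MulAut.conj h⁻¹).toMonoidHom.comp (MulAut.conj h).toMonoidHom = MonoidHom.id G from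
    MonoidHom.ext fun x => by simp [mul_assoc], Subgroup.map_id] at h2
  intro x hx
  refine ⟨h⁻¹ * x * h, h2 ⟨x, hx, by simp⟩, by simp [mul_assoc]⟩

theorem Comp.of_component {Y K : Subgroup G} (O : Over T L) (D : LocalData T L Y)
    (S : Setting T K) (hKL : K ≤ L) :
    ∃ g, Comp T L Y K g ∧ (K.subgroupOf L).IsSubnormal := by
  classical
  set R := Cfsg.pCoreOf 2 L with hR
  have hKY : K ≤ Y := D.odd K hKL S.comm_eq S.hK.1
  have hRK : R ≤ Subgroup.normalizer (K : Set G) :=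
    Cfsg.Agent.S2941.result O.amb.char2 O.amb.solv O.amb.cent T O.hT O.hT1 K S.hK R
      (by rw [CfsgLib.Transfer.thompsonSubgroupOf_eq]; exact (sup_le hKL O.J_le).trans O.L_le_normalizer_R)
      (by rw [CfsgLib.Transfer.thompsonSubgroupOf_eq]; exact O.R_le_normalizer_J)
  set J := CfsgLib.Transfer.thompsonJ 2 T with hJ
  have hRL : R ≤ L := CfsgLib.Signalizer.pCoreOf_le 2 L
  -- subnormality
  have hsnY : ((K ⊔ R).subgroupOf Y).Normal := by
    refine (Subgroup.normal_subgroupOf_iff_le_normalizer (sup_le hKY D.core)).2 ?_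
    have key : ∀ y ∈ Y, ∀ x ∈ K ⊔ R, y * x * y⁻¹ ∈ K ⊔ R := by
      intro y hy x hx
      rw [show y * x * y⁻¹ = ⁅y, x⁆ * x by simp only [commutatorElement_def]; group]
      exact mul_mem (Subgroup.mem_sup_right (D.comm y hy x (sup_le hKY D.core hx))) hx
    intro y hy
    refine Subgroup.mem_normalizer_iff.2 fun x => ⟨key y hy x, fun hx => ?_⟩
    simpa [mul_assoc] using key y⁻¹ (inv_mem hy) _ hx
  have hsn : (K.subgroupOf L).IsSubnormal := by
    haveI hYL : (Y.subgroupOf L).Normal := (Subgroup.normal_subgroupOf_iff_le_normalizer D.le).2 D.norm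
    have hKRY : K ⊔ R ≤ Y := sup_le hKY D.core
    have s1 : (Y.subgroupOf L).IsSubnormal := Subgroup.Normal.isSubnormal hYL
    have s2 : ((K ⊔ R).subgroupOf L).IsSubnormal := by
      refine Subgroup.IsSubnormal.step _ _ (Subgroup.comap_mono hKRY) s1 ?_
      refine (Subgroup.normal_subgroupOf_iff_le_normalizer (Subgroup.comap_mono hKRY)).2 ?_
      intro x hx
      refine Subgroup.mem_normalizer_iff.2 fun y => ?_
      exact Subgroup.mem_normalizer_iff.1 ((Subgroup.normal_subgroupOf_iff_le_normalizer hKRY).1 hsnY hx) y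
    refine Subgroup.IsSubnormal.step _ _ (Subgroup.comap_mono le_sup_left) s2 ?_
    refine (Subgroup.normal_subgroupOf_iff_le_normalizer (Subgroup.comap_mono le_sup_left)).2 ?_
    intro x hx
    refine Subgroup.mem_normalizer_iff.2 fun y => ?_
    exact Subgroup.mem_normalizer_iff.1 (sup_le Subgroup.le_normalizer hRK hx) y
  set Q := Cfsg.pCoreOf 2 K with hQ
  have hQR : Q ≤ R := pCoreOf_le_of_subnormal hKL hsn
  have hQK : Q ≤ K := CfsgLib.Signalizer.pCoreOf_le 2 K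
  obtain ⟨g, hgK, hodd, hmov⟩ := S.moves
  obtain ⟨w, hwW, hw1⟩ : ∃ w ∈ Cfsg.wOf K, w ≠ 1 := by
    by_contra h
    push Not at h
    have := S.card_W
    rw [(Subgroup.eq_bot_iff_forall _).2 h, Subgroup.card_bot] at this
    norm_num at this
  have hgQ : g ∉ Q := fun h => hw1 (hmov.fpf w hwW
    (omegaCenterOf_comm (W_le_omega hwW) h))
  have hKQ : K ≤ Subgroup.normalizer (Q : Set G) :=
    CfsgLib.Signalizer.normalizer_le_normalizer_pCoreOf 2 Subgroup.le_normalizer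
  have hspan : K ≤ Subgroup.zpowers g ⊔ Q := by
    set K' := Subgroup.zpowers g ⊔ Q
    have hK' : K' ≤ K := sup_le (Subgroup.zpowers_le.2 hgK) hQK
    have h := Subgroup.relIndex_mul_relIndex Q K' K le_sup_right hK'
    rw [S.hK.2.2.1] at h
    rw [← Subgroup.relIndex_eq_one]
    rcases (Nat.dvd_prime Nat.prime_three).1 ⟨_, h.symm⟩ with h1 | h1
    · exact absurd ((Subgroup.relIndex_eq_one.1 h1) (Subgroup.mem_sup_left (Subgroup.mem_zpowers g))) hgQ
    · rw [h1] at h; omega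
  refine ⟨g, ⟨hKY, hgK, S.hK.1, hspan.trans (sup_le_sup_left hQR _), hodd, hmov, S.card_W, hRK,
    S.J_le_normalizer, fun j hj => ?_, ?_⟩, hsn⟩
  · -- the action of `j` on `K / Q`
    have hjK := S.J_le_normalizer hj
    have hjQ := CfsgLib.Signalizer.normalizer_le_normalizer_pCoreOf 2 (le_refl _) hjK
    have hx : j * g * j⁻¹ ∈ ((Subgroup.zpowers g ⊔ Q : Subgroup G) : Set G) :=
      hspan ((Subgroup.mem_normalizer_iff.1 hjK g).1 hgK)
    rw [Subgroup.coe_mul_of_left_le_normalizer_right _ _ ((Subgroup.zpowers_le.2 hgK).trans hKQ)] at hx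
    obtain ⟨_, ⟨k, rfl⟩, q, hq, e⟩ := hx
    have e' : g ^ k * q = j * g * j⁻¹ := e
    have hg3 : g ^ (3 : ℕ) ∈ Q := by
      haveI : (Q.subgroupOf K).Normal := (Subgroup.normal_subgroupOf_iff_le_normalizer hQK).2 hKQ
      have h := Subgroup.pow_index_mem (Q.subgroupOf K) (⟨g, hgK⟩ : K)
      rw [show (Q.subgroupOf K).index = 3 from S.hK.2.2.1] at h
      exact h
    obtain ⟨m, hm⟩ : ∃ m : ℤ, k = 3 * m + k % 3 := ⟨k / 3, (Int.mul_ediv_add_emod k 3).symm⟩
    have hgm : g ^ (3 * m) ∈ Q := by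
      rw [zpow_mul]; exact zpow_mem (by rw [zpow_ofNat]; exact hg3) m
    have hgL : g ∈ L := hKL hgK
    have hconjR : ∀ r ∈ R, g⁻¹ * r * g ∈ R := fun r hr =>
      (Subgroup.mem_normalizer_iff''.1 (O.L_le_normalizer_R hgL) r).1 hr
    rcases (show k % 3 = 0 ∨ k % 3 = 1 ∨ k % 3 = 2 by omega) with h | h | h
    · exfalso
      rw [hm, h, add_zero] at e'
      exact hgQ ((Subgroup.mem_normalizer_iff.1 hjQ g).2 (e' ▸ mul_mem hgm hq))
    · left
      rw [hm, h, zpow_add, zpow_one] at e'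
      rw [commutatorElement_def, ← e', mul_assoc (g ^ (3 * m)), mul_assoc]
      exact mul_mem (hQR hgm) ((Subgroup.mem_normalizer_iff.1 (O.L_le_normalizer_R hgL) q).1 (hQR hq))
    · right
      rw [← e', hm, h, show g ^ (3 * m + 2) * q * g = g ^ (3 * m) * g ^ (3 : ℕ) * (g⁻¹ * q * g) by group]
      exact mul_mem (mul_mem (hQR hgm) (hQR hg3)) (hconjR q (hQR hq))
  · by_contra h
    push Not at h
    have hgR : g ∈ R := by
      haveI : (R.subgroupOf L).Normal := (Subgroup.normal_subgroupOf_iff_le_normalizer hRL).2 O.L_le_normalizer_R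
      let π := QuotientGroup.mk' (R.subgroupOf L)
      have hle : K ≤ R := by
        conv_lhs => rw [← S.comm_eq]
        rw [Subgroup.commutator_le]
        intro k hk j hj
        have hjc : ∀ x ∈ K, ⁅x, j⁆ ∈ R := by
          intro x hx
          have hjL : j ∈ L := O.J_le hj
          have hb : π ⟨j, hjL⟩ * π ⟨g, hKL hgK⟩ = π ⟨g, hKL hgK⟩ * π ⟨j, hjL⟩ := by
            rw [← commutatorElement_eq_one_iff_mul_comm, ← map_commutatorElement]
            exact (QuotientGroup.eq_one_iff _).2 (h j hj)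
          have hxmem : x ∈ ((Subgroup.zpowers g ⊔ Q : Subgroup G) : Set G) := hspan hx
          rw [Subgroup.coe_mul_of_left_le_normalizer_right _ _ ((Subgroup.zpowers_le.2 hgK).trans hKQ)] at hxmem
          obtain ⟨_, ⟨k', rfl⟩, q, hq, e⟩ := hxmem
          have e' : g ^ k' * q = x := e
          have hx' : π ⟨x, hKL hx⟩ = π ⟨g, hKL hgK⟩ ^ k' := by
            rw [← map_zpow]
            refine QuotientGroup.eq.2 ?_
            show x⁻¹ * g ^ k' ∈ R
            rw [← e', mul_inv_rev, inv_mul_cancel_right]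
            exact inv_mem (hQR hq)
          have h1 : π ⁅(⟨x, hKL hx⟩ : L), ⟨j, hjL⟩⁆ = 1 := by
            rw [map_commutatorElement, commutatorElement_eq_one_iff_mul_comm, hx']
            exact ((Commute.zpow_left (show Commute (π ⟨g, hKL hgK⟩) (π ⟨j, hjL⟩) from hb.symm) k')).eq
          exact (QuotientGroup.eq_one_iff (N := R.subgroupOf L) _).1 h1
        exact hjc k hk
      exact hle hgK
    have hR2 : orderOf g = 1 := by
      obtain ⟨k, hk⟩ := CfsgLib.PReduced.isPGroup_pCoreOf 2 L ⟨g, hgR⟩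
      exact Nat.eq_one_of_dvd_coprimes (hodd.coprime_two_right.pow_right k) dvd_rfl
        (orderOf_dvd_of_pow_eq_one (congrArg Subtype.val hk))
    rw [orderOf_eq_one_iff] at hR2
    exact hw1 (hmov.fpf w hwW (by rw [hR2, one_mul, mul_one]))

/-- Different actions of `J` force trivial action on each other's module. -/
theorem Comp.kills {Y K K' : Subgroup G} {g g' j : G} (O : Over T L) (D : LocalData T L Y)
    (C : Comp T L Y K g) (C' : Comp T L Y K' g') (hj : j ∈ CfsgLib.Transfer.thompsonJ 2 T)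
    (hfix : ⁅j, g⁆ ∈ Cfsg.pCoreOf 2 L) (hmove : ⁅j, g'⁆ ∉ Cfsg.pCoreOf 2 L) :
    ∀ w ∈ Cfsg.wOf K, g' * w = w * g' := by
  set R := Cfsg.pCoreOf 2 L with hR
  have hgY : g ∈ Y := C.le C.gmem
  have hg'Y : g' ∈ Y := C'.le C'.gmem
  have hgL : g ∈ L := D.le hgY
  have hRW : ∀ r ∈ R, ∀ w ∈ Cfsg.wOf K, r * w * r⁻¹ ∈ Cfsg.wOf K := fun r hr w hw =>
    (Subgroup.mem_normalizer_iff.1 (normalizer_le_normalizer_wOf K (C.normR hr)) w).1 hw
  have hRc : ∀ r ∈ R, ∀ w ∈ Cfsg.wOf K, r * w = w * r :=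
    C.moves.centralizes_of_normalizes C.card (CfsgLib.PReduced.isPGroup_pCoreOf 2 L) hRW fun r hr =>
      (Subgroup.mem_normalizer_iff''.1 (O.L_le_normalizer_R hgL) r).1 hr
  have hKn : Y ≤ Subgroup.normalizer (K : Set G) := by
    have key : ∀ y ∈ Y, ∀ x ∈ K, y * x * y⁻¹ ∈ K := by
      intro y hy
      suffices K ≤ K.comap (MulAut.conj y).toMonoidHom from fun x hx => this hx
      conv_lhs => rw [← C.gen]
      rw [Subgroup.closure_le]
      rintro x ⟨hx, hxo⟩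
      show y * x * y⁻¹ ∈ K
      have hmem : y * x * y⁻¹ ∈ K ⊔ R := by
        rw [show y * x * y⁻¹ = ⁅y, x⁆ * x by simp only [commutatorElement_def]; group]
        exact mul_mem (Subgroup.mem_sup_right (D.comm y hy x (C.le hx))) (Subgroup.mem_sup_left hx)
      have hsn : (K.subgroupOf (K ⊔ R)).IsSubnormal := Subgroup.Normal.isSubnormal
        ((Subgroup.normal_subgroupOf_iff_le_normalizer le_sup_left).2 (sup_le Subgroup.le_normalizer C.normR))
      obtain ⟨n, hn⟩ := IsPGroup.iff_card.1 (CfsgLib.PReduced.isPGroup_pCoreOf 2 L : IsPGroup 2 R)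
      have hKR : K ≤ Subgroup.normalizer (R : Set G) := (C.le.trans D.le).trans O.L_le_normalizer_R
      have hidx : (K.subgroupOf (K ⊔ R)).index ∣ 2 ^ n := by
        haveI : (K.subgroupOf (K ⊔ R)).Normal :=
          (Subgroup.normal_subgroupOf_iff_le_normalizer le_sup_left).2 (sup_le Subgroup.le_normalizer C.normR)
        let f : R →* ↥(K ⊔ R) ⧸ K.subgroupOf (K ⊔ R) :=
          (QuotientGroup.mk' _).comp (Subgroup.inclusion le_sup_right)
        have hf : Function.Surjective f := by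
          intro q
          obtain ⟨l, rfl⟩ := QuotientGroup.mk'_surjective _ q
          have hl : (l : G) ∈ (((R ⊔ K) : Subgroup G) : Set G) := (sup_comm K R).le l.2
          rw [Subgroup.coe_mul_of_left_le_normalizer_right _ _ C.normR] at hl
          obtain ⟨r, hr, k, hk, e⟩ := hl
          refine ⟨⟨r, hr⟩, QuotientGroup.eq.2 ?_⟩
          show r⁻¹ * (l : G) ∈ K
          rw [← e]; simpa using hk
        rw [← hn, Subgroup.index_eq_card]
        exact Subgroup.card_dvd_of_surjective f hf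
      exact odd_mem_of_subnormal hsn hidx ⟨_, hmem⟩ (by
        rw [Subgroup.orderOf_mk]
        have : SemiconjBy y x (y * x * y⁻¹) := by simp [SemiconjBy]
        rw [← this.orderOf_eq]; exact hxo)
    intro y hy
    refine Subgroup.mem_normalizer_iff.2 fun x => ⟨key y hy x, fun hx => ?_⟩
    simpa [mul_assoc] using key y⁻¹ (inv_mem hy) _ hx
  have hnormW : ∀ h ∈ Subgroup.normalizer (K : Set G), ∀ w ∈ Cfsg.wOf K, h * w * h⁻¹ ∈ Cfsg.wOf K :=
    fun h hh w hw => (Subgroup.mem_normalizer_iff.1 (normalizer_le_normalizer_wOf K hh) w).1 hw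
  -- elements congruent modulo `R` act in the same way
  have hsame : ∀ a b : G, a⁻¹ * b ∈ R → ∀ w ∈ Cfsg.wOf K, b * w * b⁻¹ = a * w * a⁻¹ := by
    intro a b hab w hw
    calc b * w * b⁻¹ = a * ((a⁻¹ * b) * w * (a⁻¹ * b)⁻¹) * a⁻¹ := by group
      _ = a * w * a⁻¹ := by rw [mul_inv_eq_iff_eq_mul.2 (hRc _ hab w hw)]
  -- `j` centralizes `W`
  have hjW : ∀ w ∈ Cfsg.wOf K, j * w = w * j := by
    refine C.moves.centralizes_of_commute C.card
      ((O.hT.to_le (CfsgLib.Transfer.thompsonJ_le 2 T)).to_le (Subgroup.zpowers_le.2 hj))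
      (hnormW j (C.normJ hj)) (fun w hw => by simpa using hnormW j⁻¹ (inv_mem (C.normJ hj)) w hw) ?_
    intro w hw
    have hab : (j * g)⁻¹ * (g * j) ∈ R := by
      have h := (Subgroup.mem_normalizer_iff''.1 (O.L_le_normalizer_R (mul_mem (O.J_le hj) hgL)) _).1 (inv_mem hfix)
      rw [show (j * g)⁻¹ * (g * j) = (j * g)⁻¹ * ⁅j, g⁆⁻¹ * (j * g) by simp only [commutatorElement_def]; group]
      exact h
    have h := hsame (j * g) (g * j) hab w hw
    simpa only [mul_inv_rev, mul_assoc] using h.symm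
  -- `j` inverts `g'`
  have hinv : j * g' * j⁻¹ * g' ∈ R := (C'.sign j hj).resolve_left hmove
  have hg'n : g' ∈ Subgroup.normalizer (K : Set G) := hKn hg'Y
  have hsq : ∀ w ∈ Cfsg.wOf K, g' * g' * w = w * (g' * g') := by
    intro w hw
    set w' := g' * w * g'⁻¹ with hw'
    have hw'W : w' ∈ Cfsg.wOf K := hnormW _ hg'n w hw
    have h1 : (j * g' * j⁻¹) * w * (j * g' * j⁻¹)⁻¹ = w' := by
      calc (j * g' * j⁻¹) * w * (j * g' * j⁻¹)⁻¹ = j * (g' * (j⁻¹ * w * j) * g'⁻¹) * j⁻¹ := by group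
        _ = w' := by
          rw [show j⁻¹ * w * j = w by rw [mul_assoc, ← hjW w hw, inv_mul_cancel_left]]
          exact mul_inv_eq_iff_eq_mul.2 (hjW w' hw'W)
    have h2 : (j * g' * j⁻¹) * w * (j * g' * j⁻¹)⁻¹ = g'⁻¹ * w * g'⁻¹⁻¹ := by
      refine hsame g'⁻¹ (j * g' * j⁻¹) ?_ w hw
      rw [inv_inv]
      have h := (Subgroup.mem_normalizer_iff.1 (O.L_le_normalizer_R (D.le hg'Y)) _).1 hinv
      simpa [mul_assoc] using h
    have h3 := congrArg (fun z => g' * z * g'⁻¹) (h1.symm.trans h2)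
    simp only [hw'] at h3
    rw [inv_inv] at h3
    have h4 : g' * g' * w * (g' * g')⁻¹ = w := by
      calc g' * g' * w * (g' * g')⁻¹ = g' * (g' * w * g'⁻¹) * g'⁻¹ := by group
        _ = g' * (g'⁻¹ * w * g') * g'⁻¹ := h3
        _ = w := by group
    exact mul_inv_eq_iff_eq_mul.1 h4
  obtain ⟨k, hk⟩ := C'.odd
  intro w hw
  have h : g' = (g' * g') ^ (k + 1) := by
    rw [← pow_two, ← pow_mul, show 2 * (k + 1) = 2 * k + 1 + 1 by ring, pow_succ, ← hk,
      pow_orderOf_eq_one, one_mul]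
  rw [h]
  exact (Commute.pow_left (show Commute (g' * g') w from hsq w hw) (k + 1)).eq

/-- Of two components with intersecting modules, either contains the other. -/
theorem Comp.le_of_share {Y K K' : Subgroup G} {g g' : G} (O : Over T L) (D : LocalData T L Y)
    (C : Comp T L Y K g) (C' : Comp T L Y K' g') {w : G} (hw : w ∈ Cfsg.wOf K) (hw' : w ∈ Cfsg.wOf K')
    (hw1 : w ≠ 1) : K' ≤ K := by
  set R := Cfsg.pCoreOf 2 L with hR
  have hoddR : ∀ {x : G}, Odd (orderOf x) → x ∈ R → x = 1 := by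
    intro x hx hxR
    obtain ⟨k, hk⟩ := CfsgLib.PReduced.isPGroup_pCoreOf 2 L ⟨x, hxR⟩
    exact orderOf_eq_one_iff.1 (Nat.eq_one_of_dvd_coprimes (hx.coprime_two_right.pow_right k) dvd_rfl
      (orderOf_dvd_of_pow_eq_one (congrArg Subtype.val hk)))
  by_cases hall : ∀ j ∈ CfsgLib.Transfer.thompsonJ 2 T, (⁅j, g⁆ ∈ R ↔ ⁅j, g'⁆ ∈ R)
  · have hgR : g ∉ R := fun h => hw1 (C.moves.fpf w hw (by rw [hoddR C.odd h, one_mul, mul_one]))
    have hg'R : g' ∉ R := fun h => hw1 (C'.moves.fpf w hw' (by rw [hoddR C'.odd h, one_mul, mul_one]))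
    have hmem := D.sign g (C.le C.gmem) g' (C'.le C'.gmem) hgR hg'R
      (fun j hj => ⟨C.sign j hj, C'.sign j hj, hall j hj⟩) C.moved
    have hle : K' ≤ K ⊔ R := by
      refine C'.span.trans (sup_le (Subgroup.zpowers_le.2 ?_) le_sup_right)
      exact sup_le_sup_right (Subgroup.zpowers_le.2 C.gmem) R hmem
    haveI : (K.subgroupOf (K ⊔ R)).Normal :=
      (Subgroup.normal_subgroupOf_iff_le_normalizer le_sup_left).2 (sup_le Subgroup.le_normalizer C.normR)
    rw [← C'.gen, Subgroup.closure_le]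
    rintro x ⟨hx, hxo⟩
    have hx' : x ∈ (((R ⊔ K) : Subgroup G) : Set G) := (sup_comm K R).le (hle hx)
    rw [Subgroup.coe_mul_of_left_le_normalizer_right _ _ C.normR] at hx'
    obtain ⟨r, hr, k, hk, e⟩ := hx'
    have e' : r * k = x := e
    let π := QuotientGroup.mk' (K.subgroupOf (K ⊔ R))
    have h1 : π ⟨x, hle hx⟩ = π ⟨r, Subgroup.mem_sup_right hr⟩ := by
      refine (QuotientGroup.eq.2 ?_).symm
      show r⁻¹ * x ∈ K
      rw [← e']; simpa using hk
    have d1 : orderOf (π ⟨x, hle hx⟩) ∣ orderOf x := by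
      have h := orderOf_map_dvd π (⟨x, hle hx⟩ : ↥(K ⊔ R))
      rwa [Subgroup.orderOf_mk] at h
    obtain ⟨m, hm⟩ := CfsgLib.PReduced.isPGroup_pCoreOf 2 L ⟨r, hr⟩
    have d2 : orderOf (π ⟨x, hle hx⟩) ∣ 2 ^ m := by
      refine orderOf_dvd_of_pow_eq_one ?_
      rw [h1, ← map_pow, show (⟨r, Subgroup.mem_sup_right hr⟩ : ↥(K ⊔ R)) ^ 2 ^ m = 1 from
        Subtype.ext (by simpa using congrArg Subtype.val hm), map_one]
    have h3 := orderOf_eq_one_iff.1 (Nat.eq_one_of_dvd_coprimes (hxo.coprime_two_right.pow_right m) d1 d2)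
    exact (QuotientGroup.eq_one_iff (N := K.subgroupOf (K ⊔ R)) _).1 h3
  · exfalso
    push Not at hall
    obtain ⟨j, hj, h | h⟩ := hall
    · exact hw1 (C'.moves.fpf w hw' (C.kills O D C' hj h.1 h.2 w hw))
    · exact hw1 (C.moves.fpf w hw (C'.kills O D C hj h.2 h.1 w hw'))

/-- Two components with intersecting modules coincide. -/
theorem Comp.eq_of_share {Y K K' : Subgroup G} {g g' : G} (O : Over T L) (D : LocalData T L Y)
    (C : Comp T L Y K g) (C' : Comp T L Y K' g') {w : G} (hw : w ∈ Cfsg.wOf K) (hw' : w ∈ Cfsg.wOf K')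
    (hw1 : w ≠ 1) (hcard : Nat.card K' = Nat.card K) : K' = K :=
  Subgroup.eq_of_le_of_card_ge (C.le_of_share O D C' hw hw' hw1) hcard.ge

/-- Two components with intersecting modules coincide, without a hypothesis on their orders. -/
theorem Comp.eq_of_share' {Y K K' : Subgroup G} {g g' : G} (O : Over T L) (D : LocalData T L Y)
    (C : Comp T L Y K g) (C' : Comp T L Y K' g') {w : G} (hw : w ∈ Cfsg.wOf K) (hw' : w ∈ Cfsg.wOf K')
    (hw1 : w ≠ 1) : K' = K :=
  le_antisymm (C.le_of_share O D C' hw hw' hw1) (C'.le_of_share O D C hw' hw hw1)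

/-- Conjugates of components. -/
theorem Comp.conj {Y K : Subgroup G} {g h : G} (O : Over T L) (D : LocalData T L Y)
    (C : Comp T L Y K g) (hh : h ∈ L) (hJ : h ∈ Subgroup.normalizer (CfsgLib.Transfer.thompsonJ 2 T : Set G)) :
    Comp T L Y (K.map (MulAut.conj h).toMonoidHom) (h * g * h⁻¹) := by
  set c := (MulAut.conj h).toMonoidHom with hc
  set R := Cfsg.pCoreOf 2 L with hR
  set J := CfsgLib.Transfer.thompsonJ 2 T with hJdef
  have hW : Cfsg.wOf (K.map c) = (Cfsg.wOf K).map c := wOf_map h (pCoreOf_map K h)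
  have hRh := O.L_le_normalizer_R hh
  have hback : ∀ {x : G} {A : Subgroup G}, h ∈ Subgroup.normalizer (A : Set G) → x ∈ A → h⁻¹ * x * h ∈ A :=
    fun {x} {A} hA hx => (Subgroup.mem_normalizer_iff''.1 hA x).1 hx
  have hRmap : R.map c = R := by
    refine le_antisymm ?_ fun r hr => ⟨_, hback hRh hr, by simp [hc, mul_assoc]⟩
    rintro _ ⟨r, hr, rfl⟩; exact (Subgroup.mem_normalizer_iff.1 hRh r).1 hr
  have hJmap : J.map c = J := by
    refine le_antisymm ?_ fun r hr => ⟨_, hback hJ hr, by simp [hc, mul_assoc]⟩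
    rintro _ ⟨r, hr, rfl⟩; exact (Subgroup.mem_normalizer_iff.1 hJ r).1 hr
  have hord : ∀ x, orderOf (c x) = orderOf x := fun x => orderOf_injective c (MulAut.conj h).injective x
  refine ⟨?_, ⟨g, C.gmem, rfl⟩, ?_, ?_, ?_, ⟨?_, ?_⟩, ?_, ?_, ?_, fun j hj => ?_, ?_⟩
  · rintro _ ⟨x, hx, rfl⟩
    exact (Subgroup.mem_normalizer_iff.1 (D.norm hh) x).1 (C.le hx)
  · refine le_antisymm ((Subgroup.closure_le _).2 fun x hx => hx.1) ?_
    conv_lhs => rw [← C.gen, MonoidHom.map_closure]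
    exact Subgroup.closure_mono (by rintro _ ⟨x, ⟨hx, ho⟩, rfl⟩; exact ⟨⟨x, hx, rfl⟩, (hord x).symm ▸ ho⟩)
  · refine (Subgroup.map_mono C.span).trans ?_
    rw [Subgroup.map_sup, MonoidHom.map_zpowers, hRmap]
    rfl
  · rw [show h * g * h⁻¹ = c g from rfl, hord]; exact C.odd
  · rw [hW]
    rintro _ ⟨w, hw, rfl⟩
    exact ⟨g * w * g⁻¹, C.moves.norm w hw, by simp [hc, mul_assoc]⟩
  · rw [hW]
    rintro _ ⟨w, hw, rfl⟩ e
    have e' : c (g * w) = c (w * g) := by rw [map_mul, map_mul]; exact e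
    rw [C.moves.fpf w hw ((MulAut.conj h).injective e'), map_one]
  · rw [hW, Subgroup.card_map_of_injective (MulAut.conj h).injective, C.card]
  · calc R = R.map c := hRmap.symm
      _ ≤ (Subgroup.normalizer (K : Set G)).map c := Subgroup.map_mono C.normR
      _ ≤ _ := Subgroup.le_normalizer_map c
  · calc J = J.map c := hJmap.symm
      _ ≤ (Subgroup.normalizer (K : Set G)).map c := Subgroup.map_mono C.normJ
      _ ≤ _ := Subgroup.le_normalizer_map c
  · have hj' : h⁻¹ * j * h ∈ J := hback hJ hj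
    have e1 : ⁅j, h * g * h⁻¹⁆ = c ⁅h⁻¹ * j * h, g⁆ := by simp [hc, commutatorElement_def, mul_assoc]
    have e2 : j * (h * g * h⁻¹) * j⁻¹ * (h * g * h⁻¹) = c ((h⁻¹ * j * h) * g * (h⁻¹ * j * h)⁻¹ * g) := by
      simp [hc, mul_assoc]
    rw [e1, e2]
    exact (C.sign _ hj').imp (fun hm => hRmap.le ⟨_, hm, rfl⟩) (fun hm => hRmap.le ⟨_, hm, rfl⟩)
  · obtain ⟨j, hj, hjm⟩ := C.moved
    refine ⟨h * j * h⁻¹, (Subgroup.mem_normalizer_iff.1 hJ j).1 hj, fun hm => hjm ?_⟩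
    rw [show ⁅h * j * h⁻¹, h * g * h⁻¹⁆ = h * ⁅j, g⁆ * h⁻¹ by simp only [commutatorElement_def]; group] at hm
    exact (Subgroup.mem_normalizer_iff.1 hRh _).2 hm

end CfsgLib.JComp
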