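import Cfsg.Agent.Lib.JComp.Exists

/-!
# Straddling 2-subgroups of largest Thompson data
-/

set_option autoImplicit false
set_option linter.style.haveILetI false

namespace CfsgLib.JComp

universe u

variable {G : Type u} [Group G] [Finite G]

theorem maxElemAbelianOrder_eq {T A : Subgroup G} (hA : A ∈ CfsgLib.Transfer.maxAbExp 2 T) :
    Cfsg.maxElemAbelianOrder T = Nat.card A := by
  have hinj : ∀ X : Subgroup T, Set.InjOn T.subtype (X : Set T) := fun X => T.subtype_injective.injOn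
  have key : ∀ X ∈ Cfsg.maxElementaryAbelianSubgroups 2 T, Nat.card X = Nat.card A := by
    rintro X ⟨hX, hmax⟩
    refine le_antisymm ?_ ?_
    · rw [← Subgroup.card_map_of_injective T.subtype_injective]
      exact hA.2.2 _ (Subgroup.map_subtype_le X)
        ((CfsgLib.Transfer.isAbExp_map_iff 2 T.subtype (hinj X)).2 ⟨hX.1, hX.2⟩)
    · have hA' : CfsgLib.Transfer.IsAbExp 2 (A.subgroupOf T) := by
        rw [← CfsgLib.Transfer.isAbExp_map_iff 2 T.subtype (hinj _), Subgroup.map_subgroupOf_eq_of_le hA.1]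
        exact hA.2.1
      rw [← Nat.card_congr (Subgroup.subgroupOfEquivOfLe hA.1).toEquiv]
      exact hmax _ ⟨hA'.1, hA'.2⟩
  have hmem : A.subgroupOf T ∈ Cfsg.maxElementaryAbelianSubgroups 2 T := by
    have hA' : CfsgLib.Transfer.IsAbExp 2 (A.subgroupOf T) := by
      rw [← CfsgLib.Transfer.isAbExp_map_iff 2 T.subtype (hinj _), Subgroup.map_subgroupOf_eq_of_le hA.1]
      exact hA.2.1
    refine ⟨⟨hA'.1, hA'.2⟩, fun B hB => ?_⟩
    rw [Nat.card_congr (Subgroup.subgroupOfEquivOfLe hA.1).toEquiv, ← Subgroup.card_map_of_injective T.subtype_injective]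
    exact hA.2.2 _ (Subgroup.map_subtype_le B)
      ((CfsgLib.Transfer.isAbExp_map_iff 2 T.subtype (hinj B)).2 ⟨hB.1, hB.2⟩)
  have hset : ((fun A : Subgroup T => Nat.card A) '' Cfsg.maxElementaryAbelianSubgroups 2 T) = {Nat.card A} := by
    refine Set.eq_singleton_iff_unique_mem.2 ⟨⟨_, hmem, key _ hmem⟩, ?_⟩
    rintro _ ⟨X, hX, rfl⟩
    exact key X hX
  rw [Cfsg.maxElemAbelianOrder, hset, csSup_singleton]

/-- The data of a straddling subgroup with largest Thompson data. -/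
structure MaxStrad (M T : Subgroup G) : Prop where
  amb : Ambient G
  sylow : ∃ S : Sylow 2 G, Subgroup.normalizer (CfsgLib.Transfer.thompsonJ 2 (S : Subgroup G) : Set G) ≤ M
  mem : T ∈ Cfsg.maxStraddlingTwoSubgroups M

variable {M T : Subgroup G}

theorem MaxStrad.isPGroup (P : MaxStrad M T) : IsPGroup 2 T := P.mem.1.1

theorem MaxStrad.ne_bot (P : MaxStrad M T) : T ≠ ⊥ := P.mem.1.2.1

theorem MaxStrad.le_M (P : MaxStrad M T) : T ≤ M := P.mem.1.2.2.1

/-- A straddling subgroup containing `J(T)` has the same Thompson subgroup and is not larger. -/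
theorem MaxStrad.eq_of_straddling (P : MaxStrad M T) {U : Subgroup G} (hU : U ∈ Cfsg.straddlingTwoSubgroups M)
    (hJ : CfsgLib.Transfer.thompsonJ 2 T ≤ U) :
    CfsgLib.Transfer.thompsonJ 2 U = CfsgLib.Transfer.thompsonJ 2 T ∧ Nat.card U ≤ Nat.card T := by
  obtain ⟨A, hA⟩ := CfsgLib.Transfer.thompsonJ_nonempty 2 T
  obtain ⟨B, hB⟩ := CfsgLib.Transfer.thompsonJ_nonempty 2 U
  obtain ⟨h1, h2⟩ := P.mem.2 U hU
  rw [maxElemAbelianOrder_eq hA, maxElemAbelianOrder_eq hB] at h1 h2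
  have hle : ∀ X ∈ CfsgLib.Transfer.maxAbExp 2 T, Nat.card X ≤ Nat.card B := fun X hX =>
    hB.2.2 X ((le_sSup hX).trans hJ) hX.2.1
  have heq : Nat.card B = Nat.card A := le_antisymm h1 (hle A hA)
  have hsub : CfsgLib.Transfer.thompsonJ 2 T ≤ CfsgLib.Transfer.thompsonJ 2 U := by
    refine sSup_le fun X hX => le_sSup ⟨(le_sSup hX).trans hJ, hX.2.1, fun C hC hCe => ?_⟩
    refine (hB.2.2 C hC hCe).trans ?_
    rw [heq]
    exact hX.2.2 A hA.1 hA.2.1
  obtain ⟨h3, h4⟩ := h2 heq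
  rw [CfsgLib.Transfer.thompsonSubgroupOf_eq, CfsgLib.Transfer.thompsonSubgroupOf_eq] at h3 h4
  have e := Subgroup.eq_of_le_of_card_ge hsub h3
  exact ⟨e.symm, h4 (by rw [e])⟩

/-- The normalizer of `J(T)` is in `M`. -/
theorem MaxStrad.normalizer_J_le (P : MaxStrad M T) :
    Subgroup.normalizer (CfsgLib.Transfer.thompsonJ 2 T : Set G) ≤ M := by
  haveI : Fact (Nat.Prime 2) := ⟨Nat.prime_two⟩
  set J := CfsgLib.Transfer.thompsonJ 2 T with hJdef
  by_contra hle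
  obtain ⟨S, hS⟩ := P.sylow
  have hSM : (S : Subgroup G) ≤ M :=
    (Subgroup.le_normalizer.trans (CfsgLib.Transfer.normalizer_le_normalizer_thompsonJ 2 _)).trans hS
  have hJp : IsPGroup 2 J := P.isPGroup.to_le (CfsgLib.Transfer.thompsonJ_le 2 T)
  have hJ1 : J ≠ ⊥ := CfsgLib.Transfer.thompsonJ_ne_bot (dvd_refl 2) P.isPGroup P.ne_bot
  obtain ⟨T₁, hT₁⟩ := (P.isPGroup.comap_of_injective M.subtype M.subtype_injective :
    IsPGroup 2 (T.subgroupOf M)).exists_le_sylow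
  set S₁ := (T₁ : Subgroup M).map M.subtype with hS₁
  have hTS₁ : T ≤ S₁ := fun t ht => ⟨⟨t, P.le_M ht⟩, hT₁ ht, rfl⟩
  rcases eq_or_ne T S₁ with hTe | hne
  · -- `T` is conjugate to `S` in `M`
    obtain ⟨h, hh⟩ := MulAction.exists_smul_eq M (S.subtype hSM) T₁
    have hT : T = (S : Subgroup G).map (MulAut.conj (h : G)).toMonoidHom := by
      rw [hTe, hS₁, ← hh]
      ext x
      constructor
      · rintro ⟨_, ⟨s, hs, rfl⟩, rfl⟩
        exact ⟨(s : G), hs, rfl⟩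
      · rintro ⟨s, hs, rfl⟩
        exact ⟨_, ⟨⟨s, hSM hs⟩, hs, rfl⟩, rfl⟩
    refine hle fun n hn => ?_
    have hJT : J = (CfsgLib.Transfer.thompsonJ 2 (S : Subgroup G)).map (MulAut.conj (h : G)).toMonoidHom := by
      rw [hJdef, hT]
      exact (CfsgLib.Transfer.map_thompsonJ 2 _ (MulAut.conj (h : G)).injective.injOn).symm
    have hh' : (h : G)⁻¹ * n * h ∈ M := hS (by
      refine mem_normalizer_of_le fun j hj => ?_
      have hj' : (h : G) * j * (h : G)⁻¹ ∈ J := hJT.ge ⟨j, hj, rfl⟩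
      obtain ⟨j', hj'', e⟩ := hJT.le ((Subgroup.mem_normalizer_iff.1 hn _).1 hj')
      have e' : (h : G) * j' * (h : G)⁻¹ = n * ((h : G) * j * (h : G)⁻¹) * n⁻¹ := e
      have e'' : (h : G)⁻¹ * n * h * j * ((h : G)⁻¹ * n * h)⁻¹ = j' := by
        calc (h : G)⁻¹ * n * h * j * ((h : G)⁻¹ * n * h)⁻¹
            = (h : G)⁻¹ * (n * ((h : G) * j * (h : G)⁻¹) * n⁻¹) * h := by group
          _ = j' := by rw [← e']; group
      rw [e'']; exact hj'')
    rw [show n = (h : G) * ((h : G)⁻¹ * n * h) * (h : G)⁻¹ by group]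
    exact mul_mem (mul_mem h.2 hh') (inv_mem h.2)
  · -- otherwise a larger straddling subgroup exists
    have hlt : T < S₁ := lt_of_le_of_ne hTS₁ hne
    haveI : Group.IsNilpotent ↥S₁ := (T₁.2.map M.subtype).isNilpotent
    have h1 : T.subgroupOf S₁ < Subgroup.normalizer (T.subgroupOf S₁ : Set S₁) :=
      normalizerCondition_of_isNilpotent (T.subgroupOf S₁) (lt_top_iff_ne_top.2 fun h =>
        hne (le_antisymm hTS₁ (Subgroup.subgroupOf_eq_top.1 h)))
    obtain ⟨s, hs, hsT⟩ := SetLike.exists_of_lt h1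
    have hsn : (s : G) ∈ Subgroup.normalizer (T : Set G) := by
      refine mem_normalizer_of_le fun t ht => ?_
      exact (Subgroup.mem_normalizer_iff.1 hs ⟨t, hTS₁ ht⟩).1 ht
    set U := T ⊔ Subgroup.zpowers (s : G) with hU
    have hUS : U ≤ S₁ := sup_le hTS₁ (Subgroup.zpowers_le.2 s.2)
    have hUstr : U ∈ Cfsg.straddlingTwoSubgroups M := by
      refine ⟨(T₁.2.map M.subtype).to_le hUS, fun h => P.ne_bot (le_bot_iff.1 (h ▸ le_sup_left)),
        hUS.trans (Subgroup.map_subtype_le _), _, ⟨J, hJp, hJ1, rfl⟩, ?_, hle⟩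
      exact (sup_le Subgroup.le_normalizer (Subgroup.zpowers_le.2 hsn)).trans
        (CfsgLib.Transfer.normalizer_le_normalizer_thompsonJ 2 T)
    have hcard := (P.eq_of_straddling hUstr ((CfsgLib.Transfer.thompsonJ_le 2 T).trans le_sup_left)).2
    have e := Subgroup.eq_of_le_of_card_ge (le_sup_left : T ≤ U) hcard
    have hsU : (s : G) ∈ U := Subgroup.mem_sup_right (Subgroup.mem_zpowers _)
    exact hsT (e.ge hsU)

/-- Sylow subgroups of an outside 2-local subgroup containing `J(T)`. -/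
theorem MaxStrad.sylow_local (P : MaxStrad M T) {L T₀ : Subgroup G} (hL : Cfsg.IsTwoLocal L) (hLM : ¬ L ≤ M)
    (hT₀ : Cfsg.IsSylowTwoIn T₀ L) (hJ : CfsgLib.Transfer.thompsonJ 2 T ≤ T₀) :
    CfsgLib.Transfer.thompsonJ 2 T₀ = CfsgLib.Transfer.thompsonJ 2 T ∧ T₀ ∈ Cfsg.straddlingTwoSubgroups M ∧
      L ∈ Cfsg.jOvergroups T₀ := by
  haveI : Fact (Nat.Prime 2) := ⟨Nat.prime_two⟩
  have hJ1 : CfsgLib.Transfer.thompsonJ 2 T ≠ ⊥ :=
    CfsgLib.Transfer.thompsonJ_ne_bot (dvd_refl 2) P.isPGroup P.ne_bot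
  have hstr : ∀ U : Subgroup G, U ≤ T₀ → CfsgLib.Transfer.thompsonJ 2 T ≤ U → U ≤ M →
      U ∈ Cfsg.straddlingTwoSubgroups M := fun U hU hJU hUM =>
    ⟨hT₀.2.1.to_le hU, fun h => hJ1 (le_bot_iff.1 (h ▸ hJU)), hUM, L, hL, hU.trans hT₀.1, hLM⟩
  set U := T₀ ⊓ M with hU
  have hJU : CfsgLib.Transfer.thompsonJ 2 T ≤ U :=
    le_inf hJ ((CfsgLib.Transfer.thompsonJ_le 2 T).trans P.le_M)
  obtain ⟨hJeq, -⟩ := P.eq_of_straddling (hstr U inf_le_left hJU inf_le_right) hJU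
  have hT₀M : T₀ ≤ M := by
    by_contra h
    have hne : U ≠ T₀ := fun e => h (e ▸ inf_le_right)
    haveI : Group.IsNilpotent ↥T₀ := hT₀.2.1.isNilpotent
    have h1 : U.subgroupOf T₀ < Subgroup.normalizer (U.subgroupOf T₀ : Set T₀) :=
      normalizerCondition_of_isNilpotent (U.subgroupOf T₀) (lt_top_iff_ne_top.2 fun h' =>
        hne (le_antisymm inf_le_left (Subgroup.subgroupOf_eq_top.1 h')))
    obtain ⟨s, hs, hsU⟩ := SetLike.exists_of_lt h1
    have hsn : (s : G) ∈ Subgroup.normalizer (U : Set G) := by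
      refine mem_normalizer_of_le fun t ht => ?_
      exact (Subgroup.mem_normalizer_iff.1 hs ⟨t, ht.1⟩).1 ht
    have hsJ := CfsgLib.Transfer.normalizer_le_normalizer_thompsonJ 2 U hsn
    rw [hJeq] at hsJ
    exact hsU (Subgroup.mem_inf.2 ⟨s.2, P.normalizer_J_le hsJ⟩)
  have hstr₀ := hstr T₀ le_rfl hJ hT₀M
  obtain ⟨hJ₀, -⟩ := P.eq_of_straddling hstr₀ hJ
  obtain ⟨R₀, hR₀, hR₀1, hLR⟩ := hL
  refine ⟨hJ₀, hstr₀, hT₀, ?_, ?_⟩
  · rw [CfsgLib.Transfer.thompsonSubgroupOf_eq, hJ₀]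
    intro hle
    refine hLM ?_
    have hRT : Cfsg.pCoreOf 2 L ≤ T₀ := by
      let Q : Sylow 2 L := (hT₀.2.1.comap_of_injective L.subtype L.subtype_injective :
        IsPGroup 2 (T₀.subgroupOf L)).toSylow (fun h => Nat.not_even_iff_odd.2 hT₀.2.2 (even_iff_two_dvd.2 h))
      rintro _ ⟨x, hx, rfl⟩
      haveI : (Cfsg.pCore 2 L).Normal := CfsgLib.Fitting.pCore_normal 2
      exact IsPGroup.le_sylow_of_normal (CfsgLib.Fitting.pCore_isPGroup 2) Q hx
    have e : CfsgLib.Transfer.thompsonJ 2 (Cfsg.pCoreOf 2 L) = CfsgLib.Transfer.thompsonJ 2 T :=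
      thompsonJ_mid hJ₀.symm hle hRT
    refine le_trans ?_ P.normalizer_J_le
    rw [← e]
    exact (CfsgLib.Signalizer.normalizer_le_normalizer_pCoreOf 2 Subgroup.le_normalizer).trans
      (CfsgLib.Transfer.normalizer_le_normalizer_thompsonJ 2 _)
  · subst hLR
    set N := Subgroup.normalizer (R₀ : Set G) with hN
    have hc := P.amb.char2.2 R₀ hR₀ hR₀1
    have hW2 : R₀ ≤ Cfsg.pCoreOf 2 N := by
      haveI : (R₀.subgroupOf N).Normal := Subgroup.normal_in_normalizer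
      have h := CfsgLib.Fitting.le_pCore (G := ↥N) this (hR₀.comap_of_injective N.subtype N.subtype_injective)
      intro w hw
      exact ⟨⟨w, Subgroup.le_normalizer hw⟩, h hw, rfl⟩
    intro c hc'
    have hcN : c ∈ N := Subgroup.centralizer_le_normalizer _ (Subgroup.centralizer_le hW2 hc')
    refine ⟨⟨c, hcN⟩, hc (Subgroup.mem_centralizer_iff.2 fun r hr => Subtype.ext ?_), rfl⟩
    exact Subgroup.mem_centralizer_iff.1 hc' _ ⟨r, hr, rfl⟩

/-- An outside 2-local subgroup containing `T`. -/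
theorem MaxStrad.local_over (P : MaxStrad M T) {L : Subgroup G} (hL : Cfsg.IsTwoLocal L) (hLM : ¬ L ≤ M)
    (hTL : T ≤ L) :
    L ∈ Cfsg.jOvergroups T ∧ ∃ K : Subgroup G, Cfsg.IsJComponent T K ∧ K ≤ L ∧ ¬ K ≤ M := by
  haveI : Fact (Nat.Prime 2) := ⟨Nat.prime_two⟩
  obtain ⟨Q, hQ⟩ := (P.isPGroup.comap_of_injective L.subtype L.subtype_injective :
    IsPGroup 2 (T.subgroupOf L)).exists_le_sylow
  set T' := (Q : Subgroup L).map L.subtype with hT'
  have hTT' : T ≤ T' := fun t ht => ⟨⟨t, hTL ht⟩, hQ ht, rfl⟩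
  have hsy : Cfsg.IsSylowTwoIn T' L := by
    refine ⟨Subgroup.map_subtype_le _, Q.2.map _, ?_⟩
    rw [hT', Subgroup.relIndex, ← Subgroup.comap_subtype,
      Subgroup.comap_map_eq_self_of_injective (Subgroup.subtype_injective _)]
    rw [← Nat.not_even_iff_odd, even_iff_two_dvd]
    exact Sylow.not_dvd_index Q
  have hJT' := (CfsgLib.Transfer.thompsonJ_le 2 T).trans hTT'
  obtain ⟨-, hstr, hover⟩ := P.sylow_local hL hLM hsy hJT'
  have e : T = T' := Subgroup.eq_of_le_of_card_ge hTT' (P.eq_of_straddling hstr hJT').2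
  rw [← e] at hover
  refine ⟨hover, Over.exists_component ⟨P.amb, P.isPGroup, P.ne_bot, hover⟩ P.le_M P.normalizer_J_le hLM
    fun S hS hJS => (P.sylow_local hL hLM hS hJS).1⟩

end CfsgLib.JComp
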