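import Cfsg.Agent.Lib.JComp.Embedded
import Cfsg.Agent.Lib.Transfer.Thompson
import Mathlib.GroupTheory.FiniteAbelian.Duality
import Mathlib.RingTheory.RootsOfUnity.AlgebraicallyClosed
import Mathlib.Analysis.Complex.Polynomial.Basic

/-!
# The subgroup generated by the elements of odd order next to an amalgam pair
-/

set_option autoImplicit false
set_option linter.style.haveILetI false

namespace CfsgLib.JComp

universe u

variable {G : Type u} [Group G] [Finite G] {M T K M' K' : Subgroup G}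

theorem commutator_mem_of_small {T W : Subgroup G} (hT : IsPGroup 2 T) (hWT : W ≤ T)
    (hn : T ≤ Subgroup.normalizer (W : Set G)) (h : Nat.card T ≤ 4 * Nat.card W) {a b : G} (ha : a ∈ T)
    (hb : b ∈ T) : a * b * a⁻¹ * b⁻¹ ∈ W := by
  haveI : Fact (Nat.Prime 2) := ⟨Nat.prime_two⟩
  haveI : (W.subgroupOf T).Normal := (Subgroup.normal_subgroupOf_iff_le_normalizer hWT).2 hn
  have h1 := Subgroup.card_eq_card_quotient_mul_card_subgroup (W.subgroupOf T)
  rw [Nat.card_congr (Subgroup.subgroupOfEquivOfLe hWT).toEquiv] at h1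
  have h2 : Nat.card (↥T ⧸ W.subgroupOf T) ≤ 4 := by
    rw [h1] at h
    exact Nat.le_of_mul_le_mul_right h Nat.card_pos
  obtain ⟨n, hn'⟩ := IsPGroup.iff_card.1 (hT.to_quotient (W.subgroupOf T))
  have hc : ∀ x y : ↥T ⧸ W.subgroupOf T, x * y = y * x := by
    intro x y
    have hn2 : n ≤ 2 := by
      by_contra hlt
      have : 2 ^ 3 ≤ 2 ^ n := Nat.pow_le_pow_right (by norm_num) (by omega)
      omega
    interval_cases n
    · haveI : Subsingleton (↥T ⧸ W.subgroupOf T) := (Nat.card_eq_one_iff_unique.1 (by simpa using hn')).1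
      exact Subsingleton.elim _ _
    · haveI := isCyclic_of_prime_card (α := ↥T ⧸ W.subgroupOf T) (p := 2) (by simpa using hn')
      letI := IsCyclic.commGroup (α := ↥T ⧸ W.subgroupOf T)
      exact mul_comm x y
    · exact IsPGroup.commutative_of_card_eq_prime_sq hn' x y
  have h3 : (QuotientGroup.mk' (W.subgroupOf T)) (⟨a, ha⟩ * ⟨b, hb⟩ * (⟨a, ha⟩ : T)⁻¹ * (⟨b, hb⟩ : T)⁻¹) = 1 := by
    rw [map_mul, map_mul, map_mul, map_inv, map_inv, hc (QuotientGroup.mk' _ ⟨a, ha⟩)]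
    group
  exact Subgroup.mem_subgroupOf.1 ((QuotientGroup.eq_one_iff (N := W.subgroupOf T) _).1 h3)

theorem Pair.core_le (Q : Pair M T K M' K') : Cfsg.pCoreOf 2 (K ⊔ T) ≤ T :=
  core_le_of_sylowTwoIn Q.fst.facts.sylow

theorem Pair.card_core (Q : Pair M T K M' K') : Nat.card T = 2 * Nat.card (Cfsg.pCoreOf 2 (K ⊔ T)) := by
  have h1 := Q.fst.facts.card
  have h2 := Q.fst.facts.card'
  rw [← Subgroup.card_map_of_injective (K := Cfsg.pCore 2 ↥(K ⊔ T)) (Subgroup.subtype_injective _)] at h2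
  have h2' : Nat.card ↥(K ⊔ T) = 6 * Nat.card (Cfsg.pCoreOf 2 (K ⊔ T)) := h2
  omega

theorem Pair.mul_mem_core (Q : Pair M T K M' K') {a b : G} (ha : a ∈ T) (hb : b ∈ T)
    (ha' : a ∉ Cfsg.pCoreOf 2 (K ⊔ T)) (hb' : b ∉ Cfsg.pCoreOf 2 (K ⊔ T)) :
    a * b ∈ Cfsg.pCoreOf 2 (K ⊔ T) := by
  set R := Cfsg.pCoreOf 2 (K ⊔ T)
  have hidx : R.relIndex T = 2 := by
    have h3 : Nat.card R * R.relIndex T = Nat.card T := by
      simpa using Subgroup.relIndex_mul_relIndex ⊥ R T bot_le Q.core_le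
    have h4 : Nat.card R * R.relIndex T = Nat.card R * 2 := by rw [h3, Q.card_core, mul_comm]
    exact Nat.eq_of_mul_eq_mul_left Nat.card_pos h4
  exact (Subgroup.mul_mem_iff_of_index_two (H := R.subgroupOf T) hidx (a := ⟨a, ha⟩) (b := ⟨b, hb⟩)).2
    (iff_of_false ha' hb')

theorem Pair.core_comm (Q : Pair M T K M' K') {a b : G} (ha : a ∈ Cfsg.pCoreOf 2 (K ⊔ T))
    (hb : b ∈ Cfsg.pCoreOf 2 (K ⊔ T)) : a * b = b * a :=
  congrArg Subtype.val (Q.core_shape.2.1.1.is_comm.comm ⟨a, ha⟩ ⟨b, hb⟩)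

theorem Pair.core_sq (Q : Pair M T K M' K') {a : G} (ha : a ∈ Cfsg.pCoreOf 2 (K ⊔ T)) : a * a = 1 := by
  rw [← pow_two]; exact Q.core_shape.2.1.2 a ha

theorem Pair.centPart_comm (Q : Pair M T K M' K') {y : G} (hy : y ∈ centPart T K) {h : G} (hh : h ∈ K ⊔ T) :
    h * y = y * h := by
  have hle : K ⊔ T ≤ Subgroup.centralizer ({y} : Set G) := by
    refine sup_le (fun k hk => Subgroup.mem_centralizer_singleton_iff.2 (Subgroup.mem_centralizer_iff.1 hy.2 k hk))
      fun t ht => Subgroup.mem_centralizer_singleton_iff.2 (omegaCenterOf_comm ?_ ht)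
    rw [Q.fst.omega_eq]; exact hy.1
  exact Subgroup.mem_centralizer_singleton_iff.1 (hle hh)

theorem Pair.core_split (Q : Pair M T K M' K') {r : G} (hr : r ∈ Cfsg.pCoreOf 2 (K ⊔ T)) :
    ∃ w ∈ Cfsg.wOf K, ∃ v ∈ centPart T K, r = w * v := by
  have hr' : r ∈ ((Cfsg.wOf K ⊔ centPart T K : Subgroup G) : Set G) := Q.core_shape.1.le hr
  have hYn : centPart T K ≤ Subgroup.normalizer (Cfsg.wOf K : Set G) := fun v hv =>
    mem_normalizer_of_le fun w hw => by
      rw [← Q.centPart_comm hv (Subgroup.mem_sup_left (W_le_K hw)), mul_inv_cancel_right]; exact hw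
  rw [Subgroup.coe_mul_of_right_le_normalizer_left _ _ hYn] at hr'
  obtain ⟨w, hw, v, hv, e⟩ := hr'
  exact ⟨w, hw, v, hv, (show w * v = r from e).symm⟩

theorem Pair.omega_le_core (Q : Pair M T K M' K') :
    Cfsg.omegaCenterOf (CfsgLib.Transfer.thompsonJ 2 T) ≤ Cfsg.pCoreOf 2 (K ⊔ T) := by
  intro v hv
  rw [← Q.fst.omega_eq] at hv
  exact Q.fst.facts.cent (Subgroup.mem_centralizer_iff.2 fun r hr => omegaCenterOf_comm hv (Q.core_le hr))

theorem Pair.core_not_le (Q : Pair M T K M' K') : ¬ Cfsg.pCoreOf 2 (K' ⊔ T) ≤ Cfsg.pCoreOf 2 (K ⊔ T) := by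
  intro hle
  have e := Subgroup.eq_of_le_of_card_ge hle (by have := Q.card_core; have := Q.symm.card_core; omega)
  have hn : ∀ P : Subgroup G, P ≤ Subgroup.normalizer (Cfsg.pCoreOf 2 P : Set G) := fun P =>
    CfsgLib.Signalizer.normalizer_le_normalizer_pCoreOf 2 Subgroup.le_normalizer
  have hbot := Q.no_common (CfsgLib.PReduced.isPGroup_pCoreOf 2 _) (hn (K ⊔ T)) (e ▸ hn (K' ⊔ T))
  have := Subgroup.card_le_of_le Q.fst.facts.wle
  rw [(Q.fst.P.setting Q.fst.O.comp).card_W, hbot, Subgroup.card_bot] at this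
  omega

/-- The two cores meet in `Ω₁(Z(T))`. -/
theorem Pair.core_inf (Q : Pair M T K M' K') {r : G} (hr : r ∈ Cfsg.pCoreOf 2 (K ⊔ T))
    (hr' : r ∈ Cfsg.pCoreOf 2 (K' ⊔ T)) : r ∈ Cfsg.omegaCenterOf (CfsgLib.Transfer.thompsonJ 2 T) := by
  obtain ⟨p, hp', hp⟩ := SetLike.not_le_iff_exists.1 Q.core_not_le
  have hpT := Q.symm.core_le hp'
  rw [← Q.fst.omega_eq]
  refine mem_omegaCenterOf (Q.core_le hr) (fun t ht => ?_) (Q.core_sq hr)
  by_cases htR : t ∈ Cfsg.pCoreOf 2 (K ⊔ T)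
  · exact Q.core_comm htR hr
  · have htp := Q.mul_mem_core ht hpT htR hp
    have hp2 := Q.symm.core_sq hp'
    rw [show t = t * p * p by rw [mul_assoc, hp2, mul_one], mul_assoc, ← Q.symm.core_comm hr' hp', ← mul_assoc,
      Q.core_comm htp hr, mul_assoc]

/-- Every involution of `T` is in one of the two cores. -/
theorem Pair.sq_one_mem (Q : Pair M T K M' K') {e : G} (he : e ∈ T) (he2 : e * e = 1) :
    e ∈ Cfsg.pCoreOf 2 (K ⊔ T) ∨ e ∈ Cfsg.pCoreOf 2 (K' ⊔ T) := by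
  by_contra h
  push Not at h
  obtain ⟨p, hp', hp⟩ := SetLike.not_le_iff_exists.1 Q.core_not_le
  have hpT := Q.symm.core_le hp'
  have hr := Q.mul_mem_core he hpT h.1 hp
  have hp2 := Q.symm.core_sq hp'
  refine h.2 ?_
  have hep : e * p ∈ Cfsg.pCoreOf 2 (K' ⊔ T) := by
    refine Q.symm.omega_le_core ?_
    rw [← Q.fst.omega_eq]
    refine mem_omegaCenterOf (Q.core_le hr) (fun t ht => ?_) (Q.core_sq hr)
    have h2 : e * p = p * e := by
      have h1 := mul_eq_one_iff_eq_inv.1 (Q.core_sq hr)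
      rw [h1, mul_inv_rev, ← mul_eq_one_iff_eq_inv.1 he2, ← mul_eq_one_iff_eq_inv.1 hp2]
    have hpc : e * p * p = p * (e * p) := by rw [← mul_assoc p, ← h2]
    by_cases htR : t ∈ Cfsg.pCoreOf 2 (K ⊔ T)
    · exact Q.core_comm htR hr
    · have htp := Q.mul_mem_core ht hpT htR hp
      rw [show t = t * p * p by rw [mul_assoc, hp2, mul_one], mul_assoc, ← hpc, ← mul_assoc,
        Q.core_comm htp hr, mul_assoc]
  rw [show e = e * p * p by rw [mul_assoc, hp2, mul_one]]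
  exact mul_mem hep hp'

theorem Pair.card_T_le (Q : Pair M T K M' K') : Nat.card T ≤ 4 * Nat.card (Cfsg.wOf K) := by
  rw [(Q.fst.P.setting Q.fst.O.comp).card_W]
  rcases Q.core_shape.2.2.2 with ⟨h, -⟩ | ⟨h, -⟩ <;> omega

theorem Pair.commutator_mem (Q : Pair M T K M' K') {a b : G} (ha : a ∈ T) (hb : b ∈ T) :
    a * b * a⁻¹ * b⁻¹ ∈ Cfsg.wOf K :=
  commutator_mem_of_small Q.fst.P.isPGroup (Q.fst.facts.wle.trans Q.core_le)
    (le_sup_right.trans Q.fst.sup_le_normalizer) Q.card_T_le ha hb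

/-- The common point of the two four-groups. -/
structure Point (T K K' : Subgroup G) (z : G) : Prop where
  mem : z ∈ Cfsg.wOf K
  mem' : z ∈ Cfsg.wOf K'
  omega : z ∈ Cfsg.omegaCenterOf (CfsgLib.Transfer.thompsonJ 2 T)
  ne_one : z ≠ 1
  not_mem : z ∉ centPart T K
  not_mem' : z ∉ centPart T K'
  unique : ∀ v ∈ Cfsg.wOf K, v ∈ Cfsg.omegaCenterOf (CfsgLib.Transfer.thompsonJ 2 T) → v = 1 ∨ v = z
  unique' : ∀ v ∈ Cfsg.wOf K', v ∈ Cfsg.omegaCenterOf (CfsgLib.Transfer.thompsonJ 2 T) → v = 1 ∨ v = z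
  split : ∀ v ∈ Cfsg.omegaCenterOf (CfsgLib.Transfer.thompsonJ 2 T), v ∈ centPart T K ∨ v * z ∈ centPart T K
  split' : ∀ v ∈ Cfsg.omegaCenterOf (CfsgLib.Transfer.thompsonJ 2 T), v ∈ centPart T K' ∨ v * z ∈ centPart T K'
  fixed : ∀ n ∈ Subgroup.normalizer (T : Set G), n * z * n⁻¹ = z

theorem Point.symm {z : G} (p : Point T K K' z) : Point T K' K z :=
  ⟨p.mem', p.mem, p.omega, p.ne_one, p.not_mem', p.not_mem, p.unique', p.unique, p.split', p.split, p.fixed⟩

theorem Pair.exists_point (Q : Pair M T K M' K') : ∃ z, Point T K K' z := by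
  have S := Q.fst.P.setting Q.fst.O.comp
  obtain ⟨z₁, hW₁, hZ₁, h1₁, hn₁, hu₁, hs₁⟩ := S.exists_point
  obtain ⟨z₂, hW₂, hZ₂, h1₂, hn₂, hu₂, hs₂⟩ := (Q.snd.P.setting Q.snd.O.comp).exists_point
  have hW : Cfsg.wOf K ⊓ Cfsg.wOf K' ≤ Cfsg.omegaCenterOf (CfsgLib.Transfer.thompsonJ 2 T) := fun v hv =>
    Q.core_inf (Q.fst.facts.wle hv.1) (Q.snd.facts.wle hv.2)
  obtain ⟨a, b, ha, hb, hab⟩ : ∃ a b, a ∈ T ∧ b ∈ T ∧ a * b * a⁻¹ * b⁻¹ ≠ 1 := by
    by_contra h
    push Not at h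
    obtain ⟨p, hp', hp⟩ := SetLike.not_le_iff_exists.1 Q.core_not_le
    have hpT := Q.symm.core_le hp'
    refine hp (Q.fst.facts.cent (Subgroup.mem_centralizer_iff.2 fun r hr => ?_))
    exact mul_inv_eq_iff_eq_mul.1 (mul_inv_eq_one.1 (h r p (Q.core_le hr) hpT))
  have hz12 : z₁ = z₂ := by
    have hc₁ := Q.commutator_mem ha hb
    have hc₂ := Q.symm.commutator_mem ha hb
    have hcZ := hW (Subgroup.mem_inf.2 ⟨hc₁, hc₂⟩)
    rw [← (hu₁ _ hc₁ hcZ).resolve_left hab, (hu₂ _ hc₂ hcZ).resolve_left hab]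
  subst hz12
  refine ⟨z₁, hW₁, hW₂, hZ₁, h1₁, hn₁, hn₂, hu₁, hu₂, hs₁, hs₂, fun n hn => ?_⟩
  have hc₁ := Q.commutator_mem ha hb
  have hcZ := hW (Subgroup.mem_inf.2 ⟨hc₁, Q.symm.commutator_mem ha hb⟩)
  have hz := (hu₁ _ hc₁ hcZ).resolve_left hab
  refine (hu₁ _ ?_ ((Subgroup.mem_normalizer_iff.1 (normalizer_le_normalizer_omegaCenterOf _
    (CfsgLib.Transfer.normalizer_le_normalizer_thompsonJ 2 T hn)) z₁).1 hZ₁)).resolve_left
      fun e => h1₁ (conj_eq_one_iff.1 e)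
  rw [← hz, show n * (a * b * a⁻¹ * b⁻¹) * n⁻¹ =
    n * a * n⁻¹ * (n * b * n⁻¹) * (n * a * n⁻¹)⁻¹ * (n * b * n⁻¹)⁻¹ by group]
  exact Q.commutator_mem ((Subgroup.mem_normalizer_iff.1 hn a).1 ha) ((Subgroup.mem_normalizer_iff.1 hn b).1 hb)

theorem Pair.centPart_cases (Q : Pair M T K M' K') {y v : G} (hy : y ∈ centPart T K) (hy1 : y ≠ 1)
    (hv : v ∈ centPart T K) : v = 1 ∨ v = y := by
  classical
  by_contra h
  push Not at h
  have hY2 : Nat.card (centPart T K) ≤ 2 := by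
    rcases Q.core_shape.2.2.2 with ⟨-, h⟩ | ⟨-, h⟩
    · rw [h, Subgroup.card_bot]; norm_num
    · omega
  haveI := Fintype.ofFinite (centPart T K)
  have hc : ({1, ⟨y, hy⟩, ⟨v, hv⟩} : Finset (centPart T K)).card ≤ Nat.card (centPart T K) := by
    rw [Nat.card_eq_fintype_card]; exact Finset.card_le_univ _
  rw [Finset.card_insert_of_notMem, Finset.card_pair] at hc
  · omega
  · exact fun e => h.2 (congrArg Subtype.val e).symm
  · simp only [Finset.mem_insert, Finset.mem_singleton, Subtype.ext_iff, OneMemClass.coe_one, not_or]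
    exact ⟨Ne.symm hy1, Ne.symm h.1⟩

theorem Pair.centPart_swap (Q : Pair M T K M' K') {z y : G} (p : Point T K K' z) (hy : y ∈ centPart T K)
    (hy1 : y ≠ 1) : y * z ∈ centPart T K' ∧ y * z ≠ 1 := by
  refine ⟨(p.split' y hy.1).resolve_left fun h => Q.out ?_, fun e => p.not_mem ?_⟩
  · obtain ⟨h1, h2, h3⟩ := Q.fst.P.local_of_centPart Q.fst.O.comp hy hy1
    exact (Q.snd.P.local_of_centPart Q.snd.O.comp h hy1).2.1.trans
      (Q.fst.P.local_le_maxLocal Q.fst.O h1 h2 h3)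
  · rw [show z = y⁻¹ from (inv_eq_of_mul_eq_one_right e).symm]
    exact inv_mem hy

theorem Pair.centralizer_le (Q : Pair M T K M' K') {y : G} (hy : y ∈ centPart T K) (hy1 : y ≠ 1) :
    Subgroup.centralizer ({y} : Set G) ≤ K ⊔ T := by
  obtain ⟨h1, h2, h3⟩ := Q.fst.P.local_of_centPart Q.fst.O.comp hy hy1
  exact (Q.fst.P.local_le_maxLocal Q.fst.O h1 h2 h3).trans Q.maxLocal_eq_sup.le

/-- A 2-subgroup of `⟨K, T⟩` containing `T` is `T`. -/
theorem Pair.eq_of_twoGroup (Q : Pair M T K M' K') {X : Subgroup G} (hX : IsPGroup 2 X) (hTX : T ≤ X)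
    (hXP : X ≤ K ⊔ T) : X = T := by
  haveI : Fact (Nat.Prime 2) := ⟨Nat.prime_two⟩
  have hs := Q.fst.facts.sylow
  obtain ⟨h, -, hle⟩ := CfsgLib.Transfer.exists_conj_le_of_not_dvd_relIndex hs.1 hs.2.1
    (fun h => Nat.not_even_iff_odd.2 hs.2.2 (even_iff_two_dvd.2 h)) hXP hX
  exact (Subgroup.eq_of_le_of_card_ge hTX
    ((Subgroup.card_map_of_injective (MulAut.conj h).injective).ge.trans (Subgroup.card_le_of_le hle))).symm

/-- The fixed point of `K` is not fused to the common point. -/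
theorem Pair.not_fused (Q : Pair M T K M' K') {z y : G} (p : Point T K K' z) (hy : y ∈ centPart T K)
    (hy1 : y ≠ 1) (n : G) : n * z * n⁻¹ ≠ y := by
  intro e
  haveI : Fact (Nat.Prime 2) := ⟨Nat.prime_two⟩
  set X := Subgroup.centralizer ({y} : Set G) with hX
  have hTX : T ≤ X := fun t ht =>
    Subgroup.mem_centralizer_singleton_iff.2 (Q.centPart_comm hy (Subgroup.mem_sup_right ht))
  have hodd : ¬ 2 ∣ T.relIndex X := by
    intro h
    have h1 := Subgroup.relIndex_mul_relIndex T X (K ⊔ T) hTX (Q.centralizer_le hy hy1)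
    exact Nat.not_even_iff_odd.2 Q.fst.facts.sylow.2.2 (even_iff_two_dvd.2 (h1 ▸ h.mul_right _))
  have hzT : ∀ t ∈ T, t * z = z * t := fun t ht => omegaCenterOf_comm (Q.fst.omega_eq.ge p.omega) ht
  have hnT : T.map (MulAut.conj n).toMonoidHom ≤ X := by
    rintro _ ⟨t, ht, rfl⟩
    rw [hX, Subgroup.mem_centralizer_singleton_iff]
    show n * t * n⁻¹ * y = y * (n * t * n⁻¹)
    rw [← e, show n * t * n⁻¹ * (n * z * n⁻¹) = n * (t * z) * n⁻¹ by group, hzT t ht]
    group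
  obtain ⟨m, hm, hle⟩ := CfsgLib.Transfer.exists_conj_le_of_not_dvd_relIndex hTX Q.fst.P.isPGroup hodd hnT
    (Q.fst.P.isPGroup.map _)
  rw [conj_map_map] at hle
  have hN := mem_normalizer_of_map_eq (Subgroup.eq_of_le_of_card_ge hle
    (Subgroup.card_map_of_injective (MulAut.conj (m * n)).injective).ge)
  have h1 := p.fixed _ hN
  rw [show m * n * z * (m * n)⁻¹ = m * (n * z * n⁻¹) * m⁻¹ by group, e,
    Subgroup.mem_centralizer_singleton_iff.1 hm, mul_inv_cancel_right] at h1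
  exact p.not_mem (h1 ▸ hy)

/-- Elements of a core fused to the common point are in the four-group. -/
theorem Pair.mem_W_of_fused (Q : Pair M T K M' K') {z : G} (p : Point T K K' z) {x : G}
    (hx : x ∈ Cfsg.pCoreOf 2 (K ⊔ T)) (hf : ∃ g : G, g * z * g⁻¹ = x) : x ∈ Cfsg.wOf K := by
  obtain ⟨w, hw, v, hv, rfl⟩ := Q.core_split hx
  rcases eq_or_ne v 1 with rfl | hv1
  · rwa [mul_one]
  exfalso
  obtain ⟨g, hg⟩ := hf
  rcases eq_or_ne w 1 with rfl | hw1
  · rw [one_mul] at hg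
    exact Q.not_fused p hv hv1 g hg
  have S := Q.fst.P.setting Q.fst.O.comp
  classical
  obtain ⟨k, hk⟩ := S.phi_surjective (Equiv.swap ⟨w, hw, hw1⟩ ⟨z, p.mem, p.ne_one⟩)
  have hkw : (k : G) * w * (k : G)⁻¹ = z := by
    have := congrArg Subtype.val (Equiv.ext_iff.1 hk ⟨w, hw, hw1⟩)
    rw [Equiv.swap_apply_left] at this
    exact this
  have hkv : (k : G) * v = v * k :=
    Q.centPart_comm hv ((sup_le_sup_left (CfsgLib.Transfer.thompsonJ_le 2 T) K) k.2)
  obtain ⟨hs, hs1⟩ := Q.centPart_swap p hv hv1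
  refine Q.symm.not_fused p.symm hs hs1 (k * g) ?_
  rw [show (k : G) * g * z * ((k : G) * g)⁻¹ = k * (g * z * g⁻¹) * (k : G)⁻¹ by group, hg,
    show (k : G) * (w * v) * (k : G)⁻¹ = k * w * (k : G)⁻¹ * ((k : G) * v * (k : G)⁻¹) by group, hkw, hkv,
    mul_inv_cancel_right]
  exact omegaCenterOf_comm hv.1 (omegaCenterOf_le _ p.omega)

theorem Pair.exists_move (Q : Pair M T K M' K') {z : G} (p : Point T K K' z) :
    ∃ q ∈ Cfsg.wOf K', q ∉ Cfsg.pCoreOf 2 (K ⊔ T) := by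
  classical
  by_contra h
  push Not at h
  have hsub : ∀ w : Cfsg.wOf K', (w : G) = 1 ∨ (w : G) = z := fun w =>
    p.unique' _ w.2 (Q.core_inf (h _ w.2) (Q.snd.facts.wle w.2))
  haveI := Fintype.ofFinite (Cfsg.wOf K')
  have hc : (Finset.univ : Finset (Cfsg.wOf K')).card ≤ ({1, ⟨z, p.mem'⟩} : Finset (Cfsg.wOf K')).card :=
    Finset.card_le_card fun w _ => by
      rw [Finset.mem_insert, Finset.mem_singleton]
      exact (hsub w).imp (fun e => Subtype.ext e) (fun e => Subtype.ext e)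
  rw [Finset.card_univ, ← Nat.card_eq_fintype_card, (Q.snd.P.setting Q.snd.O.comp).card_W] at hc
  have := Finset.card_le_two (a := (1 : Cfsg.wOf K')) (b := ⟨z, p.mem'⟩)
  omega

theorem Pair.W_le_T (Q : Pair M T K M' K') : Cfsg.wOf K ≤ T := Q.fst.facts.wle.trans Q.core_le

/-- `T` is covered by `W₁ W₂` and its translate. -/
theorem Pair.decomp (Q : Pair M T K M' K') {t : G} (ht : t ∈ T) :
    ∃ v ∈ centPart T K, v * t ∈ Cfsg.wOf K ⊔ Cfsg.wOf K' := by
  obtain ⟨z, p⟩ := Q.exists_point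
  have key : ∀ w ∈ Cfsg.wOf K, ∀ v ∈ centPart T K, v * (w * v) = w := by
    intro w hw v hv
    rw [← mul_assoc, ← Q.centPart_comm hv (Subgroup.mem_sup_left (W_le_K hw)), mul_assoc,
      omegaCenterOf_sq hv.1, mul_one]
  by_cases htR : t ∈ Cfsg.pCoreOf 2 (K ⊔ T)
  · obtain ⟨w, hw, v, hv, rfl⟩ := Q.core_split htR
    exact ⟨v, hv, by rw [key w hw v hv]; exact Subgroup.mem_sup_left hw⟩
  · obtain ⟨q, hq, hqR⟩ := Q.exists_move p
    obtain ⟨w, hw, v, hv, e⟩ := Q.core_split (Q.mul_mem_core ht (Q.symm.W_le_T hq) htR hqR)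
    refine ⟨v, hv, ?_⟩
    rw [show t = w * v * q⁻¹ by rw [← e, mul_inv_cancel_right], ← mul_assoc, key w hw v hv]
    exact mul_mem (Subgroup.mem_sup_left hw) (Subgroup.mem_sup_right (inv_mem hq))

theorem Pair.not_mem_sup (Q : Pair M T K M' K') {y : G} (hy : y ∈ centPart T K) (hy1 : y ≠ 1) :
    y ∉ Cfsg.wOf K ⊔ Cfsg.wOf K' := by
  obtain ⟨z, p⟩ := Q.exists_point
  intro h
  have hn : Cfsg.wOf K' ≤ Subgroup.normalizer (Cfsg.wOf K : Set G) :=
    Q.symm.W_le_T.trans (le_sup_right.trans Q.fst.sup_le_normalizer)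
  have h' : y ∈ ((Cfsg.wOf K ⊔ Cfsg.wOf K' : Subgroup G) : Set G) := h
  rw [Subgroup.coe_mul_of_right_le_normalizer_left _ _ hn] at h'
  obtain ⟨a, ha, b, hb, e⟩ := h'
  have e' : a * b = y := e
  have hYR := Q.omega_le_core hy.1
  have hbR : b ∈ Cfsg.pCoreOf 2 (K ⊔ T) := by
    rw [show b = a⁻¹ * y by rw [← e', inv_mul_cancel_left]]
    exact mul_mem (inv_mem (Q.fst.facts.wle ha)) hYR
  have hbW : b ∈ Cfsg.wOf K := by
    rcases p.unique' b hb (Q.core_inf hbR (Q.snd.facts.wle hb)) with rfl | rfl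
    · exact one_mem _
    · exact p.mem
  have hyW : y ∈ Cfsg.wOf K := e' ▸ mul_mem ha hbW
  rcases p.unique y hyW hy.1 with e | e
  · exact hy1 e
  · exact p.not_mem (e ▸ hy)

/-- The fixed point of `K` is not in the subgroup generated by the elements of odd order. -/
theorem Pair.not_mem_closure_odd (Q : Pair M T K M' K') {y : G} (hy : y ∈ centPart T K) (hy1 : y ≠ 1) :
    y ∉ Subgroup.closure {g : G | Odd (orderOf g)} := by
  classical
  haveI : Fact (Nat.Prime 2) := ⟨Nat.prime_two⟩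
  obtain ⟨z, p⟩ := Q.exists_point
  obtain ⟨hyz, hyz1⟩ := Q.centPart_swap p hy hy1
  have hyT : y ∈ T := Q.core_le (Q.omega_le_core hy.1)
  have hy2 : y * y = 1 := omegaCenterOf_sq hy.1
  have hcardT : Nat.card T = 16 := by
    rcases Q.core_shape.2.2.2 with ⟨-, h⟩ | ⟨h, -⟩
    · exact absurd (Subgroup.mem_bot.1 (h ▸ hy)) hy1
    · exact h
  obtain ⟨S, hTS⟩ := Q.fst.P.isPGroup.exists_le_sylow
  set N := (S : Subgroup G) ⊓ Subgroup.normalizer (T : Set G) with hN
  have hTN : T ≤ N := le_inf hTS Subgroup.le_normalizer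
  have hstay : ∀ h ∈ (S : Subgroup G), h * y = y * h → h ∈ T := by
    intro h hh hc
    have e := Q.eq_of_twoGroup (X := T ⊔ Subgroup.zpowers h)
      (S.2.to_le (sup_le hTS (Subgroup.zpowers_le.2 hh))) le_sup_left
      (sup_le le_sup_right (Subgroup.zpowers_le.2
        (Q.centralizer_le hy hy1 (Subgroup.mem_centralizer_singleton_iff.2 hc))))
    exact e.le (Subgroup.mem_sup_right (Subgroup.mem_zpowers h))
  have hmove : ∀ h ∈ N, h ∉ T → h * y * h⁻¹ = y * z := by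
    intro h hh hhT
    have hZ := (Subgroup.mem_normalizer_iff.1 (normalizer_le_normalizer_omegaCenterOf _
      (CfsgLib.Transfer.normalizer_le_normalizer_thompsonJ 2 T hh.2)) y).1 hy.1
    rcases p.split _ hZ with h' | h'
    · rcases Q.centPart_cases hy hy1 h' with e | e
      · exact absurd (conj_eq_one_iff.1 e) hy1
      · exact absurd (hstay h hh.1 (mul_inv_eq_iff_eq_mul.1 e)) hhT
    · have hzz : z * z = 1 := omegaCenterOf_sq p.omega
      rcases Q.centPart_cases hy hy1 h' with e | e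
      · have e' : h * y * h⁻¹ = z := by
          rw [← mul_one (h * y * h⁻¹), ← hzz, ← mul_assoc, e, one_mul]
        exact absurd (show h⁻¹ * z * h⁻¹⁻¹ = y by rw [← e']; group) (Q.not_fused p hy hy1 h⁻¹)
      · rw [show y * z = h * y * h⁻¹ * z * z by rw [e], mul_assoc (h * y * h⁻¹), hzz, mul_one]
  have htwo : ∀ a ∈ N, ∀ b ∈ N, a ∉ T → b ∉ T → a * b ∈ T := by
    intro a ha b hb ha' hb'
    refine hstay _ (mul_mem ha.1 hb.1) (mul_inv_eq_iff_eq_mul.1 ?_)
    have hza : a * z * a⁻¹ = z := p.fixed a ha.2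
    rw [show a * b * y * (a * b)⁻¹ = a * (b * y * b⁻¹) * a⁻¹ by group, hmove b hb hb',
      show a * (y * z) * a⁻¹ = a * y * a⁻¹ * (a * z * a⁻¹) by group, hmove a ha ha', hza, mul_assoc,
      omegaCenterOf_sq p.omega, mul_one]
  -- an element outside `T` exchanges the cores
  have hswap : ∀ h ∈ N, h ∉ T →
      (∀ r ∈ Cfsg.pCoreOf 2 (K ⊔ T), h * r * h⁻¹ ∈ Cfsg.pCoreOf 2 (K' ⊔ T)) ∧
        ∀ r ∈ Cfsg.pCoreOf 2 (K' ⊔ T), h * r * h⁻¹ ∈ Cfsg.pCoreOf 2 (K ⊔ T) := by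
    intro h hh hhT
    have aux : ∀ {M₁ K₁ M₂ K₂ : Subgroup G}, Pair M₁ T K₁ M₂ K₂ →
        ∀ r ∈ Cfsg.pCoreOf 2 (K₁ ⊔ T), h * r * h⁻¹ ∈ Cfsg.pCoreOf 2 (K₂ ⊔ T) := by
      intro M₁ K₁ M₂ K₂ R r hr
      set A := (Cfsg.pCoreOf 2 (K₁ ⊔ T)).map (MulAut.conj h).toMonoidHom with hA
      have hAmem : ∀ x ∈ A, x ∈ Cfsg.pCoreOf 2 (K₁ ⊔ T) ∨ x ∈ Cfsg.pCoreOf 2 (K₂ ⊔ T) := by
        rintro _ ⟨r, hr, rfl⟩
        exact R.sq_one_mem ((Subgroup.mem_normalizer_iff.1 hh.2 r).1 (R.core_le hr))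
          (by rw [← map_mul, R.core_sq hr, map_one])
      obtain ⟨a, haA, ha⟩ : ∃ a ∈ A, a ∉ Cfsg.pCoreOf 2 (K₁ ⊔ T) := by
        by_contra hle
        push Not at hle
        have hn : h ∈ Subgroup.normalizer (Cfsg.pCoreOf 2 (K₁ ⊔ T) : Set G) :=
          mem_normalizer_of_le fun r hr => hle _ ⟨r, hr, rfl⟩
        have hloc : Cfsg.IsTwoLocal (Subgroup.normalizer (Cfsg.pCoreOf 2 (K₁ ⊔ T) : Set G)) := by
          refine ⟨_, CfsgLib.PReduced.isPGroup_pCoreOf 2 _, fun e => ?_, rfl⟩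
          have := Subgroup.card_le_of_le R.fst.facts.wle
          rw [(R.fst.P.setting R.fst.O.comp).card_W, e, Subgroup.card_bot] at this
          omega
        have hle' : K₁ ⊔ T ≤ Subgroup.normalizer (Cfsg.pCoreOf 2 (K₁ ⊔ T) : Set G) :=
          CfsgLib.Signalizer.normalizer_le_normalizer_pCoreOf 2 Subgroup.le_normalizer
        have h2 := (R.fst.P.local_le_maxLocal R.fst.O hloc (le_sup_left.trans hle')
          ((CfsgLib.Transfer.thompsonJ_le 2 T).trans (le_sup_right.trans hle'))).trans R.maxLocal_eq_sup.le hn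
        have e := R.eq_of_twoGroup (X := T ⊔ Subgroup.zpowers h)
          (S.2.to_le (sup_le hTS (Subgroup.zpowers_le.2 hh.1))) le_sup_left
          (sup_le le_sup_right (Subgroup.zpowers_le.2 h2))
        exact hhT (e.le (Subgroup.mem_sup_right (Subgroup.mem_zpowers h)))
      have hx : h * r * h⁻¹ ∈ A := ⟨r, hr, rfl⟩
      rcases hAmem _ hx with h1 | h1
      · rcases hAmem _ (mul_mem haA hx) with h2 | h2
        · exact absurd (by have := mul_mem h2 (inv_mem h1); rwa [mul_inv_cancel_right] at this) ha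
        · have := mul_mem (inv_mem ((hAmem a haA).resolve_left ha)) h2
          rwa [inv_mul_cancel_left] at this
      · exact h1
    exact ⟨aux Q, aux Q.symm⟩
  have hfix : ∀ h ∈ N, h ∉ T → ∀ r ∈ T, r * r = 1 → h * r = r * h → r = 1 ∨ r = z := by
    intro h hh hhT r hr hr2 hc
    have hcr : h * r * h⁻¹ = r := mul_inv_eq_iff_eq_mul.2 hc
    have hrZ : r ∈ Cfsg.omegaCenterOf (CfsgLib.Transfer.thompsonJ 2 T) := by
      rcases Q.sq_one_mem hr hr2 with h1 | h1
      · exact Q.core_inf h1 (hcr ▸ (hswap h hh hhT).1 r h1)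
      · exact Q.core_inf (hcr ▸ (hswap h hh hhT).2 r h1) h1
    have hz' : h * z * h⁻¹ = z := p.fixed h hh.2
    rcases p.split r hrZ with h1 | h1
    · rcases Q.centPart_cases hy hy1 h1 with e | e
      · exact Or.inl e
      · subst e
        exact absurd (hstay h hh.1 hc) hhT
    · rcases Q.centPart_cases hy hy1 h1 with e | e
      · exact Or.inr ((mul_eq_one_iff_eq_inv.1 e).trans (mul_eq_one_iff_eq_inv.1 (omegaCenterOf_sq p.omega)).symm)
      · refine absurd (hstay h hh.1 (mul_inv_eq_iff_eq_mul.1 ?_)) hhT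
        rw [← e, show h * (r * z) * h⁻¹ = h * r * h⁻¹ * (h * z * h⁻¹) by group, hcr, hz']
  -- extremal elements
  have hext : ∀ x ∈ N, x * x = 1 → x ≠ 1 → x ≠ z → ∀ X : Subgroup G, X ≤ N → Nat.card X = Nat.card T →
      (∀ a ∈ X, a * x = x * a) → x ∈ T ∧ X ≤ T := by
    intro x hx hx2 hx1 hxz X hXN hXcard hXx
    by_cases hxT : x ∈ T
    · refine ⟨hxT, fun a ha => ?_⟩
      by_contra haT
      exact (hfix a (hXN ha) haT x hxT hx2 (hXx a ha)).elim hx1 hxz
    exfalso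
    have h1 : Nat.card X ≤ 2 * Nat.card (X ⊓ T : Subgroup G) := by
      refine (card_le_two_mul (H := X) (H' := X ⊓ T) fun a ha b hb ha' hb' => ?_).trans le_rfl
      exact Subgroup.mem_inf.2 ⟨mul_mem ha hb,
        htwo a (hXN ha) b (hXN hb) (fun h => ha' ⟨ha, h⟩) (fun h => hb' ⟨hb, h⟩)⟩
    have h2 : Nat.card (X ⊓ T : Subgroup G) ≤ 2 * Nat.card (X ⊓ T ⊓ Cfsg.pCoreOf 2 (K ⊔ T) : Subgroup G) := by
      refine (card_le_two_mul (H := X ⊓ T) (H' := X ⊓ T ⊓ Cfsg.pCoreOf 2 (K ⊔ T)) fun a ha b hb ha' hb' => ?_).trans le_rfl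
      exact Subgroup.mem_inf.2 ⟨mul_mem ha hb,
        Q.mul_mem_core ha.2 hb.2 (fun h => ha' ⟨ha, h⟩) (fun h => hb' ⟨hb, h⟩)⟩
    have h3 : (X ⊓ T ⊓ Cfsg.pCoreOf 2 (K ⊔ T) : Subgroup G) ≤ Subgroup.zpowers z := by
      intro r hr
      rcases hfix x hx hxT r hr.1.2 (Q.core_sq hr.2) (hXx r hr.1.1).symm with e | e
      · rw [e]; exact one_mem _
      · rw [e]; exact Subgroup.mem_zpowers z
    have h4 := Subgroup.card_le_of_le h3
    rw [Nat.card_zpowers] at h4
    have h5 : orderOf z ≤ 2 := orderOf_le_of_pow_eq_one (by norm_num) (by rw [pow_two]; exact omegaCenterOf_sq p.omega)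
    omega
  have hNS : N = (S : Subgroup G) := by
    by_contra hne
    haveI : Group.IsNilpotent ↥(S : Subgroup G) := S.2.isNilpotent
    have h1 : N.subgroupOf (S : Subgroup G) < Subgroup.normalizer (N.subgroupOf (S : Subgroup G) : Set ↥(S : Subgroup G)) :=
      normalizerCondition_of_isNilpotent (N.subgroupOf (S : Subgroup G)) (lt_top_iff_ne_top.2 fun h' =>
        hne (le_antisymm inf_le_left (Subgroup.subgroupOf_eq_top.1 h')))
    obtain ⟨s, hs, hsN⟩ := SetLike.exists_of_lt h1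
    have hsn : ∀ a ∈ N, (s : G) * a * (s : G)⁻¹ ∈ N := fun a ha =>
      (Subgroup.mem_normalizer_iff.1 hs ⟨a, ha.1⟩).1 ha
    have h := hext _ (hsn y (hTN hyT)) (by
        rw [show (s : G) * y * (s : G)⁻¹ * ((s : G) * y * (s : G)⁻¹) = s * (y * y) * (s : G)⁻¹ by group, hy2]
        group)
      (fun e => hy1 (conj_eq_one_iff.1 e))
      (fun e => Q.not_fused p hy hy1 (s : G)⁻¹ (by rw [← e]; group))
      (T.map (MulAut.conj (s : G)).toMonoidHom) (by rintro _ ⟨t, ht, rfl⟩; exact hsn t (hTN ht))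
      (Subgroup.card_map_of_injective (MulAut.conj (s : G)).injective) (by
        rintro _ ⟨t, ht, rfl⟩
        show (s : G) * t * (s : G)⁻¹ * ((s : G) * y * (s : G)⁻¹) = (s : G) * y * (s : G)⁻¹ * ((s : G) * t * (s : G)⁻¹)
        rw [show (s : G) * t * (s : G)⁻¹ * ((s : G) * y * (s : G)⁻¹) = s * (t * y) * (s : G)⁻¹ by group,
          Q.centPart_comm hy (Subgroup.mem_sup_right ht)]
        group)
    exact hsN (Subgroup.mem_inf.2 ⟨s.2, mem_normalizer_of_le fun t ht => h.2 ⟨t, ht, rfl⟩⟩)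
  -- the normal subgroup `W₁ W₂` of the Sylow subgroup
  set D := Cfsg.wOf K ⊔ Cfsg.wOf K' with hD
  have hDT : D ≤ T := sup_le Q.W_le_T Q.symm.W_le_T
  have hDn : (S : Subgroup G) ≤ Subgroup.normalizer (D : Set G) := by
    intro s hs
    have hsT : s ∈ Subgroup.normalizer (T : Set G) := (hNS.ge hs).2
    have aux : ∀ {M₁ K₁ M₂ K₂ : Subgroup G}, Pair M₁ T K₁ M₂ K₂ → Point T K₁ K₂ z →
        ∀ w ∈ Cfsg.wOf K₁, s * w * s⁻¹ ∈ Cfsg.wOf K₁ ⊔ Cfsg.wOf K₂ := by
      intro M₁ K₁ M₂ K₂ R r w hw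
      rcases eq_or_ne w 1 with rfl | hw1
      · simp
      obtain ⟨k, hk⟩ := (R.fst.P.setting R.fst.O.comp).phi_surjective (Equiv.swap ⟨z, r.mem, r.ne_one⟩ ⟨w, hw, hw1⟩)
      have hkz : (k : G) * z * (k : G)⁻¹ = w := by
        have := congrArg Subtype.val (Equiv.ext_iff.1 hk ⟨z, r.mem, r.ne_one⟩)
        rw [Equiv.swap_apply_left] at this
        exact this
      have hf : ∃ g : G, g * z * g⁻¹ = s * w * s⁻¹ := ⟨s * k, by rw [← hkz]; group⟩
      have hsw : s * w * s⁻¹ ∈ T := (Subgroup.mem_normalizer_iff.1 hsT w).1 (R.W_le_T hw)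
      have hw2 : s * w * s⁻¹ * (s * w * s⁻¹) = 1 := by
        rw [show s * w * s⁻¹ * (s * w * s⁻¹) = s * (w * w) * s⁻¹ by group, R.core_sq (R.fst.facts.wle hw)]
        group
      rcases R.sq_one_mem hsw hw2 with h1 | h1
      · exact Subgroup.mem_sup_left (R.mem_W_of_fused r h1 hf)
      · exact Subgroup.mem_sup_right (R.symm.mem_W_of_fused r.symm h1 hf)
    refine mem_normalizer_of_le ?_
    suffices D ≤ D.comap (MulAut.conj s).toMonoidHom from fun x hx => this hx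
    refine sup_le (fun w hw => aux Q p w hw) fun w hw => ?_
    show s * w * s⁻¹ ∈ D
    rw [hD, sup_comm]
    exact aux Q.symm p.symm w hw
  have hSD : Nat.card (S : Subgroup G) ≤ 4 * Nat.card D := by
    have h1 : Nat.card (S : Subgroup G) ≤ 2 * Nat.card T := card_le_two_mul fun a ha b hb ha' hb' =>
      htwo a (hNS.ge ha) b (hNS.ge hb) ha' hb'
    have h2 : Nat.card T ≤ 2 * Nat.card D := by
      refine card_le_two_mul fun a ha b hb ha' hb' => ?_
      obtain ⟨v, hv, hva⟩ := Q.decomp ha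
      obtain ⟨v', hv', hvb⟩ := Q.decomp hb
      have e1 : v = y := (Q.centPart_cases hy hy1 hv).resolve_left fun e => ha' (by simpa [e] using hva)
      have e2 : v' = y := (Q.centPart_cases hy hy1 hv').resolve_left fun e => hb' (by simpa [e] using hvb)
      rw [e1] at hva
      rw [e2] at hvb
      have := mul_mem hva hvb
      rwa [show y * a * (y * b) = a * b by
        rw [← Q.centPart_comm hy (Subgroup.mem_sup_right ha), mul_assoc, ← mul_assoc y, hy2, one_mul]] at this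
    omega
  -- a homomorphism of the Sylow subgroup not killing `y`
  haveI : (D.subgroupOf (S : Subgroup G)).Normal :=
    (Subgroup.normal_subgroupOf_iff_le_normalizer (hDT.trans hTS)).2 hDn
  letI : CommGroup (↥(S : Subgroup G) ⧸ D.subgroupOf (S : Subgroup G)) :=
    { (inferInstance : Group (↥(S : Subgroup G) ⧸ D.subgroupOf (S : Subgroup G))) with
      mul_comm := fun a b => by
        obtain ⟨a, rfl⟩ := QuotientGroup.mk'_surjective _ a
        obtain ⟨b, rfl⟩ := QuotientGroup.mk'_surjective _ b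
        rw [← map_mul, ← map_mul]
        refine (QuotientGroup.eq).2 ?_
        have := commutator_mem_of_small S.2 (hDT.trans hTS) hDn hSD (inv_mem b.2) (inv_mem a.2)
        rw [Subgroup.mem_subgroupOf]
        simpa [mul_assoc] using this }
  have hyne : QuotientGroup.mk' (D.subgroupOf (S : Subgroup G)) ⟨y, hTS hyT⟩ ≠ 1 := fun e =>
    Q.not_mem_sup hy hy1 (Subgroup.mem_subgroupOf.1 ((QuotientGroup.eq_one_iff (N := D.subgroupOf (S : Subgroup G)) _).1 e))
  haveI : NeZero (Monoid.exponent (↥(S : Subgroup G) ⧸ D.subgroupOf (S : Subgroup G))) :=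
    ⟨Monoid.exponent_ne_zero_of_finite⟩
  obtain ⟨φ₀, hφ₀⟩ := CommGroup.exists_apply_ne_one_of_hasEnoughRootsOfUnity
    (↥(S : Subgroup G) ⧸ D.subgroupOf (S : Subgroup G)) ℂ hyne
  set ψ := φ₀.comp (QuotientGroup.mk' (D.subgroupOf (S : Subgroup G))) with hψ
  set φ := ψ.rangeRestrict with hφ
  have hne : φ ⟨y, hTS hyT⟩ ≠ 1 := fun e => hφ₀ (congrArg Subtype.val e)
  have hA : ∀ a b : ψ.range, a * a = 1 → b * b = 1 → a ≠ 1 → b ≠ 1 → a = b := by
    intro a b ha hb ha1 hb1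
    have key : ∀ c : ψ.range, c * c = 1 → c ≠ 1 → ((c : ℂˣ) : ℂ) = -1 := by
      intro c hc hc1
      refine (mul_self_eq_one_iff.1 ?_).resolve_left fun e => hc1 (Subtype.ext (Units.ext e))
      exact congrArg (fun d : ψ.range => ((d : ℂˣ) : ℂ)) hc
    exact Subtype.ext (Units.ext ((key a ha ha1).trans (key b hb hb1).symm))
  intro hyH
  have htr : MonoidHom.transfer φ y = 1 := by
    refine MonoidHom.mem_ker.1 ((Subgroup.closure_le _).2 ?_ hyH)
    intro g hg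
    have hp : IsPGroup 2 ψ.range := S.2.of_surjective φ ψ.rangeRestrict_surjective
    obtain ⟨k, hk⟩ := hp (MonoidHom.transfer φ g)
    refine MonoidHom.mem_ker.2 (orderOf_eq_one_iff.1 ?_)
    exact Nat.eq_one_of_dvd_coprimes ((Odd.coprime_two_right hg).pow_right k) (orderOf_map_dvd _ g)
      (orderOf_dvd_of_pow_eq_one hk)
  obtain ⟨a, haT, hx, hφx⟩ := CfsgLib.Transfer.exists_conj_ker_of_transfer_eq_one φ hA hy2 (hTS hyT) hne
    (Nat.not_even_iff_odd.mp fun e => S.not_dvd_index (even_iff_two_dvd.mp e)) htr T Q.fst.P.isPGroup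
    (fun t ht => Subgroup.mem_centralizer_singleton_iff.2 (Q.centPart_comm hy (Subgroup.mem_sup_right ht)))
  have hxz : a⁻¹ * y * a ≠ z := fun e => Q.not_fused p hy hy1 a (by rw [← e]; group)
  have hx1 : a⁻¹ * y * a ≠ 1 := fun e => hy1 (by
    rw [show y = a * (a⁻¹ * y * a) * a⁻¹ by group, e]; group)
  obtain ⟨-, hXT⟩ := hext _ (hNS.ge hx) (by
      rw [show a⁻¹ * y * a * (a⁻¹ * y * a) = a⁻¹ * (y * y) * a by group, hy2]; group) hx1 hxz
    (T.map (MulAut.conj a⁻¹).toMonoidHom)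
    (by rintro _ ⟨t, ht, rfl⟩; exact hNS.ge (by simpa using haT t ht))
    (Subgroup.card_map_of_injective (MulAut.conj a⁻¹).injective) (by
      rintro _ ⟨t, ht, rfl⟩
      show a⁻¹ * t * a⁻¹⁻¹ * (a⁻¹ * y * a) = a⁻¹ * y * a * (a⁻¹ * t * a⁻¹⁻¹)
      rw [inv_inv, show a⁻¹ * t * a * (a⁻¹ * y * a) = a⁻¹ * (t * y) * a by group,
        Q.centPart_comm hy (Subgroup.mem_sup_right ht)]
      group)
  have haN : a⁻¹ ∈ Subgroup.normalizer (T : Set G) := mem_normalizer_of_le fun t ht => hXT ⟨t, ht, rfl⟩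
  have hxZ : a⁻¹ * y * a ∈ Cfsg.omegaCenterOf (CfsgLib.Transfer.thompsonJ 2 T) := by
    have := (Subgroup.mem_normalizer_iff.1 (normalizer_le_normalizer_omegaCenterOf _
      (CfsgLib.Transfer.normalizer_le_normalizer_thompsonJ 2 T haN)) y).1 hy.1
    rwa [inv_inv] at this
  have hval : φ ⟨_, hx⟩ = φ ⟨y, hTS hyT⟩ := by
    have hdiff : y⁻¹ * (a⁻¹ * y * a) ∈ D := by
      rcases p.split _ hxZ with h1 | h1
      · rcases Q.centPart_cases hy hy1 h1 with e | e
        · exact absurd e hx1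
        · rw [e, inv_mul_cancel]; exact one_mem _
      · rcases Q.centPart_cases hy hy1 h1 with e | e
        · exact absurd ((mul_eq_one_iff_eq_inv.1 e).trans
            (mul_eq_one_iff_eq_inv.1 (omegaCenterOf_sq p.omega)).symm) hxz
        · rw [show a⁻¹ * y * a = y * z by
              rw [show y * z = a⁻¹ * y * a * z * z by rw [e], mul_assoc (a⁻¹ * y * a), omegaCenterOf_sq p.omega, mul_one],
            inv_mul_cancel_left]
          exact Subgroup.mem_sup_left p.mem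
    refine Subtype.ext ?_
    show φ₀ (QuotientGroup.mk' _ ⟨_, hx⟩) = φ₀ (QuotientGroup.mk' _ ⟨y, hTS hyT⟩)
    refine congrArg φ₀ (QuotientGroup.eq.2 ?_)
    rw [Subgroup.mem_subgroupOf]
    have := inv_mem hdiff
    rwa [mul_inv_rev, inv_inv] at this
  exact hne (hval ▸ hφx)


theorem Pair.W_le_closure_odd (Q : Pair M T K M' K') :
    Cfsg.wOf K ≤ Subgroup.closure {g : G | Odd (orderOf g)} := by
  refine le_trans ?_ (Subgroup.closure_mono (show {g : G | g ∈ K ∧ Odd (orderOf g)} ⊆ {g : G | Odd (orderOf g)} from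
    fun g hg => hg.2))
  rw [Q.fst.O.comp.1]
  exact fun w hw => W_le_K hw

theorem Pair.K_le_closure_odd (Q : Pair M T K M' K') : K ≤ Subgroup.closure {g : G | Odd (orderOf g)} := by
  conv_lhs => rw [← Q.fst.O.comp.1]
  exact Subgroup.closure_mono fun g hg => hg.2

theorem Pair.inside_split (Q : Pair M T K M' K') {x : G} (hx : x ∈ K ⊔ T) :
    ∃ v ∈ centPart T K, v * x ∈ Subgroup.closure {g : G | Odd (orderOf g)} := by
  have hn : T ≤ Subgroup.normalizer (K : Set G) := Q.fst.norm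
  have hx' : x ∈ ((K ⊔ T : Subgroup G) : Set G) := hx
  rw [Subgroup.coe_mul_of_right_le_normalizer_left _ _ hn] at hx'
  obtain ⟨k, hk, t, ht, e⟩ := hx'
  obtain ⟨v, hv, hvt⟩ := Q.decomp ht
  refine ⟨v, hv, ?_⟩
  rw [show x = k * t from e.symm, ← mul_assoc, ← Q.centPart_comm hv (Subgroup.mem_sup_left hk), mul_assoc]
  exact mul_mem (Q.K_le_closure_odd hk) ((sup_le Q.W_le_closure_odd Q.symm.W_le_closure_odd) hvt)

/-- The part of `⟨K, T⟩` generated by the elements of odd order is a symmetric group of degree four. -/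
theorem Pair.inside_iso (Q : Pair M T K M' K') {H : Subgroup G} (hH : H = Subgroup.closure {g : G | Odd (orderOf g)}) :
    Nonempty (↥((K ⊔ T).subgroupOf H) ≃* Equiv.Perm (Fin 4)) := by
  classical
  let e : ↥((K ⊔ T).subgroupOf H) ≃* ↥((K ⊔ T) ⊓ H : Subgroup G) :=
    (MulEquiv.subgroupCongr (by
      ext x
      simp [Subgroup.mem_subgroupOf, Subgroup.mem_inf])).trans
      (Subgroup.subgroupOfEquivOfLe (inf_le_right : (K ⊔ T) ⊓ H ≤ H))
  rcases Q.core_shape.2.2.2 with ⟨-, hY⟩ | ⟨h16, hY⟩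
  · have hle : K ⊔ T ≤ H := fun x hx => by
      obtain ⟨v, hv, hvx⟩ := Q.inside_split hx
      rw [Subgroup.mem_bot.1 (show v ∈ (⊥ : Subgroup G) from hY ▸ hv), one_mul] at hvx
      exact hH ▸ hvx
    have hiso : Nonempty (↥(K ⊔ T) ≃* Equiv.Perm (Fin 4)) := by
      rcases Q.structure with ⟨h, -⟩ | ⟨⟨a⟩, -⟩
      · exact h
      · exfalso
        have h := Nat.card_congr a.toEquiv
        rw [Q.fst.facts.card, Nat.card_prod, Nat.card_perm, Nat.card_fin,
          Nat.card_congr (Multiplicative.toAdd (α := ZMod 2)), Nat.card_zmod] at h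
        rcases Q.core_shape.2.2.2 with ⟨h8, -⟩ | ⟨-, h2⟩
        · rw [h8] at h
          norm_num [Nat.factorial] at h
        · rw [hY, Subgroup.card_bot] at h2
          omega
    exact hiso.map fun a => (e.trans (MulEquiv.subgroupCongr (inf_eq_left.2 hle))).trans a
  haveI : Nontrivial (centPart T K) := Finite.one_lt_card_iff_nontrivial.1 (by rw [hY]; norm_num)
  obtain ⟨⟨y, hy⟩, hy1'⟩ := exists_ne (1 : centPart T K)
  have hy1 : y ≠ 1 := fun h => hy1' (Subtype.ext h)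
  have hyH : y ∉ H := hH ▸ Q.not_mem_closure_odd hy hy1
  obtain ⟨a⟩ : Nonempty (↥(K ⊔ T) ≃* Multiplicative (ZMod 2) × Equiv.Perm (Fin 4)) := by
    rcases Q.structure with ⟨⟨a⟩, -⟩ | ⟨h, -⟩
    · exfalso
      have h := Nat.card_congr a.toEquiv
      rw [Q.fst.facts.card, Nat.card_perm, Nat.card_fin, h16] at h
      norm_num [Nat.factorial] at h
    · exact h
  let π : ↥((K ⊔ T) ⊓ H : Subgroup G) →* Equiv.Perm (Fin 4) :=
    ((MonoidHom.snd _ _).comp a.toMonoidHom).comp (Subgroup.inclusion inf_le_left)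
  have hinj : Function.Injective π := by
    rw [← MonoidHom.ker_eq_bot_iff, Subgroup.eq_bot_iff_forall]
    intro h hh
    set c : ↥(K ⊔ T) := ⟨h, h.2.1⟩ with hc
    have hsnd : (a c).2 = 1 := hh
    have hcomm : ∀ g : ↥(K ⊔ T), g * c = c * g := fun g => a.injective (by
      rw [map_mul, map_mul]
      refine Prod.ext (mul_comm _ _) ?_
      rw [Prod.snd_mul, Prod.snd_mul, hsnd, one_mul, mul_one])
    have hc2 : c * c = 1 := a.injective (by
      rw [map_mul, map_one]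
      refine Prod.ext ?_ (by rw [Prod.snd_mul, hsnd, one_mul]; rfl)
      rw [Prod.fst_mul]
      exact CharTwo.add_self_eq_zero (R := ZMod 2) (Multiplicative.toAdd (a c).1))
    have hcR : (h : G) ∈ Cfsg.pCoreOf 2 (K ⊔ T) := Q.fst.facts.cent (Subgroup.mem_centralizer_iff.2 fun r hr =>
      congrArg Subtype.val (hcomm ⟨r, CfsgLib.Signalizer.pCoreOf_le 2 _ hr⟩))
    have hcY : (h : G) ∈ centPart T K := by
      refine ⟨?_, Subgroup.mem_centralizer_iff.2 fun k hk => congrArg Subtype.val (hcomm ⟨k, Subgroup.mem_sup_left hk⟩)⟩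
      rw [← Q.fst.omega_eq]
      exact mem_omegaCenterOf (Q.core_le hcR) (fun t ht => congrArg Subtype.val (hcomm ⟨t, Subgroup.mem_sup_right ht⟩))
        (congrArg Subtype.val hc2)
    rcases Q.centPart_cases hy hy1 hcY with e | e
    · exact Subtype.ext e
    · exact absurd (e ▸ h.2.2) hyH
  have h48 : Nat.card ↥(K ⊔ T) ≤ 2 * Nat.card ↥((K ⊔ T) ⊓ H : Subgroup G) := by
    refine card_le_two_mul fun p hp q hq hp' hq' => ?_
    obtain ⟨v, hv, hvp⟩ := Q.inside_split hp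
    obtain ⟨v', hv', hvq⟩ := Q.inside_split hq
    rw [← hH] at hvp hvq
    have e1 : v = y := (Q.centPart_cases hy hy1 hv).resolve_left fun e => hp' ⟨hp, by simpa [e] using hvp⟩
    have e2 : v' = y := (Q.centPart_cases hy hy1 hv').resolve_left fun e => hq' ⟨hq, by simpa [e] using hvq⟩
    rw [e1] at hvp
    rw [e2] at hvq
    refine ⟨mul_mem hp hq, ?_⟩
    have := mul_mem hvp hvq
    rwa [show y * p * (y * q) = p * q by
      rw [← Q.centPart_comm hy hp, mul_assoc, ← mul_assoc y, omegaCenterOf_sq hy.1, one_mul]] at this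
  have hbij : Function.Bijective π := by
    refine (Nat.bijective_iff_injective_and_card π).2 ⟨hinj, ?_⟩
    have h1 : Nat.card ↥((K ⊔ T) ⊓ H : Subgroup G) ≤ Nat.card (Equiv.Perm (Fin 4)) :=
      Nat.card_le_card_of_injective π hinj
    rw [Q.fst.facts.card, h16] at h48
    rw [Nat.card_perm, Nat.card_fin] at h1 ⊢
    simp only [Nat.factorial] at h1 ⊢
    omega
  exact ⟨e.trans (MulEquiv.ofBijective π hbij)⟩

theorem Pair.normalizer_W (Q : Pair M T K M' K') : Subgroup.normalizer (Cfsg.wOf K : Set G) = K ⊔ T := by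
  obtain ⟨h1, -, h3, h4⟩ := Q.fst.P.normalizer_local Q.fst.O
  exact le_antisymm ((Q.fst.P.local_le_maxLocal Q.fst.O h1 h3 h4).trans Q.maxLocal_eq_sup.le) Q.fst.sup_le_normalizer

/-- It is a maximal 2-local subgroup. -/
theorem Pair.inside_maximal (Q : Pair M T K M' K') {H : Subgroup G}
    (hH : H = Subgroup.closure {g : G | Odd (orderOf g)}) : Cfsg.IsMaximalTwoLocal ((K ⊔ T).subgroupOf H) := by
  classical
  haveI : Fact (Nat.Prime 2) := ⟨Nat.prime_two⟩
  have S := Q.fst.P.setting Q.fst.O.comp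
  have hWH : Cfsg.wOf K ≤ H := hH ▸ Q.W_le_closure_odd
  have hWp : IsPGroup 2 (Cfsg.wOf K) := W_isPGroup
  have hnormW : ∀ h : H, h ∈ Subgroup.normalizer ((Cfsg.wOf K).subgroupOf H : Set H) ↔ (h : G) ∈ K ⊔ T := by
    intro h
    rw [← Q.normalizer_W]
    constructor
    · intro hh
      exact mem_normalizer_of_le fun w hw => (Subgroup.mem_normalizer_iff.1 hh ⟨w, hWH hw⟩).1 hw
    · intro hh
      exact Subgroup.mem_normalizer_iff.2 fun x => Subgroup.mem_normalizer_iff.1 hh (x : G)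
  refine ⟨⟨(Cfsg.wOf K).subgroupOf H, hWp.comap_of_injective _ H.subtype_injective, fun h => ?_, ?_⟩, ?_⟩
  · have := S.card_W
    rw [← Nat.card_congr (Subgroup.subgroupOfEquivOfLe hWH).toEquiv, h, Subgroup.card_bot] at this
    norm_num at this
  · ext h
    exact (hnormW h).symm
  rintro N ⟨V, hV, hV1, rfl⟩ hle
  suffices e : V = (Cfsg.wOf K).subgroupOf H by
    subst e
    ext h
    exact hnormW h
  set V' := V.map H.subtype with hV'
  have hV'H : V' ≤ H := Subgroup.map_subtype_le _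
  have hV'p : IsPGroup 2 V' := hV.map _
  have hnV : (K ⊔ T) ⊓ H ≤ Subgroup.normalizer (V' : Set G) := by
    intro x hx
    refine mem_normalizer_of_le ?_
    rintro _ ⟨v, hv, rfl⟩
    exact ⟨_, (Subgroup.mem_normalizer_iff.1 (hle (show (⟨x, hx.2⟩ : H) ∈ (K ⊔ T).subgroupOf H from hx.1)) v).1 hv, rfl⟩
  have hWn : Cfsg.wOf K ≤ (K ⊔ T) ⊓ H := le_inf (Q.W_le_T.trans le_sup_right) hWH
  -- the part inside `⟨K, T⟩`
  set V₀ := V' ⊓ (K ⊔ T) with hV₀
  have hV₀n : K ⊔ T ≤ Subgroup.normalizer (V₀ : Set G) := by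
    intro x hx
    obtain ⟨v, hv, hvx⟩ := Q.inside_split hx
    rw [← hH] at hvx
    have hvm : v ∈ K ⊔ T := Subgroup.mem_sup_right (Q.core_le (Q.omega_le_core hv.1))
    refine mem_normalizer_of_le fun u hu => ?_
    have h1 : v * x * u * (v * x)⁻¹ ∈ V' :=
      (Subgroup.mem_normalizer_iff.1 (hnV ⟨mul_mem hvm hx, hvx⟩) u).1 hu.1
    have h2 : x * u * x⁻¹ ∈ K ⊔ T := mul_mem (mul_mem hx hu.2) (inv_mem hx)
    refine ⟨?_, h2⟩
    rwa [show v * x * u * (v * x)⁻¹ = v * (x * u * x⁻¹) * v⁻¹ by group, ← Q.centPart_comm hv h2,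
      mul_inv_cancel_right] at h1
  have hV₀R : V₀ ≤ Cfsg.pCoreOf 2 (K ⊔ T) := by
    have hle' : V₀ ≤ K ⊔ T := inf_le_right
    have h := CfsgLib.Fitting.le_pCore (G := ↥(K ⊔ T)) ((Subgroup.normal_subgroupOf_iff_le_normalizer hle').2 hV₀n)
      ((hV'p.to_le inf_le_left).comap_of_injective (K ⊔ T).subtype (Subgroup.subtype_injective _))
    exact fun x hx => ⟨⟨x, hle' hx⟩, h hx, rfl⟩
  have hV₀W : V₀ ≤ Cfsg.wOf K := by
    intro x hx
    obtain ⟨w, hw, v, hv, rfl⟩ := Q.core_split (hV₀R hx)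
    rcases eq_or_ne v 1 with rfl | hv1
    · rwa [mul_one]
    refine absurd ?_ (hH ▸ Q.not_mem_closure_odd hv hv1 : v ∉ H)
    simpa using mul_mem (inv_mem (hWH hw)) (hV'H hx.1)
  have hcases : V₀ = ⊥ ∨ V₀ = Cfsg.wOf K := by
    rw [or_iff_not_imp_left]
    intro hne
    refine le_antisymm hV₀W fun w hw => ?_
    rcases eq_or_ne w 1 with rfl | hw1
    · exact one_mem _
    obtain ⟨⟨u, hu⟩, hu1'⟩ := Subgroup.ne_bot_iff_exists_ne_one.1 hne
    have hu1 : u ≠ 1 := fun h => hu1' (Subtype.ext h)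
    obtain ⟨k, hk⟩ := S.phi_surjective (Equiv.swap ⟨u, hV₀W hu, hu1⟩ ⟨w, hw, hw1⟩)
    have hku : (k : G) * u * (k : G)⁻¹ = w := by
      have := congrArg Subtype.val (Equiv.ext_iff.1 hk ⟨u, hV₀W hu, hu1⟩)
      rw [Equiv.swap_apply_left] at this
      exact this
    rw [← hku]
    exact (Subgroup.mem_normalizer_iff.1
      (hV₀n ((sup_le_sup_left (CfsgLib.Transfer.thompsonJ_le 2 T) K) k.2)) u).1 hu
  -- elements of `V'` normalizing `W`
  have hVN : ∀ u ∈ V', u ∈ Subgroup.normalizer (Cfsg.wOf K : Set G) → u ∈ V₀ := fun u hu hn =>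
    ⟨hu, Q.normalizer_W.le hn⟩
  have hV'eq : V' = Cfsg.wOf K := by
    rcases hcases with h0 | h0
    · exfalso
      have hWnV : Cfsg.wOf K ≤ Subgroup.normalizer (V' : Set G) := hWn.trans hnV
      set X := V' ⊔ Cfsg.wOf K with hX
      have hXp : IsPGroup 2 X := hV'p.to_sup_of_normal_left' hWp hWnV
      rcases eq_or_lt_of_le (le_sup_right : Cfsg.wOf K ≤ X) with e | hlt
      · have hle2 : V' ≤ Cfsg.wOf K := le_sup_left.trans e.ge
        refine hV1 ((Subgroup.map_eq_bot_iff_of_injective _ H.subtype_injective).1 ?_)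
        refine le_bot_iff.1 fun u hu => h0.le ⟨hu, Subgroup.mem_sup_right (Q.W_le_T (hle2 hu))⟩
      · obtain ⟨x, ⟨hxX, hxn⟩, hxW⟩ := SetLike.exists_of_lt (CfsgLib.Transfer.lt_inf_normalizer hXp hlt)
        have hx' : x ∈ ((V' ⊔ Cfsg.wOf K : Subgroup G) : Set G) := hxX
        rw [Subgroup.coe_mul_of_right_le_normalizer_left _ _ hWnV] at hx'
        obtain ⟨u, hu, w, hw, e⟩ := hx'
        have hun : u ∈ Subgroup.normalizer (Cfsg.wOf K : Set G) := by
          rw [show u = x * w⁻¹ by rw [← (show u * w = x from e), mul_inv_cancel_right]]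
          exact mul_mem hxn (inv_mem (Subgroup.le_normalizer hw))
        have hu1 : u = 1 := Subgroup.mem_bot.1 (h0 ▸ hVN u hu hun)
        refine hxW ?_
        rw [← (show u * w = x from e), hu1, one_mul]
        exact hw
    · have hWV : Cfsg.wOf K ≤ V' := h0 ▸ inf_le_left
      by_contra hne
      obtain ⟨x, ⟨hxV, hxn⟩, hxW⟩ := SetLike.exists_of_lt
        (CfsgLib.Transfer.lt_inf_normalizer hV'p (lt_of_le_of_ne hWV (Ne.symm hne)))
      exact hxW (h0 ▸ hVN x hxV hxn)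
  refine Subgroup.map_injective H.subtype_injective ?_
  rw [Subgroup.map_subgroupOf_eq_of_le hWH]
  exact hV'eq

theorem Pair.inside_inf (Q : Pair M T K M' K') {H : Subgroup G}
    (hH : H = Subgroup.closure {g : G | Odd (orderOf g)}) :
    Nat.card ↥((K ⊔ T).subgroupOf H ⊓ (K' ⊔ T).subgroupOf H) = 8 := by
  classical
  have hinf : (K ⊔ T) ⊓ (K' ⊔ T) = T := by
    have hTT : T ≤ (K ⊔ T) ⊓ (K' ⊔ T) := le_inf le_sup_right le_sup_right
    have h1 : Nat.card T * T.relIndex ((K ⊔ T) ⊓ (K' ⊔ T)) = Nat.card ((K ⊔ T) ⊓ (K' ⊔ T) : Subgroup G) := by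
      simpa using Subgroup.relIndex_mul_relIndex ⊥ T _ bot_le hTT
    have h2 := Subgroup.relIndex_mul_relIndex T ((K ⊔ T) ⊓ (K' ⊔ T)) (K ⊔ T) hTT inf_le_left
    have h3 : T.relIndex (K ⊔ T) = 3 := by
      have h : Nat.card T * T.relIndex (K ⊔ T) = Nat.card ↥(K ⊔ T) := by
        simpa using Subgroup.relIndex_mul_relIndex ⊥ T (K ⊔ T) bot_le (le_sup_right : T ≤ K ⊔ T)
      rw [Q.fst.facts.card, mul_comm 3] at h
      exact Nat.eq_of_mul_eq_mul_left Nat.card_pos h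
    rw [h3] at h2
    rcases (Nat.dvd_prime Nat.prime_three).1 ⟨_, h2.symm⟩ with e | e
    · exact le_antisymm (Subgroup.relIndex_eq_one.1 e) hTT
    · exfalso
      rw [e] at h2
      have hle : K ⊔ T ≤ K' ⊔ T := fun x hx =>
        (Subgroup.relIndex_eq_one.1 (by omega : ((K ⊔ T) ⊓ (K' ⊔ T)).relIndex (K ⊔ T) = 1) hx).2
      refine Q.out ((le_sup_left : K' ≤ K' ⊔ T).trans ?_)
      exact (Subgroup.eq_of_le_of_card_ge hle (by rw [Q.fst.facts.card, Q.snd.facts.card])).symm.le.trans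
        Q.fst.sup_le_maxLocal
  have e : (K ⊔ T).subgroupOf H ⊓ (K' ⊔ T).subgroupOf H = (T ⊓ H).subgroupOf H := by
    ext x
    rw [Subgroup.mem_inf, Subgroup.mem_subgroupOf, Subgroup.mem_subgroupOf, Subgroup.mem_subgroupOf,
      Subgroup.mem_inf, ← Subgroup.mem_inf, hinf]
    exact ⟨fun h => ⟨h, x.2⟩, fun h => h.1⟩
  rw [e, Nat.card_congr (Subgroup.subgroupOfEquivOfLe (inf_le_right : T ⊓ H ≤ H)).toEquiv]
  have hD : Cfsg.wOf K ⊔ Cfsg.wOf K' ≤ H := hH ▸ sup_le Q.W_le_closure_odd Q.symm.W_le_closure_odd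
  rcases Q.core_shape.2.2.2 with ⟨h8, hY⟩ | ⟨h16, hY⟩
  · rw [inf_eq_left.2 ?_, h8]
    intro t ht
    obtain ⟨v, hv, hvt⟩ := Q.decomp ht
    rw [Subgroup.mem_bot.1 (show v ∈ (⊥ : Subgroup G) from hY ▸ hv), one_mul] at hvt
    exact hD hvt
  · haveI : Nontrivial (centPart T K) := Finite.one_lt_card_iff_nontrivial.1 (by rw [hY]; norm_num)
    obtain ⟨⟨y, hy⟩, hy1'⟩ := exists_ne (1 : centPart T K)
    have hy1 : y ≠ 1 := fun h => hy1' (Subtype.ext h)
    have hyH : y ∉ H := hH ▸ Q.not_mem_closure_odd hy hy1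
    have hyT : y ∈ T := Q.core_le (Q.omega_le_core hy.1)
    have hidx : (T ⊓ H).relIndex T = 2 := by
      rw [Subgroup.relIndex_eq_two_iff_exists_notMem_and']
      refine ⟨y, hyT, fun h => hyH h.2, fun b hb => ?_⟩
      obtain ⟨v, hv, hvb⟩ := Q.decomp hb
      rcases Q.centPart_cases hy hy1 hv with e | e
      · exact Or.inr ⟨hb, by simpa [e] using hD hvb⟩
      · exact Or.inl ⟨mul_mem hyT hb, e ▸ hD hvb⟩
    have h : Nat.card ↥(T ⊓ H) * (T ⊓ H).relIndex T = Nat.card T := by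
      simpa using Subgroup.relIndex_mul_relIndex ⊥ (T ⊓ H) T bot_le inf_le_left
    rw [hidx, h16] at h
    omega

end CfsgLib.JComp
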