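import Cfsg.Agent.Lib.JComp.Overgroup

/-!
# The normalizer of a component in the family `𝒦₀(T)`
-/

set_option autoImplicit false
set_option linter.style.haveILetI false

namespace CfsgLib.JComp

open scoped commutatorElement Pointwise

universe u

variable {G : Type u} [Group G] [Finite G]

/-- Frattini for the normal closure of `J`. -/
theorem frattini_J {L : Type u} [Group L] [Finite L] (T : Sylow 2 L) (g : L) :
    ∃ m ∈ Subgroup.normalClosure (CfsgLib.Transfer.thompsonJ 2 (T : Subgroup L) : Set L),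
      ∃ n ∈ Subgroup.normalizer (CfsgLib.Transfer.thompsonJ 2 (T : Subgroup L) : Set L), g = m * n := by
  haveI : Fact (Nat.Prime 2) := ⟨Nat.prime_two⟩
  set J := CfsgLib.Transfer.thompsonJ 2 (T : Subgroup L) with hJ
  set N₁ := Subgroup.normalClosure (J : Set L) with hN₁
  haveI : N₁.Normal := Subgroup.normalClosure_normal
  set T₀ := (T : Subgroup L) ⊓ N₁ with hT₀
  have hT₀J : CfsgLib.Transfer.thompsonJ 2 T₀ = J :=
    thompsonJ_mid rfl (le_inf (CfsgLib.Transfer.thompsonJ_le 2 _) Subgroup.subset_normalClosure) inf_le_left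
  have hp : IsPGroup 2 T₀ := T.2.to_le inf_le_left
  have hrel : ¬ 2 ∣ T₀.relIndex N₁ := by
    intro h
    rw [hT₀, Subgroup.inf_relIndex_right] at h
    exact T.not_dvd_index (h.trans (Fitting.relIndex_dvd_index_of_normal_right _ N₁))
  let P : Sylow 2 N₁ :=
    (hp.comap_of_injective N₁.subtype N₁.subtype_injective : IsPGroup 2 (T₀.subgroupOf N₁)).toSylow hrel
  have hfr := Sylow.normalizer_sup_eq_top P
  rw [show ((P : Subgroup N₁).map N₁.subtype) = T₀ from Subgroup.map_subgroupOf_eq_of_le inf_le_right] at hfr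
  have hg : g ∈ ((N₁ ⊔ Subgroup.normalizer (T₀ : Set L) : Subgroup L) : Set L) := by
    rw [sup_comm, hfr]; trivial
  rw [Subgroup.normal_mul] at hg
  obtain ⟨m, hm, n, hn, rfl⟩ := hg
  refine ⟨m, hm, n, ?_, rfl⟩
  rw [← hT₀J]
  exact CfsgLib.Transfer.normalizer_le_normalizer_thompsonJ 2 T₀ hn

/-- The members of `𝒦₀(T)`. -/
structure ZeroComp (T K : Subgroup G) : Prop where
  amb : Ambient G
  set : Setting T K
  hT1 : T ≠ ⊥
  zero : K ∈ Cfsg.jComponentsZero T

variable {T K : Subgroup G}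

theorem ZeroComp.W_isTwo (Z : ZeroComp T K) : Cfsg.IsTwoLocal (Subgroup.normalizer (Cfsg.wOf K : Set G)) := by
  refine ⟨Cfsg.wOf K, W_isPGroup, fun h => ?_, rfl⟩
  have := Z.set.card_W
  rw [h, Subgroup.card_bot] at this
  norm_num at this

/-- A Sylow subgroup of `N(W)` containing `J`. -/
theorem ZeroComp.exists_sylow (Z : ZeroComp T K) :
    ∃ S : Subgroup G, CfsgLib.Transfer.thompsonJ 2 T ≤ S ∧
      Cfsg.IsSylowTwoIn S (Subgroup.normalizer (Cfsg.wOf K : Set G)) ∧
      CfsgLib.Transfer.thompsonJ 2 S = CfsgLib.Transfer.thompsonJ 2 T ∧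
      Subgroup.normalizer (Cfsg.wOf K : Set G) ∈ Cfsg.jOvergroups S ∧ S ≠ ⊥ := by
  haveI : Fact (Nat.Prime 2) := ⟨Nat.prime_two⟩
  set N := Subgroup.normalizer (Cfsg.wOf K : Set G) with hN
  set J := CfsgLib.Transfer.thompsonJ 2 T with hJ
  have hJN : J ≤ N := Z.set.J_le_normalizer.trans (normalizer_le_normalizer_wOf K)
  have hJp : IsPGroup 2 (J.subgroupOf N) :=
    (Z.set.hT.to_le (CfsgLib.Transfer.thompsonJ_le 2 T)).comap_of_injective N.subtype N.subtype_injective
  obtain ⟨P, hP⟩ := hJp.exists_le_sylow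
  set S := (P : Subgroup N).map N.subtype with hS
  have hJS : J ≤ S := fun x hx => ⟨⟨x, hJN hx⟩, hP hx, rfl⟩
  have hSy : Cfsg.IsSylowTwoIn S N := by
    refine ⟨Subgroup.map_subtype_le _, P.2.map _, ?_⟩
    rw [hS, Subgroup.relIndex, ← Subgroup.comap_subtype,
      Subgroup.comap_map_eq_self_of_injective (Subgroup.subtype_injective _)]
    rw [← Nat.not_even_iff_odd, even_iff_two_dvd]
    exact Sylow.not_dvd_index P
  have hJSeq : CfsgLib.Transfer.thompsonJ 2 S = J := by
    have h := Z.zero.2 S (by rw [CfsgLib.Transfer.thompsonSubgroupOf_eq]; exact hJS) hSy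
    rwa [CfsgLib.Transfer.thompsonSubgroupOf_eq, CfsgLib.Transfer.thompsonSubgroupOf_eq] at h
  have hS1 : S ≠ ⊥ := fun h => CfsgLib.Transfer.thompsonJ_ne_bot (dvd_refl 2) Z.set.hT Z.hT1
    (le_bot_iff.1 (h ▸ hJS))
  refine ⟨S, hJS, hSy, hJSeq, ⟨hSy, ?_, ?_⟩, hS1⟩
  · rw [CfsgLib.Transfer.thompsonSubgroupOf_eq, hJSeq]
    intro hle
    obtain ⟨g, hgK, -, hmov⟩ := Z.set.moves
    obtain ⟨A, hA, a, ha, x, hx, hne⟩ := Z.set.exists_A_moves
    have hgN : g ∈ N := normalizer_le_normalizer_wOf K (Subgroup.le_normalizer hgK)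
    refine hne (hmov.centralizes_of_normalizes Z.set.card_W (CfsgLib.PReduced.isPGroup_pCoreOf 2 N)
      (fun q hq w hw => (Subgroup.mem_normalizer_iff.1 (CfsgLib.Signalizer.pCoreOf_le 2 N hq) w).1 hw)
      (fun q hq => (Subgroup.mem_normalizer_iff''.1
        (CfsgLib.Signalizer.normalizer_le_normalizer_pCoreOf 2 Subgroup.le_normalizer hgN) q).1 hq)
      a (hle (le_sSup hA ha)) x hx)
  · have hc := Z.amb.char2.2 (Cfsg.wOf K) W_isPGroup (fun h => by
      have := Z.set.card_W
      rw [h, Subgroup.card_bot] at this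
      norm_num at this)
    intro c hc'
    have hW2 : Cfsg.wOf K ≤ Cfsg.pCoreOf 2 N := by
      haveI : ((Cfsg.wOf K).subgroupOf N).Normal := Subgroup.normal_in_normalizer
      have h := CfsgLib.Fitting.le_pCore (G := ↥N) this
        ((W_isPGroup (K := K)).comap_of_injective N.subtype N.subtype_injective)
      intro w hw
      exact ⟨⟨w, Subgroup.le_normalizer hw⟩, h hw, rfl⟩
    have hcN : c ∈ N := Subgroup.centralizer_le_normalizer _ (Subgroup.centralizer_le hW2 hc')
    refine ⟨⟨c, hcN⟩, hc (Subgroup.mem_centralizer_iff.2 fun r hr => Subtype.ext ?_), rfl⟩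
    exact Subgroup.mem_centralizer_iff.1 hc' _ ⟨r, hr, rfl⟩

/-- `N(K) = N(W)`. -/
theorem ZeroComp.normalizer_eq (Z : ZeroComp T K) :
    Subgroup.normalizer (K : Set G) = Subgroup.normalizer (Cfsg.wOf K : Set G) := by
  haveI : Fact (Nat.Prime 2) := ⟨Nat.prime_two⟩
  refine le_antisymm (normalizer_le_normalizer_wOf K) ?_
  set N := Subgroup.normalizer (Cfsg.wOf K : Set G) with hN
  obtain ⟨S, hJS, hSy, hJSeq, hmem, hS1⟩ := Z.exists_sylow
  set J := CfsgLib.Transfer.thompsonJ 2 T with hJ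
  have O : Over S N := ⟨Z.amb, hSy.2.1, hS1, hmem⟩
  obtain ⟨Y, D⟩ := O.exists_local
  have hKN : K ≤ N := Subgroup.le_normalizer.trans (normalizer_le_normalizer_wOf K)
  have St : Setting S K := ⟨hSy.2.1, by
    have h := Z.zero.1
    unfold Cfsg.IsJComponent at h ⊢
    rw [CfsgLib.Transfer.thompsonSubgroupOf_eq] at h ⊢
    rw [hJSeq]
    exact h⟩
  obtain ⟨g, C, -⟩ := Comp.of_component O D St hKN
  obtain ⟨⟨w, hwW⟩, hw1⟩ : ∃ w : Cfsg.wOf K, w ≠ 1 := by
    by_contra h
    push Not at h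
    have := Z.set.card_W
    rw [(Subgroup.eq_bot_iff_forall _).2 (fun x hx => congrArg Subtype.val (h ⟨x, hx⟩)), Subgroup.card_bot] at this
    norm_num at this
  have hw1' : w ≠ 1 := fun e => hw1 (Subtype.ext e)
  have hmapN : ∀ h : G, K.map (MulAut.conj h).toMonoidHom = K → h ∈ Subgroup.normalizer (K : Set G) := by
    intro h e
    refine Subgroup.mem_normalizer_iff.2 fun x => ⟨fun hx => e.le ⟨x, hx, rfl⟩, fun hx => ?_⟩
    obtain ⟨y, hy, e'⟩ := e.symm.le hx
    rwa [mul_left_cancel (mul_right_cancel (show h * y * h⁻¹ = h * x * h⁻¹ from e'))] at hy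
  have hnorm : ∀ h ∈ N, h ∈ Subgroup.normalizer (CfsgLib.Transfer.thompsonJ 2 S : Set G) →
      h ∈ Subgroup.normalizer (K : Set G) := by
    intro h hh hJh
    refine hmapN h (C.eq_of_share O D (C.conj O D hh hJh) hwW ?_ hw1'
      (Subgroup.card_map_of_injective (MulAut.conj h).injective))
    rw [wOf_map h (pCoreOf_map K h)]
    refine ⟨h⁻¹ * w * h, ?_, ?_⟩
    · exact (Subgroup.mem_normalizer_iff''.1 hh w).1 hwW
    · show h * (h⁻¹ * w * h) * h⁻¹ = w
      group
  have hYK : ∀ y ∈ Y, y ∈ Subgroup.normalizer (K : Set G) := by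
    intro y hy
    refine hmapN y (C.eq_of_share O D (g' := y * g * y⁻¹) ?_ hwW ?_ hw1'
      (Subgroup.card_map_of_injective (MulAut.conj y).injective))
    · -- a conjugate by an element of `Y`
      set c := (MulAut.conj y).toMonoidHom with hc
      set R := Cfsg.pCoreOf 2 N with hR
      have hyN : y ∈ N := D.le hy
      have hYR : ∀ x ∈ Y, y * x * y⁻¹ * x⁻¹ ∈ R := fun x hx => by
        simpa [commutatorElement_def] using D.comm y hy x hx
      have hRy := O.L_le_normalizer_R hyN
      have hRmap : R.map c = R := by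
        refine le_antisymm ?_ fun r hr => ⟨_, (Subgroup.mem_normalizer_iff''.1 hRy r).1 hr, by simp [hc, mul_assoc]⟩
        rintro _ ⟨r, hr, rfl⟩; exact (Subgroup.mem_normalizer_iff.1 hRy r).1 hr
      have hW : Cfsg.wOf (K.map c) = Cfsg.wOf K := by
        rw [wOf_map y (pCoreOf_map K y)]
        refine le_antisymm ?_ fun r hr => ⟨_, (Subgroup.mem_normalizer_iff''.1 hyN r).1 hr, by simp [mul_assoc]⟩
        rintro _ ⟨r, hr, rfl⟩; exact (Subgroup.mem_normalizer_iff.1 hyN r).1 hr
      have hgg : y * g * y⁻¹ * g⁻¹ ∈ R := hYR g (C.le C.gmem)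
      have hKR : K.map c ≤ K ⊔ R := by
        rintro _ ⟨x, hx, rfl⟩
        have : c x = y * x * y⁻¹ * x⁻¹ * x := by simp [hc]
        rw [this]
        exact mul_mem (Subgroup.mem_sup_right (hYR x (C.le hx))) (Subgroup.mem_sup_left hx)
      have hKR' : K ≤ K.map c ⊔ R := by
        intro x hx
        have h1 : y * x * y⁻¹ * x⁻¹ ∈ R := hYR x (C.le hx)
        rw [show x = (y * x * y⁻¹ * x⁻¹)⁻¹ * (y * x * y⁻¹) by group]
        exact mul_mem (Subgroup.mem_sup_right (inv_mem h1)) (Subgroup.mem_sup_left ⟨x, hx, rfl⟩)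
      have hord : ∀ x, orderOf (c x) = orderOf x := fun x => orderOf_injective c (MulAut.conj y).injective x
      have hgen : Subgroup.closure {x : G | x ∈ K.map c ∧ Odd (orderOf x)} = K.map c := by
        refine le_antisymm ((Subgroup.closure_le _).2 fun x hx => hx.1) ?_
        conv_lhs => rw [← C.gen, MonoidHom.map_closure]
        exact Subgroup.closure_mono (by rintro _ ⟨x, ⟨hx, ho⟩, rfl⟩; exact ⟨⟨x, hx, rfl⟩, (hord x).symm ▸ ho⟩)
      -- `J` normalizes the conjugate
      have hJn : CfsgLib.Transfer.thompsonJ 2 S ≤ Subgroup.normalizer ((K.map c : Subgroup G) : Set G) := by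
        intro j hj
        have hjK := C.normJ hj
        have hjR := O.L_le_normalizer_R (O.J_le hj)
        have key : ∀ j' : G, j' ∈ CfsgLib.Transfer.thompsonJ 2 S → ∀ x ∈ K.map c, j' * x * j'⁻¹ ∈ K.map c := by
          intro j' hj'
          suffices K.map c ≤ (K.map c).comap (MulAut.conj j').toMonoidHom from fun x hx => this hx
          conv_lhs => rw [← hgen]
          rw [Subgroup.closure_le]
          rintro x ⟨hx, hxo⟩
          show j' * x * j'⁻¹ ∈ K.map c
          have hRKc : R ≤ Subgroup.normalizer ((K.map c : Subgroup G) : Set G) := by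
            rw [← hRmap]
            exact (Subgroup.map_mono C.normR).trans (Subgroup.le_normalizer_map c)
          have hmem : j' * x * j'⁻¹ ∈ K.map c ⊔ R := by
            have h1 : j' * x * j'⁻¹ ∈ K ⊔ R := by
              have hle : K ⊔ R ≤ (K ⊔ R).comap (MulAut.conj j').toMonoidHom := sup_le
                (fun k hk => Subgroup.mem_sup_left ((Subgroup.mem_normalizer_iff.1 (C.normJ hj') k).1 hk))
                (fun r hr => Subgroup.mem_sup_right
                  ((Subgroup.mem_normalizer_iff.1 (O.L_le_normalizer_R (O.J_le hj')) r).1 hr))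
              exact hle (hKR hx)
            exact (sup_le hKR' le_sup_right : K ⊔ R ≤ K.map c ⊔ R) h1
          haveI : ((K.map c).subgroupOf (K.map c ⊔ R)).Normal :=
            (Subgroup.normal_subgroupOf_iff_le_normalizer le_sup_left).2 (sup_le Subgroup.le_normalizer hRKc)
          have hm : j' * x * j'⁻¹ ∈ (((R ⊔ K.map c) : Subgroup G) : Set G) := (sup_comm (K.map c) R).le hmem
          rw [Subgroup.coe_mul_of_left_le_normalizer_right _ _ hRKc] at hm
          obtain ⟨r, hr, k, hk, e⟩ := hm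
          have e' : r * k = j' * x * j'⁻¹ := e
          let π := QuotientGroup.mk' ((K.map c).subgroupOf (K.map c ⊔ R))
          have h1 : π ⟨_, hmem⟩ = π ⟨r, Subgroup.mem_sup_right hr⟩ := by
            refine (QuotientGroup.eq.2 ?_).symm
            show r⁻¹ * (j' * x * j'⁻¹) ∈ K.map c
            rw [← e']; simpa using hk
          have ho : Odd (orderOf (j' * x * j'⁻¹)) := by
            have : SemiconjBy j' x (j' * x * j'⁻¹) := by simp [SemiconjBy]
            rw [← this.orderOf_eq]; exact hxo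
          have d1 : orderOf (π ⟨_, hmem⟩) ∣ orderOf (j' * x * j'⁻¹) := by
            have h := orderOf_map_dvd π (⟨_, hmem⟩ : ↥(K.map c ⊔ R))
            rwa [Subgroup.orderOf_mk] at h
          obtain ⟨m, hm2⟩ := CfsgLib.PReduced.isPGroup_pCoreOf 2 N ⟨r, hr⟩
          have d2 : orderOf (π ⟨_, hmem⟩) ∣ 2 ^ m := by
            refine orderOf_dvd_of_pow_eq_one ?_
            rw [h1, ← map_pow, show (⟨r, Subgroup.mem_sup_right hr⟩ : ↥(K.map c ⊔ R)) ^ 2 ^ m = 1 from
              Subtype.ext (by simpa using congrArg Subtype.val hm2), map_one]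
          have h3 := orderOf_eq_one_iff.1 (Nat.eq_one_of_dvd_coprimes (ho.coprime_two_right.pow_right m) d1 d2)
          exact (QuotientGroup.eq_one_iff (N := (K.map c).subgroupOf (K.map c ⊔ R)) _).1 h3
        refine Subgroup.mem_normalizer_iff.2 fun x => ⟨key j hj x, fun hx => ?_⟩
        simpa [mul_assoc] using key j⁻¹ (inv_mem hj) _ hx
      refine ⟨?_, ⟨g, C.gmem, rfl⟩, hgen, ?_, ?_, ⟨?_, ?_⟩, by rw [hW]; exact C.card, ?_, hJn, ?_, ?_⟩
      · exact hKR.trans (sup_le C.le D.core)
      · refine (Subgroup.map_mono C.span).trans ?_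
        rw [Subgroup.map_sup, MonoidHom.map_zpowers, hRmap]
        rfl
      · rw [show y * g * y⁻¹ = c g from rfl, hord]; exact C.odd
      · rw [hW]
        intro x hx
        have hy1 : y⁻¹ * x * y ∈ Cfsg.wOf K := (Subgroup.mem_normalizer_iff''.1 hyN x).1 hx
        have := (Subgroup.mem_normalizer_iff.1 hyN _).1 (C.moves.norm _ hy1)
        simpa [mul_assoc] using this
      · rw [hW]
        intro x hx e
        have hy1 : y⁻¹ * x * y ∈ Cfsg.wOf K := (Subgroup.mem_normalizer_iff''.1 hyN x).1 hx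
        have h := C.moves.fpf _ hy1 (by
          have h2 := congrArg (fun z => y⁻¹ * z * y) e
          simpa [mul_assoc] using h2)
        simpa [mul_assoc] using congrArg (fun z => y * z * y⁻¹) h
      · show R ≤ _
        rw [← hRmap]
        exact (Subgroup.map_mono C.normR).trans (Subgroup.le_normalizer_map c)
      · intro j hj
        -- compare with `g` modulo `R`
        have hjR := O.L_le_normalizer_R (O.J_le hj)
        set d := y * g * y⁻¹ * g⁻¹ with hd
        have hgg' : y * g * y⁻¹ = d * g := by rw [hd]; group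
        rw [hgg']
        rcases C.sign j hj with h | h
        · left
          rw [show ⁅j, d * g⁆ = (j * d * j⁻¹) * ⁅j, g⁆ * d⁻¹ by simp only [commutatorElement_def]; group]
          exact mul_mem (mul_mem ((Subgroup.mem_normalizer_iff.1 hjR _).1 hgg) h) (inv_mem hgg)
        · right
          have hgN := O.L_le_normalizer_R (D.le (C.le C.gmem))
          have hjgN := O.L_le_normalizer_R (mul_mem (mul_mem (O.J_le hj) (D.le (C.le C.gmem))) (inv_mem (O.J_le hj)))
          rw [show j * (d * g) * j⁻¹ * (d * g) =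
            (j * d * j⁻¹) * ((j * g * j⁻¹) * d * (j * g * j⁻¹)⁻¹) * (j * g * j⁻¹ * g) by group]
          exact mul_mem (mul_mem ((Subgroup.mem_normalizer_iff.1 hjR _).1 hgg)
            ((Subgroup.mem_normalizer_iff.1 hjgN _).1 hgg)) h
      · obtain ⟨j, hj, hjm⟩ := C.moved
        refine ⟨j, hj, fun hm => hjm ?_⟩
        set d := y * g * y⁻¹ * g⁻¹ with hd
        have hgg' : y * g * y⁻¹ = d * g := by rw [hd]; group
        rw [hgg'] at hm
        have hjR := O.L_le_normalizer_R (O.J_le hj)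
        rw [show ⁅j, g⁆ = (j * d * j⁻¹)⁻¹ * ⁅j, d * g⁆ * d by simp only [commutatorElement_def]; group]
        exact mul_mem (mul_mem (inv_mem ((Subgroup.mem_normalizer_iff.1 hjR _).1 hgg)) hm) hgg
    · rw [wOf_map y (pCoreOf_map K y)]
      exact ⟨y⁻¹ * w * y, (Subgroup.mem_normalizer_iff''.1 (D.le hy) w).1 hwW, by simp [mul_assoc]⟩
  have hJK : ∀ g ∈ N, ∀ j ∈ CfsgLib.Transfer.thompsonJ 2 S, g * j * g⁻¹ ∈ Subgroup.normalizer (K : Set G) :=
    D.gen _ fun y hy j hj => mul_mem (mul_mem (hYK y hy) (C.normJ hj)) (inv_mem (hYK y hy))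
  -- Frattini
  intro x hx
  have hTp : IsPGroup 2 (S.subgroupOf N) := hSy.2.1.comap_of_injective N.subtype N.subtype_injective
  let P : Sylow 2 N := hTp.toSylow (fun h => Nat.not_even_iff_odd.2 hSy.2.2 (even_iff_two_dvd.2 h))
  have hJmap := map_thompson_subgroupOf (T := S) (L := N) hSy.1
  obtain ⟨m, hm, n, hn, e⟩ := frattini_J P (⟨x, hx⟩ : N)
  have hmK : (m : G) ∈ Subgroup.normalizer (K : Set G) := by
    have hle : Subgroup.normalClosure (CfsgLib.Transfer.thompsonJ 2 (P : Subgroup N) : Set N) ≤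
        (Subgroup.normalizer (K : Set G)).comap N.subtype := by
      refine (Subgroup.closure_le _).2 fun z hz => ?_
      obtain ⟨j, hj, hjz⟩ := Group.mem_conjugatesOfSet_iff.1 hz
      obtain ⟨c, rfl⟩ := isConj_iff.1 hjz
      exact hJK c c.2 j (hJmap.le ⟨j, hj, rfl⟩)
    exact hle hm
  have hnK : (n : G) ∈ Subgroup.normalizer (K : Set G) := by
    refine hnorm n n.2 ?_
    rw [← hJmap]
    exact Subgroup.le_normalizer_map N.subtype ⟨n, hn, rfl⟩
  have e2 : x = (m : G) * n := congrArg Subtype.val e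
  rw [e2]
  exact mul_mem hmK hnK

/-- Transport of a component along an element normalizing it. -/
theorem component_conj {T' : Subgroup G} {h : G} (hK : Cfsg.IsJComponent T K)
    (hh : h ∈ Subgroup.normalizer (K : Set G))
    (hJ : CfsgLib.Transfer.thompsonJ 2 T' = (CfsgLib.Transfer.thompsonJ 2 T).map (MulAut.conj h).toMonoidHom) :
    Cfsg.IsJComponent T' K := by
  set c := (MulAut.conj h).toMonoidHom with hc
  have hKc : K.map c = K := by
    refine le_antisymm ?_ fun r hr => ⟨_, (Subgroup.mem_normalizer_iff''.1 hh r).1 hr, by simp [hc, mul_assoc]⟩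
    rintro _ ⟨r, hr, rfl⟩; exact (Subgroup.mem_normalizer_iff.1 hh r).1 hr
  obtain ⟨h1, h2, h3, h4, h5, h6⟩ := hK
  rw [CfsgLib.Transfer.thompsonSubgroupOf_eq] at h2
  refine ⟨h1, ?_, h3, ?_, h5, h6⟩
  · rw [CfsgLib.Transfer.thompsonSubgroupOf_eq, hJ]
    conv_lhs => rw [← hKc]
    rw [← Subgroup.map_commutator, h2, hKc]
  · intro S hS hle
    rw [CfsgLib.Transfer.thompsonSubgroupOf_eq, CfsgLib.Transfer.thompsonSubgroupOf_eq] at *
    rw [hJ] at hS hle ⊢
    set d := (MulAut.conj h⁻¹).toMonoidHom with hd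
    have hdc : ∀ X : Subgroup G, (X.map c).map d = X := fun X => by
      rw [Subgroup.map_map, show d.comp c = MonoidHom.id G from MonoidHom.ext fun x => by simp [hc, hd, mul_assoc],
        Subgroup.map_id]
    have hcd : ∀ X : Subgroup G, (X.map d).map c = X := fun X => by
      rw [Subgroup.map_map, show c.comp d = MonoidHom.id G from MonoidHom.ext fun x => by simp [hc, hd, mul_assoc],
        Subgroup.map_id]
    have hsup : (K ⊔ (CfsgLib.Transfer.thompsonJ 2 T).map c).map d = K ⊔ CfsgLib.Transfer.thompsonJ 2 T := by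
      conv_lhs => rw [← hKc]
      rw [Subgroup.map_sup, hdc, hdc]
    have hS' : Cfsg.IsSylowTwoIn (S.map d) (K ⊔ CfsgLib.Transfer.thompsonJ 2 T) := by
      rw [← hsup]
      refine ⟨Subgroup.map_mono hS.1, hS.2.1.map d, ?_⟩
      rw [Subgroup.relIndex_map_map_of_injective _ _ (MulAut.conj h⁻¹).injective]
      exact hS.2.2
    have h := h4 (S.map d) hS'
      (by
        have := Subgroup.map_mono (f := d) hle
        rwa [hdc] at this)
    rw [CfsgLib.Transfer.thompsonSubgroupOf_eq] at h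
    rw [← h, CfsgLib.Transfer.map_thompsonJ 2 c (Set.injOn_of_injective (f := c) (MulAut.conj _).injective), hcd]

/-- The second part: conjugates of `J` normalizing `W`. -/
theorem ZeroComp.conj_component (Z : ZeroComp T K) (g : G)
    (hle : CfsgLib.Transfer.thompsonJ 2 (T.map (MulAut.conj g).toMonoidHom) ≤
      Subgroup.normalizer (Cfsg.wOf K : Set G)) :
    Cfsg.IsJComponent (T.map (MulAut.conj g).toMonoidHom) K := by
  haveI : Fact (Nat.Prime 2) := ⟨Nat.prime_two⟩
  set N := Subgroup.normalizer (Cfsg.wOf K : Set G) with hN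
  obtain ⟨S, hJS, hSy, hJSeq, -, -⟩ := Z.exists_sylow
  set J := CfsgLib.Transfer.thompsonJ 2 T with hJ
  set T' := T.map (MulAut.conj g).toMonoidHom with hT'
  set J' := CfsgLib.Transfer.thompsonJ 2 T' with hJ'
  have hJJ' : J' = J.map (MulAut.conj g).toMonoidHom :=
    (CfsgLib.Transfer.map_thompsonJ 2 _ (MulAut.conj g).injective.injOn).symm
  let P : Sylow 2 N := (hSy.2.1.comap_of_injective N.subtype N.subtype_injective :
    IsPGroup 2 (S.subgroupOf N)).toSylow (fun h => Nat.not_even_iff_odd.2 hSy.2.2 (even_iff_two_dvd.2 h))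
  have hJ'p : IsPGroup 2 (J'.subgroupOf N) :=
    ((Z.set.hT.map _).to_le (CfsgLib.Transfer.thompsonJ_le 2 T')).comap_of_injective N.subtype N.subtype_injective
  obtain ⟨P', hP'⟩ := hJ'p.exists_le_sylow
  obtain ⟨h, rfl⟩ := MulAction.exists_smul_eq N P P'
  have hSh : J' ≤ S.map (MulAut.conj (h : G)).toMonoidHom := by
    intro x hx
    obtain ⟨t, ht, e⟩ := Subgroup.mem_map.1 (hP' (show (⟨x, hle hx⟩ : N) ∈ J'.subgroupOf N from hx))
    exact ⟨t, ht, congrArg Subtype.val e⟩
  refine component_conj Z.zero.1 (h := (h : G)) ?_ ?_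
  · rw [Z.normalizer_eq]; exact h.2
  show J' = J.map _
  rw [← hJSeq, CfsgLib.Transfer.map_thompsonJ 2 _ (MulAut.conj (h : G)).injective.injOn]
  set S' := S.map (MulAut.conj (h : G)).toMonoidHom with hS'
  have hcard : Nat.card J' = Nat.card (CfsgLib.Transfer.thompsonJ 2 S') := by
    rw [hS', ← CfsgLib.Transfer.map_thompsonJ 2 _ (MulAut.conj (h : G)).injective.injOn, hJSeq, hJJ',
      Subgroup.card_map_of_injective (MulAut.conj g).injective,
      Subgroup.card_map_of_injective (MulAut.conj (h : G)).injective]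
  refine Subgroup.eq_of_le_of_card_ge (sSup_le fun A hA => ?_) hcard.ge
  refine le_sSup ⟨(le_sSup hA : A ≤ J').trans hSh, hA.2.1, fun B hB hBe => ?_⟩
  -- bound the order of `B`
  obtain ⟨B₀, hB₀⟩ := CfsgLib.Transfer.thompsonJ_nonempty 2 S
  have e1 : Nat.card B ≤ Nat.card B₀ := by
    let f := (MulAut.conj (h : G)⁻¹).toMonoidHom
    have hB' : B.map f ≤ S := by
      rintro _ ⟨b, hb, rfl⟩
      obtain ⟨s, hs, e⟩ := hB hb
      rw [← e]; simpa [f, mul_assoc] using hs
    have := hB₀.2.2 _ hB' ((CfsgLib.Transfer.isAbExp_map_iff 2 f (MulAut.conj (h : G)⁻¹).injective.injOn).2 hBe)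
    rwa [CfsgLib.Transfer.card_map_of_injOn f (MulAut.conj (h : G)⁻¹).injective.injOn] at this
  refine e1.trans ?_
  let f := (MulAut.conj g).toMonoidHom
  have hB₀T : B₀ ≤ T := ((le_sSup hB₀).trans hJSeq.le).trans (CfsgLib.Transfer.thompsonJ_le 2 T)
  have := hA.2.2 (B₀.map f) (Subgroup.map_mono hB₀T)
    ((CfsgLib.Transfer.isAbExp_map_iff 2 f (MulAut.conj g).injective.injOn).2 hB₀.2.1)
  rwa [CfsgLib.Transfer.card_map_of_injOn f (MulAut.conj g).injective.injOn] at this

end CfsgLib.JComp
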